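import Mathlib.GroupTheory.Transfer
import Cfsg.Agent.Lib.Frobenius.Complement

/-!
A self-normalising TI abelian `p`-subgroup which is proper is cyclic.
-/

set_option autoImplicit false

namespace Cfsg.Agent.Lib.SubfieldMax.TI

open scoped Pointwise

/-- A proper abelian `p`-subgroup whose non-trivial elements are conjugated into it only by its
own elements has cyclic structure. -/
theorem isCyclic_of_ti {G : Type*} [Group G] [Finite G] {p : ℕ} [Fact p.Prime] (Q : Subgroup G)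
    (hQ : IsPGroup p Q) (hcomm : IsMulCommutative Q) (hne : Q ≠ ⊤) (hbot : Q ≠ ⊥)
    (hTI : ∀ g : G, ∀ q ∈ Q, q ≠ 1 → g * q * g⁻¹ ∈ Q → g ∈ Q) : IsCyclic Q := by
  have hfrob : Cfsg.IsFrobeniusComplement Q := by
    rw [Cfsg.Agent.Lib.Frobenius.isFrobeniusComplement_iff]
    refine ⟨hbot, hne, fun g hg x hx hxg => by_contra fun hx1 => hg ?_⟩
    have := hTI g⁻¹ x hx hx1 (by rwa [inv_inv])
    simpa using Q.inv_mem this
  obtain ⟨P, hQP⟩ := hQ.exists_le_sylow
  obtain ⟨⟨q0, hq0⟩, hq0'⟩ := Subgroup.ne_bot_iff_exists_ne_one.1 hbot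
  have hq01 : q0 ≠ 1 := fun h => hq0' (Subtype.ext h)
  have hnorm : ∀ g ∈ Subgroup.normalizer (Q : Set G), g ∈ Q := fun g hg =>
    hTI g q0 hq0 hq01 ((Subgroup.mem_normalizer_iff.1 hg q0).1 hq0)
  have hPQ : (P : Subgroup G) = Q := by
    refine le_antisymm ?_ hQP
    by_contra hle
    haveI : Group.IsNilpotent (P : Subgroup G) := P.2.isNilpotent
    have hlt : Q.subgroupOf (P : Subgroup G) < ⊤ := by
      rw [lt_top_iff_ne_top, Ne, Subgroup.subgroupOf_eq_top]
      exact hle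
    obtain ⟨x, hx, hxQ⟩ := SetLike.exists_of_lt
      (Group.normalizerCondition_of_isNilpotent _ hlt)
    refine hxQ (Subgroup.mem_subgroupOf.2 (hnorm x.1 ?_))
    rw [Subgroup.mem_normalizer_iff]
    intro y
    constructor
    · intro hy
      exact Subgroup.mem_subgroupOf.1 ((Subgroup.mem_normalizer_iff.1 hx ⟨y, hQP hy⟩).1
        (Subgroup.mem_subgroupOf.2 hy))
    · intro hy
      have hyP : y ∈ (P : Subgroup G) := by
        have h1 : (x : G)⁻¹ * ((x : G) * y * (x : G)⁻¹) * (x : G) ∈ (P : Subgroup G) :=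
          mul_mem (mul_mem (inv_mem x.2) (hQP hy)) x.2
        simpa [mul_assoc] using h1
      exact Subgroup.mem_subgroupOf.1 ((Subgroup.mem_normalizer_iff.1 hx ⟨y, hyP⟩).2
        (Subgroup.mem_subgroupOf.2 hy))
  have hP : Subgroup.normalizer (P : Set G) ≤ Subgroup.centralizer (P : Set G) := by
    intro g hg
    have hg' : g ∈ Q := hnorm g (by rw [← hPQ]; exact hg)
    rw [Subgroup.mem_centralizer_iff]
    intro y hy
    have hy' : y ∈ Q := hPQ ▸ hy
    exact congrArg Subtype.val (mul_comm' (⟨y, hy'⟩ : Q) ⟨g, hg'⟩)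
  have hc : Subgroup.IsComplement' (MonoidHom.transferSylow P hP).ker Q :=
    hPQ ▸ MonoidHom.ker_transferSylow_isComplement' P hP
  haveI : IsMulCommutative (⊤ : Subgroup Q) := ⟨⟨fun a b => Subtype.ext (mul_comm' a.1 b.1)⟩⟩
  haveI : IsCyclic (⊤ : Subgroup Q) :=
    Cfsg.Agent.Lib.Frobenius.isCyclic_of_commutative_complement hfrob hc
  exact Subgroup.topEquiv.isCyclic.1 inferInstance

end Cfsg.Agent.Lib.SubfieldMax.TI
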