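import Mathlib.Algebra.Algebra.Subalgebra.IsSimpleOrder
import Cfsg.Agent.Lib.Subspaces.Transvection
import Cfsg.Agent.Lib.Linear.FusionPSL
import Cfsg.Agent.Lib.SubfieldMax.TI

/-!
Subfield subgroups of `SL_n` are maximal when the extension degree is prime (`n ≥ 4`).
-/

set_option autoImplicit false

namespace Cfsg.Agent.Lib.SubfieldMax.Linear

open Matrix Cfsg.Agent.Lib.Subspaces.Transvection

variable {n : ℕ} {F : Type*} [Field F]

local notation "Vec" => Fin n → F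
local notation "Mat" => Matrix (Fin n) (Fin n) F
local notation "G" => GL (Fin n) F

section General

variable {ι : Type} [Fintype ι]

/-- All entries lie in the subfield. -/
def Rat (F₀ : Subfield F) (v : ι → F) : Prop := ∀ i, v i ∈ F₀

variable {F₀ : Subfield F}

omit [Fintype ι] in
theorem Rat.single [DecidableEq ι] (i : ι) {c : F} (hc : c ∈ F₀) :
    Rat F₀ (Pi.single i c : ι → F) := fun j => by
  by_cases h : j = i
  · subst h; simpa using hc
  · rw [Pi.single_eq_of_ne h]; exact zero_mem F₀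

theorem Rat.smul {v : ι → F} (h : Rat F₀ v) {c : F} (hc : c ∈ F₀) : Rat F₀ (c • v) :=
  fun i => mul_mem hc (h i)

theorem Rat.sub {v w : ι → F} (h : Rat F₀ v) (h' : Rat F₀ w) : Rat F₀ (v - w) :=
  fun i => sub_mem (h i) (h' i)

theorem Rat.dot {v w : ι → F} (h : Rat F₀ v) (h' : Rat F₀ w) : v ⬝ᵥ w ∈ F₀ :=
  sum_mem fun i _ => mul_mem (h i) (h' i)

/-- Fewer than `n` rational vectors have a common rational non-zero annihilator. -/
theorem exists_rat_orth {k : ℕ} (hk : k < Fintype.card ι) (u : Fin k → ι → F) (hu : ∀ i, Rat F₀ (u i)) :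
    ∃ χ : ι → F, Rat F₀ χ ∧ χ ≠ 0 ∧ ∀ i, χ ⬝ᵥ u i = 0 := by
  classical
  let A : Matrix (Fin k) ι F₀ := Matrix.of fun i j => ⟨u i j, hu i j⟩
  have hlt : Module.finrank F₀ (Fin k → F₀) < Module.finrank F₀ (ι → F₀) := by simpa using hk
  obtain ⟨x, hx, hx0⟩ := Submodule.exists_mem_ne_zero_of_ne_bot
    (LinearMap.ker_ne_bot_of_finrank_lt (f := Matrix.toLin' A) hlt)
  rw [LinearMap.mem_ker, Matrix.toLin'_apply] at hx
  refine ⟨fun j => (x j : F), fun j => (x j).2, ?_, fun i => ?_⟩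
  · intro h; exact hx0 (funext fun j => Subtype.ext (congrFun h j))
  · have := congrArg (fun z : F₀ => (z : F)) (congrFun hx i)
    simp only [mulVec, dotProduct, A, Matrix.of_apply, Pi.zero_apply, AddSubmonoidClass.coe_finsetSum,
      MulMemClass.coe_mul, ZeroMemClass.coe_zero] at this
    rw [← this, dotProduct]
    exact Finset.sum_congr rfl fun j _ => mul_comm _ _

end General

variable {F₀ : Subfield F}

theorem tv_comm {v w ψ φ : Vec} (h1 : ψ ⬝ᵥ v = 0) (h2 : φ ⬝ᵥ w = 0) (h3 : φ ⬝ᵥ v = 0) :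
    tv v ψ * tv w φ * (tv v ψ)⁻¹ * (tv w φ)⁻¹ = tv v ((ψ ⬝ᵥ w) • φ) := by
  have hc : φ ᵥ* (((tv v ψ)⁻¹ : G) : Mat) = φ := by
    rw [tv_inv h1, coe_tv (by rw [neg_dotProduct, h1, neg_zero]), vecMul_add, vecMul_one, vecMul_vecMulVec,
      h3]
    simp
  rw [conj_tv _ h2, hc, tv_mulVec h1, tv_inv h2]
  have h4 : φ ⬝ᵥ (w + (ψ ⬝ᵥ w) • v) = 0 := by simp [h2, h3]
  have e : tv w (-φ) = tv (-w) φ := by
    rw [show (-w) = (-1 : F) • w by simp, tv_smul h2]; simp
  rw [e, tv_mul_axis h4 (by rw [dotProduct_neg, h2, neg_zero]), ← tv_smul h3]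
  congr 1
  abel

/-- The subgroup has a transvection with rational centre and axis and irrational parameter. -/
def Good (F₀ : Subfield F) (M : Subgroup (GL (Fin n) F)) : Prop :=
  ∃ (v φ : Fin n → F) (c : F), Rat F₀ v ∧ Rat F₀ φ ∧ v ≠ 0 ∧ φ ≠ 0 ∧ φ ⬝ᵥ v = 0 ∧ c ∉ F₀ ∧
    tv v (c • φ) ∈ M

variable {M : Subgroup (GL (Fin n) F)}

/-- The subgroup contains the rational elements of determinant one. -/
def ContainsRat (F₀ : Subfield F) (M : Subgroup (GL (Fin n) F)) : Prop :=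
  ∀ s : Matrix.SpecialLinearGroup (Fin n) F₀,
    Matrix.SpecialLinearGroup.toGL (Matrix.SpecialLinearGroup.map F₀.subtype s) ∈ M

theorem map_pair_aux (f : F₀ →+* F) {u e : Fin n → F₀} :
    (vecMulVec u e).map f = vecMulVec (f ∘ u) (f ∘ e) := by
  ext i j; simp [vecMulVec_apply]

theorem transitive (hn : 3 ≤ n) (hM : ContainsRat F₀ M) {v φ v' φ' : Vec} {c : F} (hv : Rat F₀ v)
    (hφ : Rat F₀ φ) (hv0 : v ≠ 0) (hφ0 : φ ≠ 0) (h : φ ⬝ᵥ v = 0) (hv' : Rat F₀ v') (hφ' : Rat F₀ φ')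
    (hv'0 : v' ≠ 0) (hφ'0 : φ' ≠ 0) (h' : φ' ⬝ᵥ v' = 0) (hc : tv v (c • φ) ∈ M) :
    tv v' (c • φ') ∈ M := by
  classical
  have hpair : ∀ {v φ : Vec} (hv : Rat F₀ v) (hφ : Rat F₀ φ), v ≠ 0 → φ ≠ 0 → φ ⬝ᵥ v = 0 →
      Cfsg.Agent.Lib.AutPSL.IsPair (F := F₀) (fun i => ⟨v i, hv i⟩) (fun i => ⟨φ i, hφ i⟩) := by
    intro v φ hv hφ hv0 hφ0 h
    refine ⟨fun e => hv0 (funext fun i => congrArg Subtype.val (congrFun e i)),
      fun e => hφ0 (funext fun i => congrArg Subtype.val (congrFun e i)), Subtype.ext ?_⟩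
    simp only [dotProduct, AddSubmonoidClass.coe_finsetSum, MulMemClass.coe_mul, ZeroMemClass.coe_zero]
    exact h
  obtain ⟨s, hs⟩ := Cfsg.Agent.Lib.Linear.FusionPSL.exists_conj_pair hn (hpair hv hφ hv0 hφ0 h)
    (hpair hv' hφ' hv'0 hφ'0 h')
  set g : G := Matrix.SpecialLinearGroup.toGL (Matrix.SpecialLinearGroup.map F₀.subtype s) with hg
  have hgM : g ∈ M := hM s
  suffices g * tv v (c • φ) * g⁻¹ = tv v' (c • φ') by
    rw [← this]; exact M.mul_mem (M.mul_mem hgM hc) (M.inv_mem hgM)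
  have hf := congrArg (fun x : Matrix.SpecialLinearGroup (Fin n) F₀ =>
    ((x : Matrix (Fin n) (Fin n) F₀)).map F₀.subtype) hs
  simp only [Matrix.SpecialLinearGroup.coe_mul, Matrix.map_mul,
    Cfsg.Agent.Lib.AutPSL.coe_tv (hpair hv hφ hv0 hφ0 h).orth,
    Cfsg.Agent.Lib.AutPSL.coe_tv (hpair hv' hφ' hv'0 hφ'0 h').orth,
    Matrix.map_add _ (map_add F₀.subtype), Matrix.map_one _ (map_zero F₀.subtype) (map_one F₀.subtype),
    map_pair_aux] at hf
  have hgc : (g : Mat) = (s : Matrix (Fin n) (Fin n) F₀).map F₀.subtype := rfl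
  have hgi : ((g⁻¹ : G) : Mat) = ((s⁻¹ : Matrix.SpecialLinearGroup (Fin n) F₀) : Matrix (Fin n) (Fin n) F₀).map F₀.subtype := by
    rw [hg, ← map_inv, ← map_inv]; rfl
  have hone : (g : Mat) * ((g⁻¹ : G) : Mat) = 1 := by rw [← Units.val_mul, mul_inv_cancel, Units.val_one]
  rw [← hgc, ← hgi, Matrix.mul_add, Matrix.add_mul, Matrix.mul_one, hone, add_right_inj] at hf
  apply Units.ext
  rw [Units.val_mul, Units.val_mul, coe_tv (by rw [smul_dotProduct, h, smul_zero]),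
    coe_tv (by rw [smul_dotProduct, h', smul_zero]), Matrix.mul_add, Matrix.add_mul, Matrix.mul_one, hone,
    vecMulVec_smul, vecMulVec_smul, Matrix.mul_smul, Matrix.smul_mul]
  exact congrArg (fun X => 1 + c • X) hf

theorem specialLinear_le_of_good [Finite F] (hn : 3 ≤ n) {r : ℕ} (hr : r.Prime)
    (hcard : Nat.card F = Nat.card F₀ ^ r) (hM : ContainsRat F₀ M) (hr0 : ∀ v φ : Fin n → F,
      Rat F₀ v → Rat F₀ φ → φ ⬝ᵥ v = 0 → tv v φ ∈ M) (hgood : Good F₀ M) :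
    Cfsg.Geo.specialLinear (Fin n) F ≤ M := by
  classical
  obtain ⟨v, φ, c, hv, hφ, hv0, hφ0, h, hc, hmem⟩ := hgood
  set i : Fin n := ⟨0, by omega⟩
  set j : Fin n := ⟨1, by omega⟩
  set k : Fin n := ⟨2, by omega⟩
  have hij : i ≠ j := fun e => by simp [i, j, Fin.ext_iff] at e
  have hik : i ≠ k := fun e => by simp [i, k, Fin.ext_iff] at e
  have hjk : j ≠ k := fun e => by simp [j, k, Fin.ext_iff] at e
  let Λ : Subalgebra F₀ F :=
    { carrier := {x | ∀ v φ : Vec, Rat F₀ v → Rat F₀ φ → v ≠ 0 → φ ≠ 0 → φ ⬝ᵥ v = 0 → tv v (x • φ) ∈ M}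
      add_mem' := fun {x y} hx hy v φ hv hφ hv0 hφ0 h => by
        rw [add_smul, ← tv_mul_center (by rw [smul_dotProduct, h, smul_zero]) (by rw [smul_dotProduct, h, smul_zero])]
        exact M.mul_mem (hx v φ hv hφ hv0 hφ0 h) (hy v φ hv hφ hv0 hφ0 h)
      mul_mem' := fun {x y} hx hy v φ hv hφ hv0 hφ0 h => by
        have h1 := hx (Pi.single i 1) (Pi.single j 1) (Rat.single _ (one_mem _)) (Rat.single _ (one_mem _))
          (by simp) (by simp) (by simp [hij])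
        have h2 := hy (Pi.single j 1) (Pi.single k 1) (Rat.single _ (one_mem _)) (Rat.single _ (one_mem _))
          (by simp) (by simp) (by simp [hjk])
        have h3 := tv_comm (v := Pi.single i (1 : F)) (w := Pi.single j 1) (ψ := x • Pi.single j 1)
          (φ := y • Pi.single k 1) (by simp [hij]) (by simp [hjk]) (by simp [hik])
        have h4 := M.mul_mem (M.mul_mem (M.mul_mem h1 h2) (M.inv_mem h1)) (M.inv_mem h2)
        rw [h3] at h4
        simp only [smul_dotProduct, single_dotProduct, Pi.single_eq_same, mul_one, smul_eq_mul, smul_smul] at h4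
        exact transitive hn hM (Rat.single _ (one_mem _)) (Rat.single _ (one_mem _)) (by simp) (by simp)
          (by simp [hik]) hv hφ hv0 hφ0 h h4
      algebraMap_mem' := fun x v φ hv hφ _ _ h => by
        refine hr0 v _ hv (hφ.smul x.2) ?_
        rw [smul_dotProduct, h, smul_zero] }
  have hrank : Module.finrank F₀ F = r := by
    have h1 := Module.natCard_eq_pow_finrank (K := F₀) (V := F)
    rw [hcard] at h1
    exact (Nat.pow_right_injective (Finite.one_lt_card (α := F₀)) h1).symm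
  haveI := Subalgebra.isSimpleOrder_of_finrank_prime F₀ F (hrank ▸ hr)
  have hΛ : Λ = ⊤ := by
    refine (eq_bot_or_eq_top Λ).resolve_left fun hb => hc ?_
    have hcΛ : c ∈ Λ := fun v' φ' hv' hφ' hv'0 hφ'0 h' =>
      transitive hn hM hv hφ hv0 hφ0 h hv' hφ' hv'0 hφ'0 h' hmem
    rw [hb, Algebra.mem_bot] at hcΛ
    obtain ⟨x, rfl⟩ := hcΛ
    exact x.2
  have hfull : ∀ i : Fin n, FullCenter M (Pi.single i 1) := by
    intro i φ hφ
    have hφi : φ i = 0 := by simpa using hφ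
    let A : AddSubmonoid Vec :=
      { carrier := {ψ | ψ i = 0 ∧ tv (Pi.single i 1) ψ ∈ M}
        zero_mem' := ⟨rfl, by rw [tv_zero_right]; exact M.one_mem⟩
        add_mem' := fun {a b} ha hb => ⟨by simp [ha.1, hb.1], by
          rw [← tv_mul_center (by simp [ha.1]) (by simp [hb.1])]; exact M.mul_mem ha.2 hb.2⟩ }
    have hmemA : φ ∈ A := by
      rw [← Finset.univ_sum_single φ]
      refine sum_mem fun l _ => ?_
      rcases eq_or_ne l i with rfl | hl
      · rw [hφi, Pi.single_zero]; exact A.zero_mem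
      · refine ⟨by simp [hl.symm], ?_⟩
        have : φ l ∈ Λ := hΛ ▸ Algebra.mem_top
        have h1 := this (Pi.single i 1) (Pi.single l 1) (Rat.single _ (one_mem _)) (Rat.single _ (one_mem _))
          (by simp) (by simp) (by simp [hl.symm])
        rwa [← Pi.single_smul, smul_eq_mul, mul_one] at h1
    exact hmemA.2
  refine specialLinear_le_of_fullCenter fun w => (mem_fullCenters (M := M)).1 ?_
  rw [← Finset.univ_sum_single w]
  refine sum_mem fun l _ => ?_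
  have := (fullCenters M).smul_mem (w l) ((mem_fullCenters (M := M)).2 (hfull l))
  rwa [← Pi.single_smul, smul_eq_mul, mul_one] at this

section NotGood

variable (hn : 4 ≤ n) (hr0 : ∀ v φ : Fin n → F, Rat F₀ v → Rat F₀ φ → φ ⬝ᵥ v = 0 → tv v φ ∈ M)
  (hnot : ¬ Good F₀ M)
include hn hr0 hnot

theorem rat_of_center {v ψ : Vec} (hv : Rat F₀ v) (hv0 : v ≠ 0) (h : ψ ⬝ᵥ v = 0) (hm : tv v ψ ∈ M) :
    Rat F₀ ψ := by
  intro j
  by_contra hj
  obtain ⟨φ, hφ, hφ0, horth⟩ := exists_rat_orth (F₀ := F₀) (show 2 < Fintype.card (Fin n) by rw [Fintype.card_fin]; omega) ![v, Pi.single j 1]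
    (fun i => by fin_cases i; exacts [hv, Rat.single j (one_mem _)])
  have h1 : φ ⬝ᵥ v = 0 := horth 0
  have h2 : φ ⬝ᵥ Pi.single j 1 = 0 := horth 1
  have hw := hr0 _ φ (Rat.single j (one_mem _)) hφ h2
  have h4 := M.mul_mem (M.mul_mem (M.mul_mem hm hw) (M.inv_mem hm)) (M.inv_mem hw)
  rw [tv_comm h h2 h1, dotProduct_single, mul_one] at h4
  exact hnot ⟨v, φ, ψ j, hv, hφ, hv0, hφ0, h1, hj, h4⟩

theorem rat_of_axis {a φ : Vec} (hφ : Rat F₀ φ) (hφ0 : φ ≠ 0) (h : φ ⬝ᵥ a = 0) (hm : tv a φ ∈ M) :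
    Rat F₀ a := by
  intro j
  by_contra hj
  obtain ⟨w, hw, hw0, horth⟩ := exists_rat_orth (F₀ := F₀) (show 2 < Fintype.card (Fin n) by rw [Fintype.card_fin]; omega) ![φ, Pi.single j 1]
    (fun i => by fin_cases i; exacts [hφ, Rat.single j (one_mem _)])
  have h1 : φ ⬝ᵥ w = 0 := by rw [dotProduct_comm]; exact horth 0
  have h2 : (Pi.single j 1 : Vec) ⬝ᵥ w = 0 := by rw [dotProduct_comm]; exact horth 1
  have hχ := hr0 w (Pi.single j 1) hw (Rat.single j (one_mem _)) h2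
  have h4 := M.mul_mem (M.mul_mem (M.mul_mem hχ hm) (M.inv_mem hχ)) (M.inv_mem hm)
  rw [tv_comm h2 h h1, single_dotProduct, one_mul] at h4
  exact hnot ⟨w, φ, a j, hw, hφ, hw0, hφ0, h1, hj, h4⟩

/-- A transvection of the subgroup with a rational form annihilating its centre is rational. -/
theorem rat_of_orth {a ψ χ : Vec} (h : ψ ⬝ᵥ a = 0) (ha0 : a ≠ 0) (hψ0 : ψ ≠ 0) (hm : tv a ψ ∈ M)
    (hχ : Rat F₀ χ) (hχ0 : χ ≠ 0) (horth : χ ⬝ᵥ a = 0) : ∃ c : F, c ≠ 0 ∧ Rat F₀ (c • a) := by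
  obtain ⟨i, hi⟩ := Function.ne_iff.1 hχ0
  simp only [Pi.zero_apply] at hi
  by_cases hex : ∃ w, Rat F₀ w ∧ χ ⬝ᵥ w = 0 ∧ ψ ⬝ᵥ w ≠ 0
  · obtain ⟨w, hw, hwχ, hwψ⟩ := hex
    have hw' := hr0 w χ hw hχ hwχ
    have h4 := M.mul_mem (M.mul_mem (M.mul_mem hm hw') (M.inv_mem hm)) (M.inv_mem hw')
    rw [tv_comm h hwχ horth, ← tv_smul horth] at h4
    exact ⟨_, hwψ, rat_of_axis hn hr0 hnot hχ hχ0 (by rw [dotProduct_smul, horth, smul_zero]) h4⟩
  · push Not at hex
    have hψ : ψ = (ψ i / χ i) • χ := by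
      funext j
      have h1 := hex (χ i • Pi.single j 1 - χ j • Pi.single i 1)
        (((Rat.single j (one_mem _)).smul (hχ i)).sub ((Rat.single i (one_mem _)).smul (hχ j)))
        (by simp [dotProduct_sub, mul_comm])
      simp [dotProduct_sub] at h1
      rw [Pi.smul_apply, smul_eq_mul, div_mul_eq_mul_div, eq_div_iff hi]
      linear_combination h1
    have hc : ψ i / χ i ≠ 0 := fun h0 => hψ0 (by rw [hψ, h0, zero_smul])
    refine ⟨_, hc, rat_of_axis hn hr0 hnot hχ hχ0 (by rw [dotProduct_smul, horth, smul_zero]) ?_⟩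
    rw [tv_smul horth, ← hψ]
    exact hm

/-- An element of the subgroup mapping a rational point to a rational point is rational. -/
theorem exists_rat_scalar {g : G} (hg : g ∈ M) {v : Vec} (hv : Rat F₀ v) (hv0 : v ≠ 0) {c : F}
    (hc : c ≠ 0) (hgv : Rat F₀ (c • ((g : Mat) *ᵥ v))) : ∀ i j, c * (g : Mat) i j ∈ F₀ := by
  intro i j
  obtain ⟨φ, hφ, hφ0, horth⟩ := exists_rat_orth (F₀ := F₀) (show 2 < Fintype.card (Fin n) by rw [Fintype.card_fin]; omega) ![v, Pi.single j 1]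
    (fun i => by fin_cases i; exacts [hv, Rat.single j (one_mem _)])
  have h1 : φ ⬝ᵥ v = 0 := horth 0
  have h2 : φ ⬝ᵥ Pi.single j 1 = 0 := horth 1
  set φ' : Vec := φ ᵥ* ((g⁻¹ : G) : Mat)
  have hφ'0 : φ' ≠ 0 := by
    intro h0
    apply hφ0
    have : φ' ᵥ* (g : Mat) = φ := by rw [vecMul_vecMul, ← Units.val_mul, inv_mul_cancel, Units.val_one, vecMul_one]
    rw [← this, h0, zero_vecMul]
  have hgv0 : (g : Mat) *ᵥ v ≠ 0 := fun h0 => hv0 (gl_mulVec_injective g (by simpa using h0))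
  have hd1 : φ' ⬝ᵥ ((g : Mat) *ᵥ v) = 0 := by rw [vecMul_dot, h1]
  have hd2 : φ' ⬝ᵥ ((g : Mat) *ᵥ Pi.single j 1) = 0 := by rw [vecMul_dot, h2]
  have hm1 : tv ((g : Mat) *ᵥ v) φ' ∈ M := by
    rw [← conj_tv g h1]
    exact M.mul_mem (M.mul_mem hg (hr0 v φ hv hφ h1)) (M.inv_mem hg)
  have hm2 : tv ((g : Mat) *ᵥ Pi.single j 1) φ' ∈ M := by
    rw [← conj_tv g h2]
    exact M.mul_mem (M.mul_mem hg (hr0 _ φ (Rat.single j (one_mem _)) hφ h2)) (M.inv_mem hg)
  have hax : Rat F₀ (c⁻¹ • φ') := by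
    refine rat_of_center hn hr0 hnot hgv (smul_ne_zero hc hgv0) (by simp [hd1]) ?_
    rw [tv_smul (by simp [hd1]), smul_smul, mul_inv_cancel₀ hc, one_smul]
    exact hm1
  have := rat_of_axis hn hr0 hnot (a := c • ((g : Mat) *ᵥ Pi.single j 1)) hax
    (smul_ne_zero (inv_ne_zero hc) hφ'0) (by rw [smul_dotProduct, dotProduct_smul, hd2, smul_zero, smul_zero])
    (by rw [tv_smul (by rw [smul_dotProduct, hd2, smul_zero]), smul_smul, mul_inv_cancel₀ hc, one_smul]
        exact hm2) i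
  simpa [mulVec_single_one] using this

/-- Without a good transvection the subgroup is rational up to scalars. -/
theorem rational_of_not_good [Finite F] (hdet : ∀ g ∈ M, (g : Mat).det = 1) {g : G} (hg : g ∈ M) :
    ∃ c : F, c ≠ 0 ∧ ∀ i j, c * (g : Mat) i j ∈ F₀ := by
  classical
  by_contra hcon
  push Not at hcon
  set i0 : Fin n := ⟨0, by omega⟩
  set i1 : Fin n := ⟨1, by omega⟩
  set i2 : Fin n := ⟨2, by omega⟩
  have h01 : i0 ≠ i1 := fun e => by simp [i0, i1, Fin.ext_iff] at e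
  have h02 : i0 ≠ i2 := fun e => by simp [i0, i2, Fin.ext_iff] at e
  have h12 : i1 ≠ i2 := fun e => by simp [i1, i2, Fin.ext_iff] at e
  set e : Vec := Pi.single i0 1 with he
  have heR : Rat F₀ e := Rat.single _ (one_mem _)
  have he0 : e ≠ 0 := by simp [e]
  set a : Vec := (g : Mat) *ᵥ e with ha
  have hirr : ∀ c : F, c ≠ 0 → ¬ Rat F₀ (c • a) := fun c hc h => by
    obtain ⟨i, j, hij⟩ := hcon c hc
    exact hij (exists_rat_scalar hn hr0 hnot hg heR he0 hc h i j)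
  have ha0 : a ≠ 0 := fun h0 => hirr 1 one_ne_zero (by rw [one_smul, h0]; exact fun _ => zero_mem F₀)
  set ψ : Vec := Pi.single i1 1 ᵥ* ((g⁻¹ : G) : Mat) with hψ
  have he1 : (Pi.single i1 1 : Vec) ⬝ᵥ e = 0 := by simp [e, h01]
  have hψa : ψ ⬝ᵥ a = 0 := by rw [hψ, ha, vecMul_dot, he1]
  have hψ0 : ψ ≠ 0 := fun h0 => by
    have h' : ψ ᵥ* (g : Mat) = Pi.single i1 1 := by
      rw [hψ, vecMul_vecMul, ← Units.val_mul, inv_mul_cancel, Units.val_one, vecMul_one]
    rw [h0, zero_vecMul] at h'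
    have h'' := congrFun h' i1
    simp at h''
  set t : G := tv a ψ with ht
  have htM : t ∈ M := by
    rw [ht, ha, hψ, ← conj_tv g he1]
    exact M.mul_mem (M.mul_mem hg (hr0 e _ heR (Rat.single _ (one_mem _)) he1)) (M.inv_mem hg)
  have hNC : ∀ χ : Vec, Rat F₀ χ → χ ≠ 0 → χ ⬝ᵥ a ≠ 0 := fun χ hχ hχ0 h => by
    obtain ⟨c, hc, hca⟩ := rat_of_orth hn hr0 hnot hψa ha0 hψ0 htM hχ hχ0 h
    exact hirr c hc hca
  -- elements acting trivially modulo the span of `e` and `a`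
  let W : Submodule F Vec := Submodule.span F {e, a}
  let K0 : Subgroup G :=
    { carrier := {x | ∀ v, (x : Mat) *ᵥ v - v ∈ W}
      one_mem' := fun v => by simp
      mul_mem' := fun {x y} hx hy v => by
        rw [gl_mul_mulVec, ← sub_add_sub_cancel _ ((y : Mat) *ᵥ v) v]
        exact W.add_mem (hx _) (hy v)
      inv_mem' := fun {x} hx v => by
        have := W.neg_mem (hx (((x⁻¹ : G) : Mat) *ᵥ v))
        rwa [gl_mulVec_inv, neg_sub] at this }
  let K : Subgroup G := K0 ⊓ M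
  have htK : t ∈ K := ⟨fun v => by
    rw [ht, tv_mulVec hψa, add_sub_cancel_left]
    exact W.smul_mem _ (Submodule.subset_span (by simp)), htM⟩
  have hQK : ∀ φ : Vec, Rat F₀ φ → φ ⬝ᵥ e = 0 → tv e φ ∈ K := fun φ hφ h => ⟨fun v => by
    rw [tv_mulVec h, add_sub_cancel_left]
    exact W.smul_mem _ (Submodule.subset_span (by simp)), hr0 e φ heR hφ h⟩
  let Q : Subgroup K :=
    { carrier := {x | ∃ φ : Vec, Rat F₀ φ ∧ φ ⬝ᵥ e = 0 ∧ (x : G) = tv e φ}
      one_mem' := ⟨0, fun _ => zero_mem F₀, zero_dotProduct e, by simp [tv_zero_right]⟩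
      mul_mem' := by
        rintro x y ⟨φ, hφ, h, hx⟩ ⟨φ', hφ', h', hy⟩
        exact ⟨φ + φ', fun i => add_mem (hφ i) (hφ' i), by rw [add_dotProduct, h, h', add_zero],
          by rw [Subgroup.coe_mul, hx, hy, tv_mul_center h h']⟩
      inv_mem' := by
        rintro x ⟨φ, hφ, h, hx⟩
        exact ⟨-φ, fun i => neg_mem (hφ i), by rw [neg_dotProduct, h, neg_zero],
          by rw [Subgroup.coe_inv, hx, tv_inv h]⟩ }
  -- rational elements of `K` lie in `Q`
  have hKQ : ∀ x : K, (∃ c : F, c ≠ 0 ∧ ∀ i j, c * ((x : G) : Mat) i j ∈ F₀) → x ∈ Q := by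
    rintro ⟨x, hxK0, hxM⟩ ⟨c, hc, hx⟩
    have hdiff : ∀ v : Vec, Rat F₀ v → ∃ z : F, (x : Mat) *ᵥ v - v = z • e := by
      intro v hv
      obtain ⟨z, y, hzy⟩ := Submodule.mem_span_pair.1 (hxK0 v)
      have hcv : Rat F₀ (c • ((x : Mat) *ᵥ v)) := fun i => by
        rw [Pi.smul_apply, smul_eq_mul, mulVec, dotProduct, Finset.mul_sum]
        exact sum_mem fun j _ => by rw [← mul_assoc]; exact mul_mem (hx i j) (hv j)
      obtain ⟨χ, hχ, hχ0, horth⟩ := exists_rat_orth (F₀ := F₀) (show 3 < Fintype.card (Fin n) by rw [Fintype.card_fin]; omega)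
        ![e, v, c • ((x : Mat) *ᵥ v)] (fun i => by fin_cases i; exacts [heR, hv, hcv])
      have o1 : χ ⬝ᵥ e = 0 := horth 0
      have o2 : χ ⬝ᵥ v = 0 := horth 1
      have o3 : χ ⬝ᵥ (c • ((x : Mat) *ᵥ v)) = 0 := horth 2
      rw [dotProduct_smul, smul_eq_mul, mul_eq_zero] at o3
      have h5 := congrArg (fun u => χ ⬝ᵥ u) hzy
      simp only [dotProduct_add, dotProduct_smul, dotProduct_sub, o1, o2, o3.resolve_left hc, smul_eq_mul,
        mul_zero, zero_add, sub_zero] at h5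
      exact ⟨z, by rw [← hzy, (mul_eq_zero.1 h5).resolve_right (hNC χ hχ hχ0), zero_smul, add_zero]⟩
    have hrow : ∀ i j, i ≠ i0 → (x : Mat) i j = (1 : Mat) i j := by
      intro i j hi
      obtain ⟨z, hz⟩ := hdiff (Pi.single j 1) (Rat.single _ (one_mem _))
      have := congrFun hz i
      simp [e, mulVec_single_one, hi, sub_eq_zero] at this
      rw [this]
      simp [Matrix.one_apply, Pi.single_apply]
    have hcF : c ∈ F₀ := by
      have := hx i1 i1
      rwa [hrow i1 i1 h01.symm, Matrix.one_apply_eq, mul_one] at this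
    have hxR : ∀ i j, (x : Mat) i j ∈ F₀ := fun i j => by
      have := mul_mem (inv_mem hcF) (hx i j)
      rwa [← mul_assoc, inv_mul_cancel₀ hc, one_mul] at this
    set φ : Vec := fun j => (x : Mat) i0 j - (1 : Mat) i0 j
    have hmat : (x : Mat) = 1 + vecMulVec e φ := by
      ext i j
      by_cases hi : i = i0
      · subst hi; simp [e, φ, vecMulVec_apply]
      · simp [e, vecMulVec_apply, hi, hrow i j hi]
    have hφe : φ ⬝ᵥ e = 0 := by
      have := hdet x hxM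
      rw [hmat, vecMulVec_eq Unit, det_one_add_replicateCol_mul_replicateRow] at this
      simpa using this
    refine ⟨φ, fun j => sub_mem (hxR i0 j) ?_, hφe, Units.ext (by rw [coe_tv hφe]; exact hmat)⟩
    by_cases hj : i0 = j
    · subst hj; rw [Matrix.one_apply_eq]; exact one_mem F₀
    · rw [Matrix.one_apply_ne hj]; exact zero_mem F₀
  have hTI : ∀ k : K, ∀ q ∈ Q, q ≠ 1 → k * q * k⁻¹ ∈ Q → k ∈ Q := by
    rintro k q ⟨φ, hφ, h, hq⟩ hq1 ⟨φ', hφ', h', hq'⟩
    apply hKQ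
    rw [Subgroup.coe_mul, Subgroup.coe_mul, Subgroup.coe_inv, hq, conj_tv _ h] at hq'
    have hφ0 : φ ≠ 0 := fun h0 => hq1 (Subtype.ext (by rw [hq, h0, tv_zero_right]; rfl))
    have hd : (φ ᵥ* (((k : G)⁻¹ : G) : Mat)) ⬝ᵥ (((k : G) : Mat) *ᵥ e) = 0 := by rw [vecMul_dot, h]
    obtain ⟨j, hj⟩ : ∃ j, (φ ᵥ* (((k : G)⁻¹ : G) : Mat)) j ≠ 0 := by
      by_contra h0
      push Not at h0
      apply hφ0
      have : (φ ᵥ* (((k : G)⁻¹ : G) : Mat)) ᵥ* ((k : G) : Mat) = φ := by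
        rw [vecMul_vecMul, ← Units.val_mul, inv_mul_cancel, Units.val_one, vecMul_one]
      rw [← this, show (φ ᵥ* (((k : G)⁻¹ : G) : Mat)) = 0 from funext h0, zero_vecMul]
    refine ⟨_, hj, exists_rat_scalar hn hr0 hnot k.2.2 heR he0 hj fun i => ?_⟩
    have hm := congrArg (fun z : G => (z : Mat) i j) hq'
    simp only [coe_tv hd, coe_tv h', Matrix.add_apply, add_right_inj, vecMulVec_apply] at hm
    rw [Pi.smul_apply, smul_eq_mul, mul_comm, hm]
    exact mul_mem (heR i) (hφ' j)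
  obtain ⟨p, hp⟩ := CharP.exists F
  haveI : Fact p.Prime := ⟨(CharP.char_is_prime_or_zero F p).resolve_right (CharP.char_ne_zero_of_finite F p)⟩
  have hpow : ∀ φ : Vec, φ ⬝ᵥ e = 0 → ∀ m : ℕ, tv e φ ^ m = tv e ((m : F) • φ) := by
    intro φ h m
    induction m with
    | zero => simp [tv_zero_right]
    | succ m ih => rw [pow_succ, ih, tv_mul_center (by simp [h]) h, Nat.cast_succ, add_smul, one_smul]
  have hQp : IsPGroup p Q := by
    rintro ⟨x, φ, hφ, h, hx⟩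
    exact ⟨1, Subtype.ext (Subtype.ext (by simp [hx, hpow φ h, tv_zero_right]))⟩
  have hcomm : IsMulCommutative Q := ⟨⟨fun ⟨x, φ, _, h, hx⟩ ⟨y, φ', _, h', hy⟩ =>
    Subtype.ext (Subtype.ext (by simp [hx, hy, tv_mul_center h h', tv_mul_center h' h, add_comm]))⟩⟩
  have hne : Q ≠ ⊤ := fun htop => by
    obtain ⟨φ, hφ, h, hx⟩ : (⟨t, htK⟩ : K) ∈ Q := htop ▸ Subgroup.mem_top _
    obtain ⟨j, hj⟩ := Function.ne_iff.1 hψ0
    refine hirr (ψ j) hj fun i => ?_
    have hm := congrArg (fun z : G => (z : Mat) i j) hx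
    simp only [ht, coe_tv hψa, coe_tv h, Matrix.add_apply, add_right_inj, vecMulVec_apply] at hm
    rw [Pi.smul_apply, smul_eq_mul, mul_comm, hm]
    exact mul_mem (heR i) (hφ j)
  have hq : ∀ (l) (hl : l ≠ i0), (⟨tv e (Pi.single l 1), hQK _ (Rat.single _ (one_mem _)) (by simp [e, hl.symm])⟩ : K) ∈ Q :=
    fun l hl => ⟨_, Rat.single _ (one_mem _), by simp [e, hl.symm], rfl⟩
  have hentry : ∀ φ : Vec, φ ⬝ᵥ e = 0 → ∀ l, l ≠ i0 → ((tv e φ : G) : Mat) i0 l = φ l := fun φ h l hl => by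
    simp [coe_tv h, vecMulVec_apply, e, hl.symm]
  have hbot : Q ≠ ⊥ := fun hb => by
    have h1 := hq i1 h01.symm
    rw [hb, Subgroup.mem_bot] at h1
    have h2 := congrArg (fun z : K => ((z : G) : Mat) i0 i1) h1
    simp [hentry _ (show (Pi.single i1 1 : Vec) ⬝ᵥ e = 0 by simp [e, h01]) i1 h01.symm, h01] at h2
  obtain ⟨⟨gen, φ, hφ, h, hgen⟩, hall⟩ :=
    (Cfsg.Agent.Lib.SubfieldMax.TI.isCyclic_of_ti Q hQp hcomm hne hbot hTI).exists_generator
  have hmult : ∀ l, l ≠ i0 → ∃ m : ℕ, ∀ l', l' ≠ i0 → (Pi.single l 1 : Vec) l' = (m : F) * φ l' := by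
    intro l hl
    obtain ⟨m, hm⟩ := (isOfFinOrder_of_finite _).mem_powers_iff_mem_zpowers.2 (hall ⟨_, hq l hl⟩)
    refine ⟨m, fun l' hl' => ?_⟩
    have h2 := congrArg (fun z : Q => (((z : K) : G) : Mat) i0 l') hm
    simp only [SubmonoidClass.coe_pow, hgen, hpow φ h] at h2
    rw [hentry _ (by simp [h]) l' hl', hentry _ (by simp [e, hl.symm]) l' hl'] at h2
    exact h2.symm
  obtain ⟨m1, hm1⟩ := hmult i1 h01.symm
  obtain ⟨m2, hm2⟩ := hmult i2 h02.symm
  have e11 := hm1 i1 h01.symm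
  have e21 := hm2 i1 h01.symm
  have e22 := hm2 i2 h02.symm
  simp [h12] at e11 e21 e22
  rcases e21 with h0 | h0
  · rw [h0, zero_mul] at e22; exact one_ne_zero e22
  · rw [h0, mul_zero] at e11; exact one_ne_zero e11

end NotGood

end Cfsg.Agent.Lib.SubfieldMax.Linear
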