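import Cfsg.Agent.Lib.Subspaces.FormVec
import Cfsg.Agent.Lib.SubfieldMax.Linear

/-!
Rigidity for subfield subgroups in classical groups: an isometry group whose images of the vectors
of a totally isotropic rational plane are never orthogonal to a rational vector, unless the element
is rational, consists of rational elements.
-/

set_option autoImplicit false

namespace Cfsg.Agent.Lib.SubfieldMax.Form

open Matrix Cfsg.Agent.Lib.Subspaces.Transvection Cfsg.Agent.Lib.Subspaces.FormVec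
  Cfsg.Agent.Lib.SubfieldMax.Linear

variable {ι : Type} [Fintype ι] [DecidableEq ι] {F : Type*} [Field F] {F₀ : Subfield F}

local notation "Vec" => ι → F
local notation "Mat" => Matrix ι ι F
local notation "G" => GL ι F

/-- Rational up to a scalar. -/
def RatUpTo (F₀ : Subfield F) (g : GL ι F) : Prop :=
  ∃ c : F, c ≠ 0 ∧ ∀ i j, c * (g : Matrix ι ι F) i j ∈ F₀

theorem formVec_ne_zero' {f : Vec → Vec → F} (hl : IsLinearLeft f)
    (hnd : ∀ v : Vec, v ≠ 0 → ∃ x, f x v ≠ 0) (hswap : ∀ u v : Vec, f u v = 0 → f v u = 0) {v : Vec}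
    (hv : v ≠ 0) : formVec f v ≠ 0 := fun h => by
  obtain ⟨x, hx⟩ := hnd v hv
  exact hx (by rw [← formVec_dot hl, h, zero_dotProduct])

/-- The rigidity theorem. -/
theorem rigid_of_orth [Finite F] {f : Vec → Vec → F} {Sing : Vec → Prop}
    (hOrth : ∀ φ : Fin 4 → Vec, (∀ i, Rat F₀ (φ i)) → ∃ w, Rat F₀ w ∧ w ≠ 0 ∧ Sing w ∧ ∀ i, f w (φ i) = 0)
    (hl : IsLinearLeft f)
    (hadd : ∀ x v w, f x (v + w) = f x v + f x w) (hnd : ∀ v : Vec, v ≠ 0 → ∃ x, f x v ≠ 0)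
    (hswap : ∀ u v : Vec, f u v = 0 → f v u = 0)
    (hrat : ∀ u v : Vec, Rat F₀ u → Rat F₀ v → f u v ∈ F₀)
    {M : Subgroup (GL ι F)} (hiso : ∀ g ∈ M, ∀ u v, f ((g : Mat) *ᵥ u) ((g : Mat) *ᵥ v) = f u v)
    {e₁ e₂ : Vec} (he₁ : Rat F₀ e₁) (he₂ : Rat F₀ e₂)
    (hE : ∀ u ∈ Submodule.span F {e₁, e₂}, ∀ v ∈ Submodule.span F {e₁, e₂}, f u v = 0)
    (hH1 : ∀ g ∈ M, ∀ x w : Vec, x ∈ Submodule.span F {e₁, e₂} → Rat F₀ x → x ≠ 0 → Rat F₀ w → w ≠ 0 →
      Sing w → f w ((g : Mat) *ᵥ x) = 0 → RatUpTo F₀ g)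
    {Tg : GL ι F} (hTgM : Tg ∈ M)
    (hTg : ∀ v, (Tg : Mat) *ᵥ v - v ∈ Submodule.span F {e₁}) (hTgR : ∀ i j, (Tg : Mat) i j ∈ F₀)
    (hTg1 : Tg ≠ 1)
    {q₂ : GL ι F} (hq₂M : q₂ ∈ M) (hq₂R : ∀ i j, (q₂ : Mat) i j ∈ F₀)
    (hq₂ : ∀ v, (q₂ : Mat) *ᵥ v - v ∈ Submodule.span F {e₁, e₂})
    (hindep : ∀ k : ℕ, q₂ ≠ Tg ^ k) {g : GL ι F} (hg : g ∈ M) : RatUpTo F₀ g := by
  classical
  by_contra hcon
  set a : Vec := (g : Mat) *ᵥ e₁ with ha
  set E : Submodule F Vec := Submodule.span F {e₁, e₂}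
  have he₁E : e₁ ∈ E := Submodule.subset_span (by simp)
  have hSE : Submodule.span F {e₁} ≤ E := by rw [Submodule.span_singleton_le_iff_mem]; exact he₁E
  have he₁0 : e₁ ≠ 0 := by
    rintro rfl
    refine hTg1 (gl_ext fun v => ?_)
    have h := hTg v
    simp only [Submodule.span_zero_singleton, Submodule.mem_bot, sub_eq_zero] at h
    rw [h, Units.val_one, one_mulVec]
  have hcol : ∀ (x : G), (∀ i j, (x : Mat) i j ∈ F₀) → x ≠ 1 → (∀ v, (x : Mat) *ᵥ v - v ∈ E) →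
      ∃ u : Vec, Rat F₀ u ∧ u ≠ 0 ∧ u ∈ E ∧ ∃ v, u = (x : Mat) *ᵥ v - v := by
    intro x hx hx1 hxE
    obtain ⟨i, j, hij⟩ : ∃ i j, (x : Mat) i j ≠ (1 : Mat) i j := by
      by_contra h
      push Not at h
      exact hx1 (Units.ext (Matrix.ext fun i j => by rw [h i j]; rfl))
    refine ⟨_, fun k => ?_, fun h0 => hij ?_, hxE (Pi.single j 1), _, rfl⟩
    · rw [Pi.sub_apply, mulVec_single_one]
      exact sub_mem (hx k j) (Rat.single j (one_mem _) k)
    · have := congrFun h0 i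
      rw [Pi.sub_apply, mulVec_single_one, Pi.zero_apply, sub_eq_zero] at this
      exact this.trans (by simp [Matrix.one_apply, Pi.single_apply])
  let W : Submodule F Vec := E ⊔ Submodule.span F {a}
  let K0 : Subgroup G :=
    { carrier := {x | ∀ v, (x : Mat) *ᵥ v - v ∈ W}
      one_mem' := fun v => by simp
      mul_mem' := fun {x y} hx hy v => by
        rw [gl_mul_mulVec, ← sub_add_sub_cancel _ ((y : Mat) *ᵥ v) v]
        exact W.add_mem (hx _) (hy v)
      inv_mem' := fun {x} hx v => by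
        have := W.neg_mem (hx (((x⁻¹ : G) : Mat) *ᵥ v))
        rwa [gl_mulVec_inv, neg_sub] at this }
  let K : Subgroup G := K0 ⊓ M
  have hinv : ∀ x : G, (∀ i j, (x : Mat) i j ∈ F₀) → ∀ i j, ((x⁻¹ : G) : Mat) i j ∈ F₀ := by
    intro x hx
    have hpow : ∀ k : ℕ, ∀ i j, ((x ^ k : G) : Mat) i j ∈ F₀ := by
      intro k
      induction k with
      | zero =>
        intro i j
        rw [pow_zero, Units.val_one]
        exact Rat.single (F₀ := F₀) j (one_mem _) i |> fun h => by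
          simpa [Matrix.one_apply, Pi.single_apply] using h
      | succ k ih =>
        intro i j
        rw [pow_succ, Units.val_mul, Matrix.mul_apply]
        exact sum_mem fun l _ => mul_mem (ih i l) (hx l j)
    have := hpow (orderOf x - 1)
    rwa [← inv_eq_of_mul_eq_one_right (show x * x ^ (orderOf x - 1) = 1 by
      rw [← pow_succ', Nat.sub_add_cancel (orderOf_pos x), pow_orderOf_eq_one])] at this
  let Q : Subgroup K :=
    { carrier := {x | (∀ i j, ((x : G) : Mat) i j ∈ F₀) ∧ ∀ v, ((x : G) : Mat) *ᵥ v - v ∈ E}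
      one_mem' := ⟨fun i j => by
        by_cases h : i = j
        · subst h; simp
        · simp [h], fun v => by simp⟩
      mul_mem' := by
        rintro x y ⟨hx, hx'⟩ ⟨hy, hy'⟩
        refine ⟨fun i j => ?_, fun v => ?_⟩
        · rw [Subgroup.coe_mul, Units.val_mul, Matrix.mul_apply]
          exact sum_mem fun l _ => mul_mem (hx i l) (hy l j)
        · rw [Subgroup.coe_mul, gl_mul_mulVec, ← sub_add_sub_cancel _ (((y : G) : Mat) *ᵥ v) v]
          exact E.add_mem (hx' _) (hy' v)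
      inv_mem' := by
        rintro x ⟨hx, hx'⟩
        refine ⟨?_, fun v => ?_⟩
        · rw [Subgroup.coe_inv]; exact hinv _ hx
        · have := E.neg_mem (hx' ((((x : G)⁻¹ : G) : Mat) *ᵥ v))
          rwa [gl_mulVec_inv, neg_sub] at this }
  have hfix : ∀ x ∈ Q, ∀ u ∈ E, ((x : G) : Mat) *ᵥ u = u := by
    intro x hx u hu
    by_contra hne
    obtain ⟨v, hv⟩ := hnd _ (sub_ne_zero.2 hne)
    apply hv
    have h1 := hiso (x : G) x.2.2 v u
    have hmem : ((x : G) : Mat) *ᵥ u ∈ E := by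
      have := E.add_mem (hx.2 u) hu
      rwa [sub_add_cancel] at this
    have h2 := hE _ (hx.2 v) _ hmem
    rw [form_sub_left hl, h1, sub_eq_zero] at h2
    have h3 := hadd v (((x : G) : Mat) *ᵥ u - u) u
    rw [sub_add_cancel] at h3
    linear_combination -h3 - h2
  have hcomm : IsMulCommutative Q := ⟨⟨fun x y => by
    apply Subtype.ext; apply Subtype.ext
    refine gl_ext fun v => ?_
    simp only [Subgroup.coe_mul, gl_mul_mulVec]
    have h1 := hfix _ x.2 _ (y.2.2 v)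
    have h2 := hfix _ y.2 _ (x.2.2 v)
    rw [mulVec_sub] at h1 h2
    linear_combination (norm := abel_nf) h1 - h2⟩⟩
  obtain ⟨p, hp⟩ := CharP.exists F
  haveI : Fact p.Prime := ⟨(CharP.char_is_prime_or_zero F p).resolve_right (CharP.char_ne_zero_of_finite F p)⟩
  have hpow : ∀ x ∈ Q, ∀ (k : ℕ) (v : Vec),
      (((x : G) ^ k : G) : Mat) *ᵥ v = v + (k : F) • (((x : G) : Mat) *ᵥ v - v) := by
    intro x hx k
    induction k with
    | zero => intro v; simp
    | succ k ih =>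
      intro v
      rw [pow_succ', gl_mul_mulVec, ih, mulVec_add, mulVec_smul, hfix x hx _ (hx.2 v), Nat.cast_succ,
        add_smul, one_smul]
      abel
  have hQp : IsPGroup p Q := by
    rintro ⟨x, hx⟩
    refine ⟨1, Subtype.ext (Subtype.ext (gl_ext fun v => ?_))⟩
    simp only [pow_one, SubmonoidClass.coe_pow, OneMemClass.coe_one]
    rw [hpow x hx p v, CharP.cast_eq_zero, zero_smul, add_zero, Units.val_one, one_mulVec]
  have haw : ∀ w : Vec, Rat F₀ w → w ≠ 0 → Sing w → f w a ≠ 0 := fun w hw hw0 hws h =>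
    hcon (hH1 g hg e₁ w he₁E he₁ he₁0 hw hw0 hws h)
  -- rational elements of `K` lie in `Q`
  have hKQ : ∀ x : K, RatUpTo F₀ (x : G) → x ∈ Q := by
    rintro ⟨x, hxK0, hxM⟩ ⟨c, hc, hx⟩
    have hcv : ∀ v : Vec, Rat F₀ v → Rat F₀ (c • ((x : Mat) *ᵥ v)) := fun v hv i => by
      rw [Pi.smul_apply, smul_eq_mul, mulVec, dotProduct, Finset.mul_sum]
      exact sum_mem fun j _ => by rw [← mul_assoc]; exact mul_mem (hx i j) (hv j)
    have hrv : ∀ v : Vec, Rat F₀ v → Rat F₀ (formVec f v) := fun v hv i =>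
      hrat _ _ (Rat.single i (one_mem _)) hv
    have hdiff : ∀ v : Vec, Rat F₀ v → (x : Mat) *ᵥ v - v ∈ E := by
      intro v hv
      obtain ⟨u, hu, z, hz, huz⟩ := Submodule.mem_sup.1 (hxK0 v)
      obtain ⟨y, rfl⟩ := Submodule.mem_span_singleton.1 hz
      obtain ⟨w, hw, hw0, hws, horth⟩ := hOrth ![e₁, e₂, v, c • ((x : Mat) *ᵥ v)]
        (fun i => by fin_cases i; exacts [he₁, he₂, hv, hcv v hv])
      have o1 : f w e₁ = 0 := horth 0
      have o2 : f w e₂ = 0 := horth 1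
      have o3 : f w v = 0 := horth 2
      have o4 : f w (c • ((x : Mat) *ᵥ v)) = 0 := horth 3
      have hLu : formVec f w ⬝ᵥ u = 0 := by
        obtain ⟨s, t, rfl⟩ := Submodule.mem_span_pair.1 hu
        rw [dotProduct_add, dotProduct_smul, dotProduct_smul, formVec_dot hl, formVec_dot hl, hswap _ _ o1,
          hswap _ _ o2, smul_zero, smul_zero, add_zero]
      have h5 := congrArg (fun z => formVec f w ⬝ᵥ z) huz
      have o4' := hswap _ _ o4
      rw [hl.smul_left, mul_eq_zero] at o4'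
      simp only [dotProduct_add, dotProduct_sub, dotProduct_smul, hLu, zero_add, smul_eq_mul] at h5
      simp only [formVec_dot hl, hswap _ _ o3, o4'.resolve_left hc, sub_zero] at h5
      have hy : y = 0 := (mul_eq_zero.1 h5).resolve_right fun h => haw w hw hw0 hws (hswap _ _ h)
      rw [← huz, hy, zero_smul, add_zero]
      exact hu
    have hall : ∀ v, (x : Mat) *ᵥ v - v ∈ E := by
      intro v
      have hv : v = ∑ i, v i • (Pi.single i 1 : Vec) := by
        rw [← Finset.univ_sum_single v]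
        refine Finset.sum_congr rfl fun i _ => ?_
        rw [Finset.univ_sum_single v, ← Pi.single_smul, smul_eq_mul, mul_one]
      rw [hv, mulVec_sum, ← Finset.sum_sub_distrib]
      refine E.sum_mem fun i _ => ?_
      rw [mulVec_smul, ← smul_sub]
      exact E.smul_mem _ (hdiff _ (Rat.single i (one_mem _)))
    obtain ⟨w, hw, hw0, hws, horth⟩ := hOrth ![e₁, e₂, e₁, e₂]
      (fun i => by fin_cases i <;> assumption)
    have o1 : f e₁ w = 0 := hswap _ _ (horth 0)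
    have o2 : f e₂ w = 0 := hswap _ _ (horth 1)
    obtain ⟨j, hj⟩ := Function.ne_iff.1 (formVec_ne_zero' hl hnd hswap hw0)
    obtain ⟨s, t, hst⟩ := Submodule.mem_span_pair.1 (hall (Pi.single j 1))
    have hcF : c ∈ F₀ := by
      have h6 := congrArg (fun z => formVec f w ⬝ᵥ z) hst
      simp only [dotProduct_add, dotProduct_sub, dotProduct_smul] at h6
      simp only [formVec_dot hl, o1, o2, smul_zero, add_zero] at h6
      have h7 := hrat _ _ (hcv _ (Rat.single j (one_mem _))) hw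
      rw [hl.smul_left, sub_eq_zero.1 h6.symm] at h7
      have h8 : f (Pi.single j 1) w ∈ F₀ := hrat _ _ (Rat.single j (one_mem _)) hw
      have := mul_mem h7 (inv_mem h8)
      rwa [mul_assoc, mul_inv_cancel₀ (show f (Pi.single j 1) w ≠ 0 from hj), mul_one] at this
    refine ⟨fun i l => ?_, hall⟩
    have := mul_mem (inv_mem hcF) (hx i l)
    rwa [← mul_assoc, inv_mul_cancel₀ hc, one_mul] at this
  have hTI : ∀ k : K, ∀ q ∈ Q, q ≠ 1 → k * q * k⁻¹ ∈ Q → k ∈ Q := by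
    intro k q hq hq1 hq'
    apply hKQ
    obtain ⟨u, hu, hu0, huE, v, huv⟩ := hcol (q : G) hq.1 (fun h => hq1 (Subtype.ext h)) hq.2
    obtain ⟨w, hw, hw0, hws, horth⟩ := hOrth ![e₁, e₂, e₁, e₂]
      (fun i => by fin_cases i <;> assumption)
    refine hH1 _ k.2.2 u w huE hu hu0 hw hw0 hws (hswap _ _ ?_)
    have hmem : ((k : G) : Mat) *ᵥ u ∈ E := by
      have := hq'.2 (((k : G) : Mat) *ᵥ v)
      rw [Subgroup.coe_mul, Subgroup.coe_mul, Subgroup.coe_inv, gl_mul_mulVec, gl_inv_mulVec, gl_mul_mulVec,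
        ← mulVec_sub, ← huv] at this
      exact this
    obtain ⟨s, t, hst⟩ := Submodule.mem_span_pair.1 hmem
    rw [← hst, ← formVec_dot hl, dotProduct_add, dotProduct_smul, dotProduct_smul, formVec_dot hl,
      formVec_dot hl, hswap w e₁ (horth 0),
      hswap w e₂ (horth 1), smul_zero, smul_zero, add_zero]
  have hgTg : g * Tg * g⁻¹ ∈ K := by
    refine ⟨fun v => ?_, M.mul_mem (M.mul_mem hg hTgM) (M.inv_mem hg)⟩
    obtain ⟨r, hr⟩ := Submodule.mem_span_singleton.1 (hTg (((g⁻¹ : G) : Mat) *ᵥ v))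
    have h := congrArg (fun z => (g : Mat) *ᵥ z) hr
    simp only [mulVec_smul, mulVec_sub, gl_mulVec_inv] at h
    rw [gl_mul_mulVec, gl_mul_mulVec, ← h]
    exact Submodule.mem_sup_right (Submodule.mem_span_singleton.2 ⟨r, rfl⟩)
  have hne : Q ≠ ⊤ := fun htop => by
    obtain ⟨hR, hE'⟩ : (⟨_, hgTg⟩ : K) ∈ Q := htop ▸ Subgroup.mem_top _
    obtain ⟨u, hu, hu0, -, v, huv⟩ := hcol Tg hTgR hTg1 fun v => hSE (hTg v)
    obtain ⟨r, hr⟩ := Submodule.mem_span_singleton.1 (hTg v)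
    rw [← huv] at hr
    obtain ⟨w, hw, hw0, hws, horth⟩ := hOrth ![e₁, e₂, e₁, e₂]
      (fun i => by fin_cases i <;> assumption)
    have hgu : (g : Mat) *ᵥ u ∈ E := by
      have := hE' ((g : Mat) *ᵥ v)
      rw [gl_mul_mulVec, gl_inv_mulVec, gl_mul_mulVec, ← mulVec_sub, ← huv] at this
      exact this
    refine hcon (hH1 g hg u w (hr ▸ hSE (Submodule.smul_mem _ r (Submodule.mem_span_singleton_self _))) hu hu0
      hw hw0 hws (hswap _ _ ?_))
    obtain ⟨s, t, hst⟩ := Submodule.mem_span_pair.1 hgu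
    rw [← hst, ← formVec_dot hl, dotProduct_add, dotProduct_smul, dotProduct_smul, formVec_dot hl,
      formVec_dot hl, hswap w e₁ (horth 0),
      hswap w e₂ (horth 1), smul_zero, smul_zero, add_zero]
  have hTgK : Tg ∈ K := ⟨fun v => Submodule.mem_sup_left (hSE (hTg v)), hTgM⟩
  have hq₂K : q₂ ∈ K := ⟨fun v => Submodule.mem_sup_left (hq₂ v), hq₂M⟩
  have hTgQ : (⟨Tg, hTgK⟩ : K) ∈ Q := ⟨hTgR, fun v => hSE (hTg v)⟩
  have hq₂Q : (⟨q₂, hq₂K⟩ : K) ∈ Q := ⟨hq₂R, hq₂⟩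
  have hbot : Q ≠ ⊥ := fun hb => by
    have h1 : (⟨Tg, hTgK⟩ : K) ∈ (⊥ : Subgroup K) := hb ▸ hTgQ
    exact hTg1 (congrArg (fun z : K => (z : G)) (Subgroup.mem_bot.1 h1))
  haveI := Cfsg.Agent.Lib.SubfieldMax.TI.isCyclic_of_ti Q hQp hcomm hne hbot hTI
  let T : Q := ⟨_, hTgQ⟩
  let q : Q := ⟨_, hq₂Q⟩
  have hord : ∀ x : Q, x ^ p = 1 := by
    rintro ⟨x, hx⟩
    refine Subtype.ext (Subtype.ext (gl_ext fun v => ?_))
    simp only [SubmonoidClass.coe_pow, OneMemClass.coe_one]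
    rw [hpow x hx p v, CharP.cast_eq_zero, zero_smul, add_zero, Units.val_one, one_mulVec]
  obtain ⟨gen, hgen⟩ := IsCyclic.exists_generator (α := Q)
  have hTord : orderOf T = p :=
    orderOf_eq_prime (hord T) fun (h : T = 1) => hTg1 (congrArg (fun z : Q => ((z : K) : G)) h)
  have hgenord : orderOf gen ∣ p := orderOf_dvd_of_pow_eq_one (hord gen)
  have hcard : Nat.card Q = orderOf gen := (orderOf_eq_card_of_forall_mem_zpowers hgen).symm
  have hz : Subgroup.zpowers T = ⊤ := by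
    refine Subgroup.eq_top_of_le_card _ ?_
    rw [Nat.card_zpowers, hTord, hcard]
    exact Nat.le_of_dvd (Fact.out : p.Prime).pos hgenord
  obtain ⟨k, hk⟩ := (isOfFinOrder_of_finite T).mem_powers_iff_mem_zpowers.2 (hz ▸ Subgroup.mem_top q)
  exact hindep k (congrArg (fun z : Q => ((z : K) : G)) hk).symm

/-- The rigidity theorem, for orthogonality to arbitrary rational vectors. -/
theorem rigid [Finite F] (hn : 5 ≤ Fintype.card ι) {f : Vec → Vec → F} (hl : IsLinearLeft f)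
    (hadd : ∀ x v w, f x (v + w) = f x v + f x w) (hnd : ∀ v : Vec, v ≠ 0 → ∃ x, f x v ≠ 0)
    (hswap : ∀ u v : Vec, f u v = 0 → f v u = 0)
    (hrat : ∀ u v : Vec, Rat F₀ u → Rat F₀ v → f u v ∈ F₀)
    {M : Subgroup (GL ι F)} (hiso : ∀ g ∈ M, ∀ u v, f ((g : Mat) *ᵥ u) ((g : Mat) *ᵥ v) = f u v)
    {e₁ e₂ : Vec} (he₁ : Rat F₀ e₁) (he₂ : Rat F₀ e₂)
    (hE : ∀ u ∈ Submodule.span F {e₁, e₂}, ∀ v ∈ Submodule.span F {e₁, e₂}, f u v = 0)
    (hH1 : ∀ g ∈ M, ∀ x w : Vec, x ∈ Submodule.span F {e₁, e₂} → Rat F₀ x → x ≠ 0 → Rat F₀ w → w ≠ 0 →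
      f w ((g : Mat) *ᵥ x) = 0 → RatUpTo F₀ g)
    {Tg : GL ι F} (hTgM : Tg ∈ M)
    (hTg : ∀ v, (Tg : Mat) *ᵥ v - v ∈ Submodule.span F {e₁}) (hTgR : ∀ i j, (Tg : Mat) i j ∈ F₀)
    (hTg1 : Tg ≠ 1)
    {q₂ : GL ι F} (hq₂M : q₂ ∈ M) (hq₂R : ∀ i j, (q₂ : Mat) i j ∈ F₀)
    (hq₂ : ∀ v, (q₂ : Mat) *ᵥ v - v ∈ Submodule.span F {e₁, e₂})
    (hindep : ∀ k : ℕ, q₂ ≠ Tg ^ k) {g : GL ι F} (hg : g ∈ M) : RatUpTo F₀ g := by
  refine rigid_of_orth (f := f) (Sing := fun _ => True) (fun φ hφ => ?_) hl hadd hnd hswap hrat hiso he₁ he₂ hE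
    (fun g hg x w h1 h2 h3 h4 h5 _ h6 => hH1 g hg x w h1 h2 h3 h4 h5 h6) hTgM hTg hTgR hTg1 hq₂M hq₂R hq₂ hindep hg
  obtain ⟨w, hw, hw0, horth⟩ := exists_rat_orth (F₀ := F₀) (show 4 < Fintype.card ι by omega)
    (fun i => formVec f (φ i)) (fun i j => hrat _ _ (Rat.single j (one_mem _)) (hφ i))
  exact ⟨w, hw, hw0, trivial, fun i => by rw [← formVec_dot hl, dotProduct_comm]; exact horth i⟩

end Cfsg.Agent.Lib.SubfieldMax.Form
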