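import Cfsg.Agent.Lib.Subspaces.FormVec
import Cfsg.Agent.Lib.SubfieldMax.Linear

/-!
Rational linear algebra for a subfield: separation, orthogonal vectors outside small spans,
solving the form equation.
-/

set_option autoImplicit false

namespace Cfsg.Agent.Lib.SubfieldMax.RatLin

open Matrix Cfsg.Agent.Lib.Subspaces.Transvection Cfsg.Agent.Lib.Subspaces.FormVec
  Cfsg.Agent.Lib.SubfieldMax.Linear

variable {ι : Type} [Fintype ι] [DecidableEq ι] {F : Type*} [Field F] {F₀ : Subfield F}

/-- A rational vector as a vector over the subfield. -/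
def lower (v : ι → F) (hv : Rat F₀ v) : ι → F₀ := fun i => ⟨v i, hv i⟩

/-- A vector over the subfield as a rational vector. -/
def raise (x : ι → F₀) : ι → F := fun i => (x i : F)

omit [Fintype ι] [DecidableEq ι] in
theorem rat_raise (x : ι → F₀) : Rat F₀ (raise x) := fun i => (x i).2

omit [DecidableEq ι] in
theorem raise_dot (x y : ι → F₀) : raise x ⬝ᵥ raise y = ((x ⬝ᵥ y : F₀) : F) := by
  simp [dotProduct, raise]

/-- A rational vector outside the rational span of rational vectors is separated by a rational functional. -/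
theorem exists_sep {k : ℕ} (u : Fin k → ι → F) (hu : ∀ i, Rat F₀ (u i)) {s : ι → F} (hs : Rat F₀ s)
    (hns : s ∉ Submodule.span F (Set.range u)) :
    ∃ χ : ι → F, Rat F₀ χ ∧ (∀ i, χ ⬝ᵥ u i = 0) ∧ χ ⬝ᵥ s = 1 := by
  have h : lower s hs ∉ Submodule.span F₀ (Set.range fun i => lower (u i) (hu i)) := by
    intro hmem
    apply hns
    rw [Submodule.mem_span_range_iff_exists_fun] at hmem ⊢
    obtain ⟨c, hc⟩ := hmem
    refine ⟨fun i => (c i : F), funext fun l => ?_⟩
    have := congrArg (fun z : ι → F₀ => ((z l : F₀) : F)) hc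
    simpa [lower, Finset.sum_apply] using this
  obtain ⟨φ, hφ, hφs⟩ := exists_functional h
  refine ⟨raise φ, rat_raise φ, fun i => ?_, ?_⟩
  · have := hφ _ (Submodule.subset_span ⟨i, rfl⟩)
    rw [show u i = raise (lower (u i) (hu i)) from rfl, raise_dot, this]
    simp
  · rw [show s = raise (lower s hs) from rfl, raise_dot, hφs]
    simp

/-- Rational vectors with prescribed zeros outside the span of few rational vectors. -/
theorem exists_orth_not_mem [Finite F] {k l : ℕ} (φ : Fin k → ι → F) (hφ : ∀ i, Rat F₀ (φ i))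
    (u : Fin l → ι → F) (hu : ∀ i, Rat F₀ (u i)) (h : k + l < Fintype.card ι) :
    ∃ z : ι → F, Rat F₀ z ∧ z ∉ Submodule.span F (Set.range u) ∧ ∀ i, φ i ⬝ᵥ z = 0 := by
  set S : Submodule F₀ (ι → F₀) := Submodule.span F₀ (Set.range fun i => lower (u i) (hu i))
  have hS : Module.finrank F₀ S ≤ l := (finrank_range_le_card _).trans (by simp)
  obtain ⟨z, hz, hzφ⟩ := exists_common_zero_not_mem S (fun i => lower (φ i) (hφ i))
    (lt_of_le_of_lt (Nat.add_le_add_left hS k) h)
  refine ⟨raise z, rat_raise z, fun hmem => ?_, fun i => ?_⟩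
  · obtain ⟨χ, hχ, hχz⟩ := exists_functional hz
    rw [Submodule.mem_span_range_iff_exists_fun] at hmem
    obtain ⟨c, hc⟩ := hmem
    have h1 : raise χ ⬝ᵥ raise z = 0 := by
      rw [← hc, dotProduct_sum]
      refine Finset.sum_eq_zero fun i _ => ?_
      rw [dotProduct_smul, show u i = raise (lower (u i) (hu i)) from rfl, raise_dot,
        hχ _ (Submodule.subset_span ⟨i, rfl⟩)]
      simp
    rw [raise_dot, hχz] at h1
    simp at h1
  · rw [show φ i = raise (lower (φ i) (hφ i)) from rfl, raise_dot, hzφ i]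
    simp

/-- Two non-zero rational vectors have a common rational partner. -/
theorem exists_dot_both {a b : ι → F} (ha : Rat F₀ a) (hb : Rat F₀ b) (ha0 : a ≠ 0) (hb0 : b ≠ 0) :
    ∃ z : ι → F, Rat F₀ z ∧ a ⬝ᵥ z ≠ 0 ∧ b ⬝ᵥ z ≠ 0 := by
  obtain ⟨z, h1, h2⟩ := exists_dot_ne_zero_both (φ := lower a ha) (ψ := lower b hb)
    (fun h => ha0 (funext fun i => congrArg Subtype.val (congrFun h i)))
    (fun h => hb0 (funext fun i => congrArg Subtype.val (congrFun h i)))
  refine ⟨raise z, rat_raise z, ?_, ?_⟩
  · rw [show a = raise (lower a ha) from rfl, raise_dot]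
    exact fun h => h1 (Subtype.ext h)
  · rw [show b = raise (lower b hb) from rfl, raise_dot]
    exact fun h => h2 (Subtype.ext h)

/-- The form equation is solved by rational vectors for rational functionals. -/
theorem exists_rat_formVec [Finite F] {f : (ι → F) → (ι → F) → F} (hl : IsLinearLeft f)
    (hadd : ∀ x v w, f x (v + w) = f x v + f x w) (hn : Cfsg.Geo.IsNondegenerateForm f)
    (hrat : ∀ u v : ι → F, Rat F₀ u → Rat F₀ v → f u v ∈ F₀) {r : ι → F} (hr : Rat F₀ r) :
    ∃ x : ι → F, Rat F₀ x ∧ formVec f x = r := by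
  let L : (ι → F₀) → (ι → F₀) := fun x i =>
    ⟨formVec f (raise x) i, hrat _ _ (Rat.single i (one_mem _)) (rat_raise x)⟩
  have hinj : Function.Injective L := fun x y hxy => by
    have hxy' : formVec f (raise x) = formVec f (raise y) :=
      funext fun i => congrArg Subtype.val (congrFun hxy i)
    by_contra hne
    have hne' : raise x - raise y ≠ 0 := sub_ne_zero.2 fun h =>
      hne (funext fun i => Subtype.ext (congrFun h i))
    obtain ⟨⟨z, hz⟩, -⟩ := hn _ hne'
    apply hz
    have h1 := hadd z (raise x - raise y) (raise y)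
    rw [sub_add_cancel, ← formVec_dot hl, ← formVec_dot hl (raise y), hxy'] at h1
    simpa using h1
  obtain ⟨x, hx⟩ := (Finite.injective_iff_surjective.1 hinj) (lower r hr)
  exact ⟨raise x, rat_raise x, funext fun i => congrArg Subtype.val (congrFun hx i)⟩

end Cfsg.Agent.Lib.SubfieldMax.RatLin
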