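import Cfsg.Agent.Lib.SubfieldMax.Form

/-!
Membership in subfield subgroups.
-/

set_option autoImplicit false

namespace Cfsg.Agent.Lib.SubfieldMax.Mem

open Matrix Cfsg.Agent.Lib.SubfieldMax.Form

variable {ι : Type} [Fintype ι] [DecidableEq ι] {F : Type*} [Field F] (F₀ : Subfield F)

theorem mem_sub_one_iff (g : GL ι F) :
    g ∈ Cfsg.Geo.subfieldSubgroup F₀ 1 ↔ RatUpTo F₀ g := by
  rw [Cfsg.Geo.subfieldSubgroup, map_one, show (MulEquiv.toMonoidHom (1 : MulAut (GL ι F))) = MonoidHom.id _ from rfl,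
    Subgroup.map_id]
  constructor
  · intro hg
    haveI : (Cfsg.Geo.scalars ι F).Normal := ⟨fun x hx y => by
      obtain ⟨c, hc⟩ := (Cfsg.Geo.mem_scalars_iff x).1 hx
      refine (Cfsg.Geo.mem_scalars_iff _).2 ⟨c, ?_⟩
      rw [Units.val_mul, Units.val_mul, hc, Matrix.mul_smul, Matrix.mul_one, Matrix.smul_mul, Units.mul_inv]⟩
    obtain ⟨y, hy, z, hz, rfl⟩ := Subgroup.mem_sup_of_normal_right.1 hg
    obtain ⟨h, rfl⟩ := hy
    obtain ⟨c, hc⟩ := (Cfsg.Geo.mem_scalars_iff z).1 hz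
    refine ⟨(c : F)⁻¹, inv_ne_zero c.ne_zero, fun i j => ?_⟩
    rw [Units.val_mul, hc, Matrix.mul_smul, Matrix.mul_one, Matrix.smul_apply, smul_eq_mul, ← mul_assoc,
      inv_mul_cancel₀ c.ne_zero, one_mul]
    exact (((h : GL ι F₀) : Matrix ι ι F₀) i j).2
  · rintro ⟨c, hc, hg⟩
    let A : Matrix ι ι F₀ := Matrix.of fun i j => ⟨c * (g : Matrix ι ι F) i j, hg i j⟩
    have hA : A.map F₀.subtype = c • (g : Matrix ι ι F) := by ext i j; rfl
    have hdet : A.det ≠ 0 := by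
      intro h0
      have := (RingHom.map_det F₀.subtype A).symm
      rw [RingHom.mapMatrix_apply, hA, h0, map_zero, det_smul] at this
      exact mul_ne_zero (pow_ne_zero _ hc) (Matrix.GeneralLinearGroup.det_ne_zero g) this
    have hg' : g = Units.map (Matrix.scalar ι : F →+* Matrix ι ι F).toMonoidHom
        (Units.mk0 c hc)⁻¹ * Matrix.GeneralLinearGroup.map F₀.subtype (Matrix.GeneralLinearGroup.mkOfDetNeZero A hdet) := by
      apply Units.ext
      show (g : Matrix ι ι F) = Matrix.scalar ι c⁻¹ * A.map F₀.subtype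
      rw [hA, scalar_apply, ← smul_one_eq_diagonal, Matrix.smul_mul, Matrix.one_mul, inv_smul_smul₀ hc]
    rw [hg']
    exact mul_mem (Subgroup.mem_sup_right ⟨_, rfl⟩) (Subgroup.mem_sup_left ⟨_, rfl⟩)

theorem mem_sub_iff (P g : GL ι F) :
    g ∈ Cfsg.Geo.subfieldSubgroup F₀ P ↔ RatUpTo F₀ (P⁻¹ * g * P) := by
  have hmap : Cfsg.Geo.subfieldSubgroup F₀ P =
      (Cfsg.Geo.subfieldSubgroup F₀ (1 : GL ι F)).map (MulAut.conj P).toMonoidHom := by
    simp [Cfsg.Geo.subfieldSubgroup, Subgroup.map_map]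
    rfl
  rw [hmap, ← mem_sub_one_iff, Subgroup.mem_map_equiv]
  rfl

end Cfsg.Agent.Lib.SubfieldMax.Mem
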