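import Mathlib.FieldTheory.Finite.Basic
import Cfsg.Agent.Lib.Subspaces.UnitaryForm
import Cfsg.Agent.Lib.SubfieldMax.RatLin

/-!
Skew-Hermitian forms rational on a subfield structure: basic algebra and isotropic rational vectors.
-/

set_option autoImplicit false

namespace Cfsg.Agent.Lib.SubfieldMax.SkewBasic

open Matrix Cfsg.Agent.Lib.Subspaces.Transvection Cfsg.Agent.Lib.Subspaces.FormVec
  Cfsg.Agent.Lib.SubfieldMax.Linear Cfsg.Agent.Lib.SubfieldMax.RatLin

variable {ι : Type} [Fintype ι] [DecidableEq ι] {F : Type*} [Field F]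

/-- A non-degenerate skew-Hermitian form. -/
structure IsSkew (σ : F ≃+* F) (f : (ι → F) → (ι → F) → F) : Prop where
  invol : ∀ a : F, σ (σ a) = a
  add_left : ∀ x y v, f (x + y) v = f x v + f y v
  smul_left : ∀ (c : F) (x v : ι → F), f (c • x) v = c * f x v
  skew : ∀ v w, f v w = -σ (f w v)
  nondegenerate : Cfsg.Geo.IsNondegenerateForm f

/-- The form is rational on the subfield structure. -/
structure RatForm (F₀ : Subfield F) (σ : F ≃+* F) (f : (ι → F) → (ι → F) → F) : Prop where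
  form : IsSkew σ f
  stable : ∀ a ∈ F₀, σ a ∈ F₀
  rat : ∀ u v, Rat F₀ u → Rat F₀ v → f u v ∈ F₀
  alt : (2 : F) = 0 → (∀ a ∈ F₀, σ a = a) → ∀ v, Rat F₀ v → f v v = 0
  card : 6 ≤ Fintype.card ι

variable {σ : F ≃+* F} {f : (ι → F) → (ι → F) → F} {F₀ : Subfield F}

namespace IsSkew

variable (hf : IsSkew σ f)
include hf

theorem hl : IsLinearLeft f := ⟨hf.add_left, hf.smul_left⟩

theorem add_right (x v w : ι → F) : f x (v + w) = f x v + f x w := by
  rw [hf.skew, hf.add_left, map_add, neg_add, ← hf.skew, ← hf.skew]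

theorem smul_right (c : F) (x v : ι → F) : f x (c • v) = σ c * f x v := by
  rw [hf.skew, hf.smul_left, map_mul, hf.skew x v]
  ring

theorem zero_left (v : ι → F) : f 0 v = 0 := form_zero_left hf.hl v

theorem zero_right (v : ι → F) : f v 0 = 0 := by rw [hf.skew, hf.zero_left, map_zero, neg_zero]

theorem neg_left (x v : ι → F) : f (-x) v = -f x v := by
  rw [← neg_one_smul F x, hf.smul_left]; ring

theorem neg_right (v x : ι → F) : f v (-x) = -f v x := by
  rw [← neg_one_smul F x, hf.smul_right, map_neg, map_one]; ring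

theorem swap_eq_zero {v w : ι → F} (h : f v w = 0) : f w v = 0 := by
  rw [hf.skew, h, map_zero, neg_zero]

theorem swap_eq_one {v w : ι → F} (h : f v w = 1) : f w v = -1 := by
  rw [hf.skew, h, map_one]

theorem self_skew (v : ι → F) : σ (f v v) = -f v v := by
  conv_rhs => rw [hf.skew v v]
  rw [neg_neg]

theorem fv_dot (v x : ι → F) : formVec f v ⬝ᵥ x = f x v := formVec_dot hf.hl v x

theorem ut_dot {v : ι → F} (hv : f v v = 0) (a : F) : (a • formVec f v) ⬝ᵥ v = 0 := by
  rw [smul_dotProduct, hf.fv_dot, hv, smul_zero]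

theorem ut_mulVec {v : ι → F} (hv : f v v = 0) (a : F) (x : ι → F) :
    (tv v (a • formVec f v) : Matrix ι ι F) *ᵥ x = x + (a * f x v) • v := by
  rw [tv_mulVec (hf.ut_dot hv a), smul_dotProduct, hf.fv_dot, smul_eq_mul]

theorem ut_isometry {v : ι → F} (hv : f v v = 0) {a : F} (ha : σ a = a) (x y : ι → F) :
    f ((tv v (a • formVec f v) : Matrix ι ι F) *ᵥ x) ((tv v (a • formVec f v) : Matrix ι ι F) *ᵥ y)
      = f x y := by
  rw [hf.ut_mulVec hv, hf.ut_mulVec hv, hf.add_left, hf.add_right, hf.add_right, hf.smul_left,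
    hf.smul_left, hf.smul_right, hf.smul_right, hv, map_mul, ha, hf.skew v y]
  ring

theorem ut_conj {g : GL ι F} (hiso : ∀ u v, f ((g : Matrix ι ι F) *ᵥ u) ((g : Matrix ι ι F) *ᵥ v) = f u v)
    {v : ι → F} (hv : f v v = 0) (a : F) :
    g * tv v (a • formVec f v) * g⁻¹ =
      tv ((g : Matrix ι ι F) *ᵥ v) (a • formVec f ((g : Matrix ι ι F) *ᵥ v)) := by
  refine gl_ext fun u => ?_
  rw [gl_mul_mulVec, gl_mul_mulVec, hf.ut_mulVec hv, hf.ut_mulVec (by rw [hiso, hv]), mulVec_add,
    mulVec_smul, gl_mulVec_inv]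
  have := hiso (((g⁻¹ : GL ι F) : Matrix ι ι F) *ᵥ u) v
  rw [gl_mulVec_inv] at this
  rw [this]

end IsSkew

namespace RatForm

variable (R : RatForm F₀ σ f)
include R

theorem rat_formVec {v : ι → F} (hv : Rat F₀ v) : Rat F₀ (formVec f v) := fun i =>
  R.rat _ _ (Rat.single i (one_mem _)) hv

theorem exists_adj {v : ι → F} (hv : Rat F₀ v) : ∃ t ∈ F₀, t - σ t = f v v := by
  have hq := R.form.self_skew v
  have hqm : f v v ∈ F₀ := R.rat v v hv hv
  by_cases h2 : (2 : F) = 0
  · by_cases hfix : ∀ a ∈ F₀, σ a = a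
    · exact ⟨0, zero_mem _, by rw [map_zero, sub_zero, R.alt h2 hfix v hv]⟩
    · push Not at hfix
      obtain ⟨b, hb, hbne⟩ := hfix
      have hneg : ∀ x : F, -x = x := fun x => by linear_combination (-x) * h2
      have hr : b + σ b ≠ 0 := fun h => hbne (by linear_combination h - b * h2)
      refine ⟨f v v / (b + σ b) * b, mul_mem (div_mem hqm (add_mem hb (R.stable b hb))) hb, ?_⟩
      rw [map_mul, map_div₀, map_add, R.form.invol, hq, hneg, add_comm (σ b)]
      field_simp
      linear_combination (-(f v v * σ b)) * h2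
  · refine ⟨f v v / 2, div_mem hqm (by rw [← one_add_one_eq_two]; exact add_mem (one_mem _) (one_mem _)), ?_⟩
    rw [map_div₀, hq, map_ofNat]
    field_simp
    ring

/-- Norms from the subfield, when the involution moves it. -/
theorem exists_norm [Finite F] {b₀ : F} (hb₀ : b₀ ∈ F₀) (hb₀σ : σ b₀ ≠ b₀) {r : F} (hr : r ∈ F₀)
    (hrσ : σ r = r) : ∃ d ∈ F₀, d * σ d = r := by
  set e := b₀ - σ b₀
  have he : e ≠ 0 := sub_ne_zero.2 (Ne.symm hb₀σ)
  have heF : e ∈ F₀ := sub_mem hb₀ (R.stable b₀ hb₀)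
  have hσe : σ e = -e := by simp only [e, map_sub, R.form.invol]; ring
  obtain ⟨⟨a, ha⟩, ⟨b, hb⟩, hab⟩ := Cfsg.Agent.Lib.Subspaces.UnitaryForm.exists_quad_root
    (⟨-r, by simp [hrσ], neg_mem hr⟩ : (RingHom.eqLocusField (σ : F →+* F) (RingHom.id F) ⊓ F₀ : Subfield F))
    1 ⟨-(e * e), by simp [hσe], neg_mem (mul_mem heF heF)⟩ one_ne_zero
    (fun h => mul_ne_zero he he (neg_eq_zero.mp (congrArg Subtype.val h)))
  have hab' : -r + 1 * a ^ 2 + -(e * e) * b ^ 2 = 0 := congrArg Subtype.val hab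
  refine ⟨a + b * e, add_mem ha.2 (mul_mem hb.2 heF), ?_⟩
  rw [map_add, map_mul, show σ a = a from ha.1, show σ b = b from hb.1, hσe]
  linear_combination hab'

/-- A rational isotropic vector orthogonal to `k` and outside the span of `l` rational vectors;
one less dimension suffices when the latter lie in the span of the former. -/
theorem orth {k l : ℕ} (φ : Fin k → ι → F) (hφ : ∀ i, Rat F₀ (φ i)) (u : Fin l → ι → F)
    (hu : ∀ i, Rat F₀ (u i)) (h : k + l + 2 < Fintype.card ι ∨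
      k + l + 1 < Fintype.card ι ∧ ∀ i, u i ∈ Submodule.span F (Set.range φ)) [Finite F] :
    ∃ z : ι → F, Rat F₀ z ∧ f z z = 0 ∧ z ∉ Submodule.span F (Set.range u) ∧ ∀ i, f z (φ i) = 0 := by
  classical
  have hf := R.form
  have key : ∀ {m : ℕ} (ψ : Fin m → ι → F), (∀ i, Rat F₀ (ψ i)) → m + l < Fintype.card ι →
      ∃ z : ι → F, Rat F₀ z ∧ z ∉ Submodule.span F (Set.range u) ∧ ∀ i, f z (ψ i) = 0 := by
    intro m ψ hψ hm
    obtain ⟨z, hz, hzn, hzo⟩ := exists_orth_not_mem (fun i => formVec f (ψ i))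
      (fun i => R.rat_formVec (hψ i)) u hu hm
    exact ⟨z, hz, hzn, fun i => by rw [← hf.fv_dot]; exact hzo i⟩
  obtain ⟨v1, h1, h1n, h1o⟩ := key φ hφ (by omega)
  by_cases q1 : f v1 v1 = 0
  · exact ⟨v1, h1, q1, h1n, h1o⟩
  obtain ⟨b₀, hb₀, hb₀σ⟩ : ∃ b ∈ F₀, σ b ≠ b := by
    by_contra hall
    push Not at hall
    by_cases h2 : (2 : F) = 0
    · exact q1 (R.alt h2 hall v1 h1)
    · have h3 := hf.self_skew v1
      rw [hall _ (R.rat v1 v1 h1 h1)] at h3
      exact q1 ((mul_eq_zero.1 (show 2 * f v1 v1 = 0 by linear_combination h3)).resolve_left h2)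
  obtain ⟨v2, h2, h2o, h2n⟩ : ∃ z : ι → F, Rat F₀ z ∧
      (∀ i, f z ((Fin.cons v1 φ : Fin (k + 1) → ι → F) i) = 0) ∧
      ∀ d : F, z + d • v1 ∉ Submodule.span F (Set.range u) := by
    have hφ' : ∀ i, Rat F₀ ((Fin.cons v1 φ : Fin (k + 1) → ι → F) i) := fun i => by
      cases i using Fin.cases <;> simp [h1, hφ]
    rcases h with h | ⟨h, hsp⟩
    · obtain ⟨z, hz, hzn, hzo⟩ := exists_orth_not_mem
        (fun i => formVec f ((Fin.cons v1 φ : Fin (k + 1) → ι → F) i))
        (fun i => R.rat_formVec (hφ' i))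
        (Fin.cons v1 u : Fin (l + 1) → ι → F) (fun i => by
          cases i using Fin.cases <;> simp [h1, hu]) (by omega)
      refine ⟨z, hz, fun i => by rw [← hf.fv_dot]; exact hzo i, fun d hm => hzn ?_⟩
      have hsub : Submodule.span F (Set.range u) ≤
          Submodule.span F (Set.range (Fin.cons v1 u : Fin (l + 1) → ι → F)) :=
        Submodule.span_mono (by rintro _ ⟨i, rfl⟩; exact ⟨i.succ, by simp⟩)
      have e : z = (z + d • v1) - d • v1 := by abel
      rw [e]
      exact Submodule.sub_mem _ (hsub hm) (Submodule.smul_mem _ _ (Submodule.subset_span ⟨0, by simp⟩))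
    · obtain ⟨z, hz, hzn, hzo⟩ := key _ hφ' (by omega)
      refine ⟨z, hz, hzo, fun d hm => hzn ?_⟩
      have hperp : f (z + d • v1) v1 = 0 := by
        refine Submodule.span_induction (p := fun x _ => f x v1 = 0) ?_ (hf.zero_left v1)
          (fun x y _ _ hx hy => by rw [hf.add_left, hx, hy, add_zero])
          (fun c x _ hx => by rw [hf.smul_left, hx, mul_zero])
          (Submodule.span_le.2 (Set.range_subset_iff.2 hsp) hm)
        rintro _ ⟨i, rfl⟩
        exact hf.swap_eq_zero (h1o i)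
      have z1 : f z v1 = 0 := by simpa using hzo 0
      rw [hf.add_left, hf.smul_left, z1, zero_add, mul_eq_zero] at hperp
      simpa [hperp.resolve_right q1] using hm
  have h21 : f v2 v1 = 0 := by simpa using h2o 0
  have h2o' : ∀ i, f v2 (φ i) = 0 := fun i => by simpa using h2o i.succ
  by_cases q2 : f v2 v2 = 0
  · exact ⟨v2, h2, q2, by simpa using h2n 0, h2o'⟩
  obtain ⟨d, hd, hdn⟩ := R.exists_norm hb₀ hb₀σ
    (r := -f v2 v2 / f v1 v1) (div_mem (neg_mem (R.rat v2 v2 h2 h2)) (R.rat v1 v1 h1 h1))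
    (by rw [map_div₀, map_neg, hf.self_skew, hf.self_skew, neg_neg, div_neg, neg_div])
  refine ⟨v2 + d • v1, fun i => add_mem (h2 i) (mul_mem hd (h1 i)), ?_, h2n d, fun i => ?_⟩
  · simp only [hf.add_left, hf.add_right, hf.smul_left, hf.smul_right, h21, hf.swap_eq_zero h21]
    field_simp at hdn
    linear_combination hdn
  · rw [hf.add_left, hf.smul_left, h2o', h1o]
    ring

/-- A rational isotropic vector with prescribed products. -/
theorem sep {k : ℕ} (u : Fin k → ι → F) (hu : ∀ i, Rat F₀ (u i)) {s : ι → F} (hs : Rat F₀ s)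
    (hns : s ∉ Submodule.span F (Set.range u)) (hk : k ≤ 1) [Finite F] :
    ∃ y : ι → F, Rat F₀ y ∧ f y y = 0 ∧ (∀ i, f (u i) y = 0) ∧ f s y = 1 := by
  classical
  have hf := R.form
  let us : Fin (k + 1) → ι → F := Fin.cons s u
  have hus : ∀ i, Rat F₀ (us i) := fun i => by cases i using Fin.cases <;> simp [us, hs, hu]
  obtain ⟨r, hr, hrr, hrn, hro⟩ := R.orth us hus us hus
    (.inr ⟨by have := R.card; omega, fun i => Submodule.subset_span ⟨i, rfl⟩⟩)
  have hrs : f r s = 0 := by simpa [us] using hro 0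
  have hru : ∀ i, f r (u i) = 0 := fun i => by simpa [us] using hro i.succ
  have hfun : ∀ {m : ℕ} (w : Fin m → ι → F), (∀ i, Rat F₀ (w i)) → ∀ {t : ι → F}, Rat F₀ t →
      t ∉ Submodule.span F (Set.range w) →
      ∃ y : ι → F, Rat F₀ y ∧ (∀ i, f (w i) y = 0) ∧ f t y = 1 := by
    intro m w hw t ht htn
    obtain ⟨χ, hχ, hχw, hχt⟩ := exists_sep w hw ht htn
    obtain ⟨y, hy, rfl⟩ := exists_rat_formVec hf.hl hf.add_right hf.nondegenerate R.rat hχ
    exact ⟨y, hy, fun i => by rw [← hf.fv_dot]; exact hχw i, by rw [← hf.fv_dot]; exact hχt⟩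
  have hsn : s ∉ Submodule.span F (Set.range (Fin.cons r u : Fin (k + 1) → ι → F)) := by
    intro hm
    rw [Submodule.mem_span_range_iff_exists_fun, ] at hm
    obtain ⟨c, hc⟩ := hm
    rw [Fin.sum_univ_succ] at hc
    simp only [Fin.cons_zero, Fin.cons_succ] at hc
    have hmem : ∑ i : Fin k, c i.succ • u i ∈ Submodule.span F (Set.range us) :=
      Submodule.sum_mem _ fun i _ => Submodule.smul_mem _ _ (Submodule.subset_span ⟨i.succ, by simp [us]⟩)
    by_cases hc0 : c 0 = 0
    · apply hns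
      rw [← hc, hc0, zero_smul, zero_add]
      exact Submodule.sum_mem _ fun i _ => Submodule.smul_mem _ _ (Submodule.subset_span ⟨i, rfl⟩)
    · apply hrn
      have : r = (c 0)⁻¹ • (s - ∑ i : Fin k, c i.succ • u i) := by
        rw [← hc, add_sub_cancel_right, inv_smul_smul₀ hc0]
      rw [this]
      exact Submodule.smul_mem _ _ (Submodule.sub_mem _ (Submodule.subset_span ⟨0, by simp [us]⟩) hmem)
  obtain ⟨y1, hy1, hy1o, hy1s⟩ := hfun (Fin.cons r u : Fin (k + 1) → ι → F)
    (fun i => by cases i using Fin.cases <;> simp [hr, hu]) hs hsn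
  obtain ⟨y2, hy2, hy2o, hy2r⟩ := hfun us hus hr hrn
  have h1r : f r y1 = 0 := by simpa using hy1o 0
  have h2s : f s y2 = 0 := by simpa [us] using hy2o 0
  set y0 := y1 + y2
  have hy0 : Rat F₀ y0 := fun i => add_mem (hy1 i) (hy2 i)
  obtain ⟨t, ht, htq⟩ := R.exists_adj hy0
  have hry0 : f r y0 = 1 := by rw [hf.add_right, h1r, hy2r, zero_add]
  refine ⟨y0 + (-t) • r, fun i => add_mem (hy0 i) (mul_mem (neg_mem ht) (hr i)), ?_, fun i => ?_, ?_⟩
  · simp only [hf.add_left, hf.add_right, hf.smul_left, hf.smul_right, hrr, hry0, hf.swap_eq_one hry0,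
      map_neg]
    linear_combination -htq
  · have e1 : f (u i) y1 = 0 := by simpa using hy1o i.succ
    have e2 : f (u i) y2 = 0 := by simpa [us] using hy2o i.succ
    rw [hf.add_right, hf.add_right, hf.smul_right, e1, e2, hf.swap_eq_zero (hru i)]
    ring
  · rw [hf.add_right, hf.add_right, hf.smul_right, hy1s, h2s, hf.swap_eq_zero hrs]
    ring

/-- A rational isotropic vector with prescribed products against vectors orthogonal to an isotropic one. -/
theorem sep_iso {k : ℕ} (u : Fin k → ι → F) (hu : ∀ i, Rat F₀ (u i)) {s : ι → F} (hs : Rat F₀ s)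
    (hns : s ∉ Submodule.span F (Set.range u)) (hss : f s s = 0) (hus : ∀ i, f s (u i) = 0) [Finite F] :
    ∃ y : ι → F, Rat F₀ y ∧ f y y = 0 ∧ (∀ i, f (u i) y = 0) ∧ f s y = 1 := by
  have hf := R.form
  obtain ⟨χ, hχ, hχu, hχs⟩ := exists_sep u hu hs hns
  obtain ⟨y, hy, rfl⟩ := exists_rat_formVec hf.hl hf.add_right hf.nondegenerate R.rat hχ
  have hsy : f s y = 1 := by rw [← hf.fv_dot]; exact hχs
  have huy : ∀ i, f (u i) y = 0 := fun i => by rw [← hf.fv_dot]; exact hχu i
  obtain ⟨t, ht, htq⟩ := R.exists_adj hy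
  refine ⟨y + (-t) • s, fun i => add_mem (hy i) (mul_mem (neg_mem ht) (hs i)), ?_, fun i => ?_, ?_⟩
  · simp only [hf.add_left, hf.add_right, hf.smul_left, hf.smul_right, hss, hsy, hf.swap_eq_one hsy,
      map_neg]
    linear_combination -htq
  · rw [hf.add_right, hf.smul_right, huy, hf.swap_eq_zero (hus i)]
    ring
  · rw [hf.add_right, hf.smul_right, hsy, hss]
    ring

/-- A rational vector orthogonal to a rational isotropic one is a sum of two such isotropic vectors. -/
theorem decompose [Finite F] {w y : ι → F} (hw : Rat F₀ w) (hww : f w w = 0) (hy : Rat F₀ y)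
    (hyw : f y w = 0) : ∃ a b : ι → F, Rat F₀ a ∧ Rat F₀ b ∧ f a a = 0 ∧ f b b = 0 ∧ f a w = 0 ∧
      f b w = 0 ∧ y = a + b := by
  have hf := R.form
  by_cases hyn : y ∈ Submodule.span F (Set.range ![w])
  · refine ⟨y, 0, hy, fun _ => zero_mem _, ?_, hf.zero_left 0, hyw, hf.zero_left w, (add_zero y).symm⟩
    rw [Matrix.range_cons, Matrix.range_empty, Set.union_empty] at hyn
    obtain ⟨c, rfl⟩ := Submodule.mem_span_singleton.1 hyn
    rw [hf.smul_left, hf.smul_right, hww, mul_zero, mul_zero]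
  obtain ⟨z, hz, hzz, hzo, hyz⟩ := R.sep ![w] (fun i => by fin_cases i; exact hw) hy hyn (by omega)
  have hzw : f z w = 0 := hf.swap_eq_zero (hzo 0)
  obtain ⟨t, ht, htq⟩ := R.exists_adj hy
  refine ⟨y + t • z, (-t) • z, fun i => add_mem (hy i) (mul_mem ht (hz i)), hz.smul (neg_mem ht), ?_, ?_, ?_,
    ?_, ?_⟩
  · simp only [hf.add_left, hf.add_right, hf.smul_left, hf.smul_right, hzz, hyz, hf.swap_eq_one hyz]
    linear_combination -htq
  · rw [hf.smul_left, hf.smul_right, hzz, mul_zero, mul_zero]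
  · rw [hf.add_left, hf.smul_left, hyw, hzw, mul_zero, add_zero]
  · rw [hf.smul_left, hzw, mul_zero]
  · simp

end RatForm

end Cfsg.Agent.Lib.SubfieldMax.SkewBasic
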