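import Mathlib.Algebra.Algebra.Subalgebra.IsSimpleOrder
import Cfsg.Agent.Lib.SubfieldMax.SkewBasic
import Cfsg.Agent.Lib.SubfieldMax.Form

/-!
Subgroups of the isometry group of a skew-Hermitian form containing the rational transvections of a
subfield structure: rigidity, or all transvections.
-/

set_option autoImplicit false

namespace Cfsg.Agent.Lib.SubfieldMax.SkewHerm

open Matrix Cfsg.Agent.Lib.Subspaces.Transvection Cfsg.Agent.Lib.Subspaces.FormVec
  Cfsg.Agent.Lib.SubfieldMax.Linear Cfsg.Agent.Lib.SubfieldMax.RatLin Cfsg.Agent.Lib.SubfieldMax.Form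
  Cfsg.Agent.Lib.SubfieldMax.SkewBasic

variable {ι : Type} [Fintype ι] [DecidableEq ι] {F : Type*} [Field F]

/-- Standing data. -/
structure Setting (F₀ : Subfield F) (σ : F ≃+* F) (f : (ι → F) → (ι → F) → F)
    (M : Subgroup (GL ι F)) : Prop extends RatForm F₀ σ f where
  iso : ∀ g ∈ M, ∀ u v, f ((g : Matrix ι ι F) *ᵥ u) ((g : Matrix ι ι F) *ᵥ v) = f u v
  hT : ∀ v, Rat F₀ v → f v v = 0 → ∀ a ∈ F₀, σ a = a → tv v (a • formVec f v) ∈ M

/-- `g` acts as the element attached to `x ⊥ w` and the scalar `b`. -/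
def IsS (f : (ι → F) → (ι → F) → F) (x w : ι → F) (b : F) (g : GL ι F) : Prop :=
  ∀ u, (g : Matrix ι ι F) *ᵥ u = u + f u x • w + f u w • x + (b * f u w) • w

/-- The subgroup contains the pure element attached to `x` and `w`. -/
def Pure (f : (ι → F) → (ι → F) → F) (M : Subgroup (GL ι F)) (x w : ι → F) : Prop :=
  ∃ g ∈ M, IsS f x w 0 g

/-- Some pure element with rational directions has an irrational parameter. -/
def GoodS (F₀ : Subfield F) (f : (ι → F) → (ι → F) → F) (M : Subgroup (GL ι F)) : Prop :=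
  ∃ (w u : ι → F) (k : F), Rat F₀ w ∧ Rat F₀ u ∧ f w w = 0 ∧ f u u = 0 ∧ f u w = 0 ∧ w ≠ 0 ∧
    u ∉ Submodule.span F (Set.range ![w]) ∧ k ∉ F₀ ∧ Pure f M (k • u) w

variable {F₀ : Subfield F} {σ : F ≃+* F} {f : (ι → F) → (ι → F) → F} {M : Subgroup (GL ι F)}

section

variable (hf : IsSkew σ f)
include hf

/-- Composition. -/
theorem IsS.mul {x x' w : ι → F} {b b' : F} {g g' : GL ι F} (hg : IsS f x w b g) (hg' : IsS f x' w b' g')
    (hw : f w w = 0) (hxw : f x w = 0) (hxw' : f x' w = 0) :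
    IsS f (x + x') w (b + b' + f x' x) (g * g') := by
  intro u
  rw [gl_mul_mulVec, hg' u, hg]
  simp only [hf.add_left, hf.smul_left, hf.add_right, hw, hxw', hf.swap_eq_zero hxw,
    mul_zero, add_zero, add_smul, mul_smul, smul_add, mul_add]
  module

/-- Inverse. -/
theorem IsS.inv {x w : ι → F} {b : F} {g : GL ι F} (hg : IsS f x w b g) (hw : f w w = 0) (hxw : f x w = 0) :
    IsS f (-x) w (f x x - b) g⁻¹ := by
  intro u
  apply gl_mulVec_injective g
  show (g : Matrix ι ι F) *ᵥ _ = (g : Matrix ι ι F) *ᵥ _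
  rw [gl_mulVec_inv, hg]
  simp only [sub_eq_add_neg, add_mul, hf.add_left, hf.smul_left, hf.neg_right, hf.neg_left, hw, hxw,
    hf.swap_eq_zero hxw, mul_zero, neg_zero, add_zero, add_smul, mul_smul, smul_add, mul_add, neg_smul, smul_neg,
    neg_mul, mul_neg]
  module

theorem IsS.symm {k : F} {x w : ι → F} {g : GL ι F} (hg : IsS f (k • x) w 0 g) :
    IsS f (σ k • w) x 0 g := by
  intro u
  rw [hg u]
  simp only [hf.smul_right, hf.invol, zero_mul, zero_smul, add_zero, mul_smul]
  module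

theorem IsS.conj (hiso : ∀ g ∈ M, ∀ u v, f ((g : Matrix ι ι F) *ᵥ u) ((g : Matrix ι ι F) *ᵥ v) = f u v)
    {x w : ι → F} {b : F} {g h : GL ι F} (hgS : IsS f x w b g) (hh : h ∈ M)
    (hhw : (h : Matrix ι ι F) *ᵥ w = w) : IsS f ((h : Matrix ι ι F) *ᵥ x) w b (h * g * h⁻¹) := by
  intro u
  rw [gl_mul_mulVec, gl_mul_mulVec, hgS]
  simp only [mulVec_add, mulVec_smul, hhw, gl_mulVec_inv]
  have e1 := hiso h hh (((h⁻¹ : GL ι F) : Matrix ι ι F) *ᵥ u) x
  have e2 := hiso h hh (((h⁻¹ : GL ι F) : Matrix ι ι F) *ᵥ u) w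
  rw [gl_mulVec_inv] at e1 e2
  rw [hhw] at e2
  rw [e1, e2]

/-- A commutator of elements at `w` is pure. -/
theorem pure_diff (hiso : ∀ g ∈ M, ∀ u v, f ((g : Matrix ι ι F) *ᵥ u) ((g : Matrix ι ι F) *ᵥ v) = f u v)
    {x w : ι → F} {b : F} {g h : GL ι F} (hg : g ∈ M) (hgS : IsS f x w b g) (hh : h ∈ M)
    (hhw : (h : Matrix ι ι F) *ᵥ w = w) (hw : f w w = 0) (hxw : f x w = 0)
    (hx : f ((h : Matrix ι ι F) *ᵥ x) x = f x x) :
    Pure f M (((h : Matrix ι ι F) *ᵥ x) - x) w := by
  have hconj := IsS.conj hf hiso hgS hh hhw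
  have hhxw : f ((h : Matrix ι ι F) *ᵥ x) w = 0 := by rw [← hxw, ← hiso h hh x w, hhw]
  refine ⟨g⁻¹ * (h * g * h⁻¹), M.mul_mem (M.inv_mem hg) (M.mul_mem (M.mul_mem hh hg) (M.inv_mem hh)), ?_⟩
  have h1 := IsS.mul hf (IsS.inv hf hgS hw hxw) hconj hw (by rw [hf.neg_left, hxw, neg_zero]) hhxw
  rw [hf.neg_right, hx, sub_add_cancel, add_neg_cancel, neg_add_eq_sub] at h1
  exact h1

/-- Products of two transvections with centres differing by an orthogonal vector. -/
theorem tv_pair {v w : ι → F} (hv : f v v = 0) (hw : f w w = 0) (hvw : f v w = 0) {c : F} (hc : σ c = c) :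
    IsS f (c • v) w c (tv (v + w) (c • formVec f (v + w)) * (tv v (c • formVec f v))⁻¹) := by
  intro u
  have hvw' : f (v + w) (v + w) = 0 := by
    simp [hf.add_left, hf.add_right, hv, hw, hvw, hf.swap_eq_zero hvw]
  rw [tv_inv (hf.ut_dot hv c), ← neg_smul, gl_mul_mulVec, hf.ut_mulVec hv, hf.ut_mulVec hvw']
  simp only [hf.add_left, hf.smul_left, hf.add_right, hf.smul_right, hf.neg_left, hc, hvw, hv,
    mul_zero, neg_zero, add_zero, smul_add, add_smul, mul_smul, neg_mul, mul_add, neg_smul]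
  module

end

namespace Setting

variable (S : Setting F₀ σ f M)
include S

theorem pure_rat {y u : ι → F} (hy : Rat F₀ y) (hu : Rat F₀ u) (hyy : f y y = 0) (huu : f u u = 0)
    (hyu : f y u = 0) {a : F} (ha : a ∈ F₀) : Pure f M (a • y) u := by
  have hf := S.form
  have hay : Rat F₀ (a • y) := hy.smul ha
  have hayy : f (a • y) (a • y) = 0 := by rw [hf.smul_left, hf.smul_right, hyy, mul_zero, mul_zero]
  have hayu : f (a • y) u = 0 := by rw [hf.smul_left, hyu, mul_zero]
  have h1 := tv_pair hf hayy huu hayu (map_one σ)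
  have h2 : IsS f 0 u (-1 : F) (tv u ((-1 : F) • formVec f u)) := fun z => by
    rw [hf.ut_mulVec huu, hf.zero_right]
    simp
  have hiso : f (a • y + u) (a • y + u) = 0 := by
    simp only [hf.add_left, hf.add_right, hayy, huu, hayu, hf.swap_eq_zero hayu, add_zero]
  refine ⟨_, M.mul_mem (M.mul_mem (S.hT _ (fun i => add_mem (hay i) (hu i)) hiso 1 (one_mem _) (map_one σ))
    (M.inv_mem (S.hT _ hay hayy 1 (one_mem _) (map_one σ))))
    (S.hT u hu huu _ (neg_mem (one_mem _)) (by rw [map_neg, map_one])), ?_⟩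
  have h3 := IsS.mul hf h1 h2 huu (by rw [one_smul, hayu]) (hf.zero_left u)
  rwa [add_zero, hf.zero_left, add_zero, add_neg_cancel, one_smul] at h3

/-- The commutator step. -/
theorem step {w y y' u : ι → F} {k l b : F} (hw : f w w = 0) (hyy : f y y = 0) (hwy : f y w = 0)
    (hwy' : f y' w = 0) (hwu : f u w = 0) (hyy' : f y y' = 1) (hyu : f y u = 0) {g : GL ι F} (hg : g ∈ M)
    (hgS : IsS f (k • y) w b g) (hh : Pure f M (l • y') u) : Pure f M ((k * σ l) • u) w := by
  have hf := S.form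
  obtain ⟨h, hhM, hhS⟩ := hh
  have h1 : (h : Matrix ι ι F) *ᵥ w = w := by
    rw [hhS]
    simp [hf.smul_right, hf.swap_eq_zero hwy', hf.swap_eq_zero hwu]
  have h2 : (h : Matrix ι ι F) *ᵥ (k • y) = k • y + (k * σ l) • u := by
    rw [hhS]
    simp [hf.smul_right, hf.smul_left, hyy', hyu, mul_comm]
  have h3 := pure_diff hf S.iso hg hgS hhM h1 hw (by rw [hf.smul_left, hwy, mul_zero])
    (by rw [h2]; simp [hf.add_left, hf.smul_right, hf.smul_left, hyy, hf.swap_eq_zero hyu])
  rwa [h2, add_sub_cancel_left] at h3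

theorem coeff_mem (hG : ¬ GoodS F₀ f M) [Finite F] {w y : ι → F} {k b : F} (hw : Rat F₀ w) (hw0 : w ≠ 0)
    (hww : f w w = 0) (hy : Rat F₀ y) (hyy : f y y = 0) (hwy : f y w = 0)
    (hyn : y ∉ Submodule.span F (Set.range ![w])) {g : GL ι F} (hg : g ∈ M)
    (hgS : IsS f (k • y) w b g) : k ∈ F₀ := by
  have hf := S.form
  by_contra hk
  obtain ⟨y', hy', hy'y', hy'o, hyy'⟩ := S.sep ![w] (fun i => by fin_cases i; exact hw) hy hyn (by omega)
  obtain ⟨u, hu, huu, hun, huo⟩ := S.orth ![w, y, y'] (fun i => by fin_cases i; exacts [hw, hy, hy'])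
    ![w] (fun i => by fin_cases i; exact hw) (.inr ⟨by have := S.card; omega,
      fun i => Submodule.subset_span ⟨0, by fin_cases i; rfl⟩⟩)
  have o1 : f u w = 0 := huo 0
  have o2 : f u y = 0 := huo 1
  have o3 : f u y' = 0 := huo 2
  have h2 := S.step hww hyy hwy (hf.swap_eq_zero (hy'o 0)) o1 hyy' (hf.swap_eq_zero o2) hg hgS
    (S.pure_rat hy' hu hy'y' huu (hf.swap_eq_zero o3) (one_mem F₀))
  rw [map_one, mul_one] at h2
  exact hG ⟨w, u, k, hw, hu, hww, huu, o1, hw0, hun, hk, h2⟩

theorem form_mem (hG : ¬ GoodS F₀ f M) [Finite F] {w x : ι → F} {b : F} (hw : Rat F₀ w) (hw0 : w ≠ 0)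
    (hww : f w w = 0) {g : GL ι F} (hg : g ∈ M) (hgS : IsS f x w b g) (hxw : f x w = 0) {y : ι → F}
    (hy : Rat F₀ y) (hwy : f y w = 0) : f x y ∈ F₀ := by
  have hf := S.form
  suffices H : ∀ y, Rat F₀ y → f y y = 0 → f y w = 0 → f x y ∈ F₀ by
    obtain ⟨a, c, ha, hc, haa, hcc, haw, hcw, rfl⟩ := S.decompose hw hww hy hwy
    rw [hf.add_right]
    exact add_mem (H a ha haa haw) (H c hc hcc hcw)
  intro y hy hyy hwy
  by_cases hyn : y ∈ Submodule.span F (Set.range ![w])
  · rw [Matrix.range_cons, Matrix.range_empty, Set.union_empty] at hyn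
    obtain ⟨c, rfl⟩ := Submodule.mem_span_singleton.1 hyn
    rw [hf.smul_right, hxw, mul_zero]
    exact zero_mem F₀
  set t := tv y ((1 : F) • formVec f y)
  have htM : t ∈ M := S.hT y hy hyy 1 (one_mem _) (map_one σ)
  have h1 : (t : Matrix ι ι F) *ᵥ w = w := by
    rw [hf.ut_mulVec hyy, hf.swap_eq_zero hwy, mul_zero, zero_smul, add_zero]
  have htx : (t : Matrix ι ι F) *ᵥ x = x + f x y • y := by rw [hf.ut_mulVec hyy, one_mul]
  have h2 := IsS.mul hf (IsS.inv hf hgS hww hxw) (IsS.conj hf S.iso hgS htM h1) hww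
    (by rw [hf.neg_left, hxw, neg_zero])
    (by rw [htx, hf.add_left, hf.smul_left, hxw, hwy, mul_zero, add_zero])
  rw [htx, neg_add_cancel_left] at h2
  exact S.coeff_mem hG hw hw0 hww hy hyy hwy hyn
    (M.mul_mem (M.inv_mem hg) (M.mul_mem (M.mul_mem htM hg) (M.inv_mem htM))) h2

/-- Rational directions in a plane. -/
theorem mem_plane_span [Finite F] {x r w : ι → F} {μ : F} (hw : Rat F₀ w) (hr : Rat F₀ r)
    (hx : x = μ • w + r) (hμ : μ ∉ F₀) {u₁ u₂ : ι → F} (hu₁ : Rat F₀ u₁) (hu₂ : Rat F₀ u₂)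
    (hx' : x ∈ Submodule.span F {u₁, u₂}) :
    w ∈ Submodule.span F {u₁, u₂} ∧ r ∈ Submodule.span F {u₁, u₂} := by
  have key : ∀ χ : ι → F, Rat F₀ χ → χ ⬝ᵥ u₁ = 0 → χ ⬝ᵥ u₂ = 0 → χ ⬝ᵥ w = 0 ∧ χ ⬝ᵥ r = 0 := by
    intro χ hχ h1 h2
    obtain ⟨s, t, hst⟩ := Submodule.mem_span_pair.1 hx'
    have h3 := congrArg (fun z => χ ⬝ᵥ z) hst
    simp only [hx, dotProduct_add, dotProduct_smul, h1, h2, smul_eq_mul, mul_zero, add_zero] at h3
    by_cases hwy : χ ⬝ᵥ w = 0
    · rw [hwy, mul_zero, zero_add] at h3; exact ⟨hwy, h3.symm⟩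
    · exfalso
      apply hμ
      have : μ = -(χ ⬝ᵥ r) / (χ ⬝ᵥ w) := by rw [eq_div_iff hwy]; linear_combination h3.symm
      rw [this]
      exact div_mem (neg_mem (hχ.dot hr)) (hχ.dot hw)
  constructor
  · by_contra hn
    obtain ⟨χ, hχ, hχo, hχ1⟩ := exists_sep ![u₁, u₂] (fun i => by fin_cases i; exacts [hu₁, hu₂]) hw
      (by rwa [Matrix.range_cons_cons_empty])
    exact one_ne_zero (hχ1.symm.trans (key χ hχ (hχo 0) (hχo 1)).1)
  · by_contra hn
    obtain ⟨χ, hχ, hχo, hχ1⟩ := exists_sep ![u₁, u₂] (fun i => by fin_cases i; exacts [hu₁, hu₂]) hr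
      (by rwa [Matrix.range_cons_cons_empty])
    exact one_ne_zero (hχ1.symm.trans (key χ hχ (hχo 0) (hχo 1)).2)

/-- A functional vanishing on rational isotropic vectors orthogonal to `w` is a multiple of that of `w`. -/
theorem ker_mem [Finite F] {w : ι → F} (hw : Rat F₀ w) (hww : f w w = 0) {P : (ι → F) → Prop}
    (hadd : ∀ a c, P a → P c → P (a + c))
    (h : ∀ z, Rat F₀ z → f z z = 0 → f z w = 0 → P z) (i j : ι) :
    P (formVec f w i • Pi.single j 1 - formVec f w j • Pi.single i 1) := by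
  have hf := S.form
  have hφ := S.rat_formVec hw
  obtain ⟨a, c, ha, hc, haa, hcc, haw, hcw, he⟩ := S.decompose hw hww
    (((Rat.single j (one_mem _)).smul (hφ i)).sub ((Rat.single i (one_mem _)).smul (hφ j)))
    (by rw [← hf.fv_dot]; simp [dotProduct_sub]; ring)
  rw [he]
  exact hadd a c (h a ha haa haw) (h c hc hcc hcw)

theorem eq_smul_of_formVec {v w : ι → F} {d : F} (h : formVec f v = σ d • formVec f w) : v = d • w := by
  have hf := S.form
  by_contra hne
  obtain ⟨⟨x, hx⟩, -⟩ := hf.nondegenerate _ (sub_ne_zero.2 hne)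
  apply hx
  have h1 := hf.add_right x (v - d • w) (d • w)
  rw [sub_add_cancel, hf.smul_right, ← hf.fv_dot v, ← hf.fv_dot w, h, smul_dotProduct, smul_eq_mul] at h1
  linear_combination -h1

/-- A centre orthogonal to a rational one lies in a rational plane. -/
theorem exists_plane (hG : ¬ GoodS F₀ f M) [Finite F] {a w : ι → F} (ha0 : a ≠ 0) (haa : f a a = 0)
    (hM : tv a ((1 : F) • formVec f a) ∈ M) (hw : Rat F₀ w) (hw0 : w ≠ 0) (hww : f w w = 0)
    (haw : f a w = 0) :
    ∃ (l μ : F) (r : ι → F), l ≠ 0 ∧ Rat F₀ r ∧ f r w = 0 ∧ l • a = μ • w + r := by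
  have hf := S.form
  obtain ⟨i, hi⟩ := Function.ne_iff.1 (formVec_ne_zero hf.hl hf.nondegenerate hw0)
  simp only [Pi.zero_apply] at hi
  have hφ : Rat F₀ (formVec f w) := S.rat_formVec hw
  by_cases hex : ∃ z, Rat F₀ z ∧ f z z = 0 ∧ f z w = 0 ∧ f a z ≠ 0
  · obtain ⟨z, hz, hzz, hzw, haz⟩ := hex
    set β := f a z
    have hβ : σ β ≠ 0 := fun h => haz (σ.injective (by rw [h, map_zero]))
    have hkey : ∀ y, Rat F₀ y → f y w = 0 → σ β * f a y ∈ F₀ := by
      intro y hy hyw
      obtain ⟨h', hhM, hhS⟩ := S.pure_rat hz hw hzz hww hzw (one_mem F₀)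
      have hha : (h' : Matrix ι ι F) *ᵥ a = a + β • w := by
        rw [hhS]
        simp [haw, β]
      have h1 : tv (a + β • w) ((1 : F) • formVec f (a + β • w)) ∈ M := by
        rw [← hha, ← hf.ut_conj (S.iso h' hhM) haa]
        exact M.mul_mem (M.mul_mem hhM hM) (M.inv_mem hhM)
      have h2 : IsS f (σ β • a) w (β * σ β)
          (tv (a + β • w) ((1 : F) • formVec f (a + β • w)) * (tv a ((1 : F) • formVec f a))⁻¹) := by
        intro u
        rw [tv_pair hf haa (by rw [hf.smul_left, hf.smul_right, hww, mul_zero, mul_zero])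
          (show f a (β • w) = 0 by rw [hf.smul_right, haw, mul_zero]) (map_one σ) u]
        simp only [hf.smul_right, one_smul, hf.invol]
        module
      have h3 := S.form_mem hG hw hw0 hww (M.mul_mem h1 (M.inv_mem hM)) h2
        (by rw [hf.smul_left, haw, mul_zero]) hy hyw
      rwa [hf.smul_left] at h3
    set μ := formVec f (σ β • a) i / formVec f w i
    have hr : Rat F₀ (formVec f (σ β • a) - μ • formVec f w) := fun j => by
      have hy := hkey (formVec f w i • Pi.single j 1 - formVec f w j • Pi.single i 1)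
        (((Rat.single j (one_mem _)).smul (hφ i)).sub ((Rat.single i (one_mem _)).smul (hφ j)))
        (by rw [← hf.fv_dot]; simp [dotProduct_sub]; ring)
      rw [← hf.smul_left, hf.skew, ← hf.fv_dot] at hy
      have hy' := S.stable _ (neg_mem hy)
      rw [neg_neg, hf.invol] at hy'
      simp [dotProduct_sub] at hy'
      have e : (formVec f (σ β • a) - μ • formVec f w) j =
          (formVec f w i * formVec f (σ β • a) j - formVec f w j * formVec f (σ β • a) i) / formVec f w i := by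
        simp only [Pi.sub_apply, Pi.smul_apply, smul_eq_mul, μ]
        field_simp
      rw [e]
      exact div_mem hy' (hφ i)
    obtain ⟨r, hrr, hr'⟩ := exists_rat_formVec hf.hl hf.add_right hf.nondegenerate S.rat hr
    have heq : σ β • a = σ μ • w + r := by
      by_contra hne
      obtain ⟨⟨x, hx⟩, -⟩ := hf.nondegenerate _ (sub_ne_zero.2 hne)
      apply hx
      have h1 := hf.add_right x (σ β • a - (σ μ • w + r)) (σ μ • w + r)
      rw [sub_add_cancel, hf.add_right x (σ μ • w) r, hf.smul_right (σ μ) x w] at h1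
      rw [← hf.fv_dot (σ β • a), ← hf.fv_dot w, ← hf.fv_dot r, hr', hf.invol, sub_dotProduct,
        smul_dotProduct] at h1
      simp only [smul_eq_mul] at h1
      linear_combination -h1
    refine ⟨σ β, σ μ, r, hβ, hrr, ?_, heq⟩
    have := congrArg (fun z => f z w) heq
    simpa [hf.add_left, hf.smul_left, haw, hww] using this.symm
  · push Not at hex
    refine ⟨1, σ (formVec f a i / formVec f w i), 0, one_ne_zero, fun _ => zero_mem _, hf.zero_left w, ?_⟩
    rw [one_smul, add_zero]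
    refine S.eq_smul_of_formVec ?_
    rw [hf.invol]
    funext j
    have hy := S.ker_mem hw hww (P := fun z => f a z = 0)
      (fun p q hp hq => by rw [hf.add_right, hp, hq, add_zero]) hex i j
    have hy' := hf.swap_eq_zero hy
    rw [← hf.fv_dot] at hy'
    simp [dotProduct_sub] at hy'
    rw [Pi.smul_apply, smul_eq_mul, div_mul_eq_mul_div, eq_div_iff hi]
    linear_combination hy'

/-- A centre orthogonal to a rational isotropic vector is rational. -/
theorem rat_of_orth (hG : ¬ GoodS F₀ f M) [Finite F] {a w : ι → F} (ha0 : a ≠ 0) (haa : f a a = 0)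
    (hM : tv a ((1 : F) • formVec f a) ∈ M) (hw : Rat F₀ w) (hw0 : w ≠ 0) (hww : f w w = 0)
    (haw : f a w = 0) : ∃ l : F, l ≠ 0 ∧ Rat F₀ (l • a) := by
  have hf := S.form
  obtain ⟨l, μ, r, hl, hr, hrw, heq⟩ := S.exists_plane hG ha0 haa hM hw hw0 hww haw
  by_cases hμ : μ ∈ F₀
  · exact ⟨l, hl, heq ▸ fun i => add_mem (mul_mem hμ (hw i)) (hr i)⟩
  by_cases hrn : r ∈ Submodule.span F {w}
  · obtain ⟨d, rfl⟩ := Submodule.mem_span_singleton.1 hrn
    rw [← add_smul] at heq
    have hμd : μ + d ≠ 0 := fun h0 => by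
      rw [h0, zero_smul, smul_eq_zero] at heq
      exact heq.elim hl ha0
    exact ⟨(μ + d)⁻¹ * l, mul_ne_zero (inv_ne_zero hμd) hl, by
      rw [mul_smul, heq, inv_smul_smul₀ hμd]; exact hw⟩
  obtain ⟨w₂, hw₂, hw₂w₂, hw₂n, hw₂o⟩ := S.orth ![w, r] (fun i => by fin_cases i; exacts [hw, hr])
    ![w, r] (fun i => by fin_cases i; exacts [hw, hr]) (.inr ⟨by have := S.card; omega,
      fun i => Submodule.subset_span ⟨i, rfl⟩⟩)
  have hw₂0 : w₂ ≠ 0 := fun e => hw₂n (e ▸ Submodule.zero_mem _)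
  have haw₂ : f a w₂ = 0 := by
    have h1 : f (l • a) w₂ = 0 := by
      have e1 : f w₂ w = 0 := hw₂o 0
      have e2 : f w₂ r = 0 := hw₂o 1
      rw [heq, hf.add_left, hf.smul_left, hf.swap_eq_zero e1, hf.swap_eq_zero e2, mul_zero, add_zero]
    rw [hf.smul_left] at h1
    exact (mul_eq_zero.1 h1).resolve_left hl
  obtain ⟨l₂, μ₂, r₂, hl₂, hr₂, -, heq₂⟩ := S.exists_plane hG ha0 haa hM hw₂ hw₂0 hw₂w₂ haw₂
  have hmem : l • a ∈ Submodule.span F {w₂, r₂} := by
    have : l • a = (l * l₂⁻¹) • (μ₂ • w₂ + r₂) := by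
      rw [← heq₂, smul_smul, inv_mul_cancel_right₀ hl₂]
    rw [this]
    exact Submodule.smul_mem _ _ (Submodule.add_mem _ (Submodule.smul_mem _ _ (Submodule.subset_span (by simp)))
      (Submodule.subset_span (by simp)))
  obtain ⟨hwm, hrm⟩ := S.mem_plane_span hw hr heq hμ hw₂ hr₂ hmem
  exfalso
  apply hw₂n
  have hle : Submodule.span F {w, r} ≤ Submodule.span F {w₂, r₂} := by
    rw [Submodule.span_le]
    rintro z (rfl | rfl)
    · exact hwm
    · exact hrm
  have hli : LinearIndependent F ![w, r] := by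
    rw [LinearIndependent.pair_iff' hw0]
    exact fun d hd => hrn (Submodule.mem_span_singleton.2 ⟨d, hd⟩)
  have h2 : Module.finrank F (Submodule.span F {w, r}) = 2 := by
    have := finrank_span_eq_card hli
    rwa [Matrix.range_cons_cons_empty, Fintype.card_fin] at this
  have h3 : Module.finrank F (Submodule.span F {w₂, r₂}) ≤ 2 := by
    have := finrank_range_le_card (R := F) ![w₂, r₂]
    rwa [Set.finrank, Matrix.range_cons_cons_empty, Fintype.card_fin] at this
  have heq' := Submodule.eq_of_le_of_finrank_le hle (by rw [h2]; exact h3)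
  have : w₂ ∈ Submodule.span F {w, r} := heq' ▸ Submodule.subset_span (by simp)
  rwa [Matrix.range_cons_cons_empty]

/-- Rigidity. -/
theorem rational_of_not_good (hG : ¬ GoodS F₀ f M) [Finite F] {g : GL ι F} (hg : g ∈ M) :
    RatUpTo F₀ g := by
  have hf := S.form
  -- rational vectors orthogonal to a rational isotropic one force rationality
  have hL : ∀ g ∈ M, ∀ x w : ι → F, Rat F₀ x → x ≠ 0 → f x x = 0 → Rat F₀ w → w ≠ 0 → f w w = 0 →
      f w ((g : Matrix ι ι F) *ᵥ x) = 0 → RatUpTo F₀ g := by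
    intro g hg x w hx hx0 hxx hw hw0 hww hwx
    have horthrat : ∀ v, Rat F₀ v → f v v = 0 → ∀ w, Rat F₀ w → f w w = 0 → v ≠ 0 → w ≠ 0 →
        f ((g : Matrix ι ι F) *ᵥ v) w = 0 → ∃ l : F, l ≠ 0 ∧ Rat F₀ (l • ((g : Matrix ι ι F) *ᵥ v)) := by
      intro v hv hvv w hw hww hv0 hw0 h
      refine S.rat_of_orth hG (fun e => hv0 (gl_mulVec_injective g (by simpa using e)))
        (by rw [S.iso g hg, hvv]) ?_ hw hw0 hww h
      rw [← hf.ut_conj (S.iso g hg) hvv]
      exact M.mul_mem (M.mul_mem hg (S.hT v hv hvv 1 (one_mem _) (map_one σ))) (M.inv_mem hg)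
    obtain ⟨lx, hlx, hxr⟩ := horthrat x hx hxx w hw hww hx0 hw0 (hf.swap_eq_zero hwx)
    have hperp : ∀ v, Rat F₀ v → f v v = 0 → v ≠ 0 → ∀ (l : F) (y : ι → F), Rat F₀ y → f y y = 0 → y ≠ 0 →
        l ≠ 0 → Rat F₀ (l • ((g : Matrix ι ι F) *ᵥ y)) → f v y = 0 →
        ∃ l : F, l ≠ 0 ∧ Rat F₀ (l • ((g : Matrix ι ι F) *ᵥ v)) := by
      intro v hv hvv hv0 l y hy hyy hy0 hl hyr hvy
      refine horthrat v hv hvv _ hyr ?_ hv0 ?_ ?_
      · rw [hf.smul_left, hf.smul_right, S.iso g hg, hyy, mul_zero, mul_zero]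
      · exact smul_ne_zero hl fun e => hy0 (gl_mulVec_injective g (by simpa using e))
      · rw [hf.smul_right, S.iso g hg, hvy, mul_zero]
    have hall : ∀ v, Rat F₀ v → f v v = 0 → v ≠ 0 →
        ∃ l : F, l ≠ 0 ∧ Rat F₀ (l • ((g : Matrix ι ι F) *ᵥ v)) := by
      intro v hv hvv hv0
      obtain ⟨v', hv', hv'v', hv'n, hv'o⟩ := S.orth ![v, x] (fun i => by fin_cases i; exacts [hv, hx])
        ![x] (fun i => by fin_cases i; exact hx) (by have := S.card; omega)
      have hv'0 : v' ≠ 0 := fun e => hv'n (e ▸ Submodule.zero_mem _)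
      obtain ⟨l', hl', hv'r⟩ := hperp v' hv' hv'v' hv'0 lx x hx hxx hx0 hlx hxr (hv'o 1)
      exact hperp v hv hvv hv0 l' v' hv' hv'v' hv'0 hl' hv'r (hf.swap_eq_zero (hv'o 0))
    have hprod : ∀ u v : ι → F, ∀ a b : F, Rat F₀ (a • ((g : Matrix ι ι F) *ᵥ u)) →
        Rat F₀ (b • ((g : Matrix ι ι F) *ᵥ v)) → Rat F₀ u → Rat F₀ v → f u v ≠ 0 → a * σ b ∈ F₀ := by
      intro u v a b hu hv hur hvr huv
      have h1 := S.rat _ _ hu hv
      rw [hf.smul_left, hf.smul_right, S.iso g hg, ← mul_assoc] at h1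
      have := mul_mem h1 (inv_mem (S.rat u v hur hvr))
      rwa [mul_assoc, mul_inv_cancel₀ huv, mul_one] at this
    have hscal : ∀ v, Rat F₀ v → f v v = 0 → Rat F₀ (lx • ((g : Matrix ι ι F) *ᵥ v)) := by
      intro v hv hvv
      rcases eq_or_ne v 0 with rfl | hv0
      · rw [mulVec_zero, smul_zero]; exact fun _ => zero_mem _
      obtain ⟨l, hl, hjr⟩ := hall v hv hvv hv0
      have hstep : ∀ p q : ι → F, Rat F₀ p → f p p = 0 → p ≠ 0 → Rat F₀ q → f q q = 0 → q ≠ 0 → f p q = 0 →
          ∀ a b : F, b ≠ 0 → Rat F₀ (a • ((g : Matrix ι ι F) *ᵥ p)) →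
          Rat F₀ (b • ((g : Matrix ι ι F) *ᵥ q)) → a / b ∈ F₀ := by
        intro p q hp hpp hp0 hq hqq hq0 hpq a b hb hpr hqr
        by_cases hsp : q ∈ Submodule.span F (Set.range ![p])
        · rw [Matrix.range_cons, Matrix.range_empty, Set.union_empty] at hsp
          obtain ⟨d, rfl⟩ := Submodule.mem_span_singleton.1 hsp
          obtain ⟨i, hi⟩ := Function.ne_iff.1 hp0
          simp only [Pi.zero_apply] at hi
          have hd : d ∈ F₀ := by
            have := mul_mem (hq i) (inv_mem (hp i))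
            simpa [hi] using this
          have hd0 : d ≠ 0 := fun e => hq0 (by rw [e, zero_smul])
          have hgp : (g : Matrix ι ι F) *ᵥ p ≠ 0 := fun e => hp0 (gl_mulVec_injective g (by simpa using e))
          obtain ⟨j, hj⟩ := Function.ne_iff.1 hgp
          simp only [Pi.zero_apply] at hj
          have e1 := div_mem (hpr j) (mul_mem (inv_mem hd) (hqr j))
          simp only [mulVec_smul, Pi.smul_apply, smul_eq_mul] at e1
          convert e1 using 1
          field_simp
        · obtain ⟨z, hz, hzz, hzo, hqz⟩ := S.sep ![p] (fun i => by fin_cases i; exact hp) hq hsp (by omega)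
          obtain ⟨z', hz', hz'z', hz'o, hpz'⟩ := S.sep ![q] (fun i => by fin_cases i; exact hq) hp
            (fun hm => hsp (by
              rw [Matrix.range_cons, Matrix.range_empty, Set.union_empty] at hm ⊢
              obtain ⟨d, hd⟩ := Submodule.mem_span_singleton.1 hm
              have hd0 : d ≠ 0 := fun e => hp0 (by rw [← hd, e, zero_smul])
              exact Submodule.mem_span_singleton.2 ⟨d⁻¹, by rw [← hd, inv_smul_smul₀ hd0]⟩)) (by omega)
          have e1 : f p z = 0 := hzo 0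
          have e2 : f q z' = 0 := hz'o 0
          set r := z + z'
          obtain ⟨t, ht, htq⟩ := S.exists_adj (fun i => add_mem (hz i) (hz' i) : Rat F₀ r)
          have hpr1 : f p r = 1 := by rw [hf.add_right, e1, hpz', zero_add]
          have hqr1 : f q r = 1 := by rw [hf.add_right, e2, hqz, add_zero]
          set r' := r + (-t) • p
          have hr' : Rat F₀ r' := fun i => add_mem (add_mem (hz i) (hz' i)) (mul_mem (neg_mem ht) (hp i))
          have hr'r' : f r' r' = 0 := by
            simp only [r', hf.add_left, hf.add_right, hf.smul_left, hf.smul_right, hpp, hpr1, hf.swap_eq_one hpr1, map_neg]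
            linear_combination -htq
          have e3 : f p r' = 1 := by rw [hf.add_right, hf.smul_right, hpr1, hpp, mul_zero, add_zero]
          have e4 : f q r' = 1 := by rw [hf.add_right, hf.smul_right, hqr1, hf.swap_eq_zero hpq, mul_zero, add_zero]
          obtain ⟨lr, hlr, hrr⟩ := hall r' hr' hr'r' (fun e => by simp [e, hf.zero_right] at e3)
          have e5 := hprod p r' a lr hpr hrr hp hr' (by rw [e3]; exact one_ne_zero)
          have e6 := hprod q r' b lr hqr hrr hq hr' (by rw [e4]; exact one_ne_zero)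
          have := div_mem e5 e6
          rwa [mul_div_mul_right _ _ (fun h => hlr (σ.injective (by rw [h, map_zero])))] at this
      obtain ⟨v', hv', hv'v', hv'n, hv'o⟩ := S.orth ![v, x] (fun i => by fin_cases i; exacts [hv, hx])
        ![x] (fun i => by fin_cases i; exact hx) (by have := S.card; omega)
      have hv'0 : v' ≠ 0 := fun e => hv'n (e ▸ Submodule.zero_mem _)
      obtain ⟨l', hl', hv'r⟩ := hall v' hv' hv'v' hv'0
      have e1 := hstep x v' hx hxx hx0 hv' hv'v' hv'0 (hf.swap_eq_zero (hv'o 1)) lx l' hl' hxr hv'r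
      have e2 := hstep v' v hv' hv'v' hv'0 hv hvv hv0 (hv'o 0) l' l hl hv'r hjr
      have h3 : lx / l ∈ F₀ := by
        have := mul_mem e1 e2
        rwa [div_mul_div_cancel₀ hl'] at this
      intro i
      have h4 := mul_mem h3 (hjr i)
      rw [Pi.smul_apply, smul_eq_mul, ← mul_assoc, div_mul_cancel₀ _ hl] at h4
      exact h4
    refine ⟨lx, hlx, fun i j => ?_⟩
    obtain ⟨a, b, ha, hb, haa, hbb, -, -, he⟩ := S.decompose (w := 0) (fun _ => zero_mem _) (hf.zero_left 0)
      (Rat.single j (one_mem _) : Rat F₀ (Pi.single j (1 : F))) (hf.zero_right _)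
    have := add_mem (hscal a ha haa i) (hscal b hb hbb i)
    rw [← Pi.add_apply, ← smul_add, ← mulVec_add, ← he] at this
    simpa [mulVec_single_one] using this
  -- a rational totally isotropic plane
  obtain ⟨e₁, he₁, he₁₁, he₁n, -⟩ := S.orth (k := 0) ![] (fun i => i.elim0) (l := 0) ![] (fun i => i.elim0)
    (by have := S.card; omega)
  have he₁0 : e₁ ≠ 0 := fun e => he₁n (e ▸ Submodule.zero_mem _)
  obtain ⟨e₂, he₂, he₂₂, he₂n, he₂o⟩ := S.orth ![e₁] (fun i => by fin_cases i; exact he₁)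
    ![e₁] (fun i => by fin_cases i; exact he₁) (by have := S.card; omega)
  have h21 : f e₂ e₁ = 0 := he₂o 0
  have he₂0 : e₂ ≠ 0 := fun e => he₂n (e ▸ Submodule.zero_mem _)
  obtain ⟨x, hx, hxx, hxo, hx2⟩ := S.sep ![e₁] (fun i => by fin_cases i; exact he₁) he₂ he₂n (by omega)
  have hx1 : f e₁ x = 0 := hxo 0
  have hE : ∀ u ∈ Submodule.span F {e₁, e₂}, ∀ v ∈ Submodule.span F {e₁, e₂}, f u v = 0 := by
    intro u hu v hv
    obtain ⟨a, b, rfl⟩ := Submodule.mem_span_pair.1 hu
    obtain ⟨c, d, rfl⟩ := Submodule.mem_span_pair.1 hv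
    simp [hf.add_left, hf.add_right, hf.smul_left, hf.smul_right, he₁₁, he₂₂, h21, hf.swap_eq_zero h21]
  have hratT : ∀ e, Rat F₀ e → f e e = 0 → ∀ i j,
      ((tv e ((1 : F) • formVec f e) : GL ι F) : Matrix ι ι F) i j ∈ F₀ := by
    intro e he hee i j
    rw [coe_tv (hf.ut_dot hee 1), Matrix.add_apply, vecMulVec_apply, one_smul]
    refine add_mem ?_ (mul_mem (he i) (S.rat_formVec he j))
    by_cases hij : i = j
    · subst hij; rw [Matrix.one_apply_eq]; exact one_mem _
    · rw [Matrix.one_apply_ne hij]; exact zero_mem _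
  refine rigid_of_orth (f := f) (Sing := fun w => f w w = 0) (fun φ hφ => ?_) hf.hl hf.add_right
    (fun v hv => (hf.nondegenerate v hv).1) (fun _ _ => hf.swap_eq_zero) S.rat S.iso he₁ he₂ hE
    (fun g hg x w hxE hx hx0 hw hw0 hws h => hL g hg x w hx hx0 (hE x hxE x hxE) hw hw0 hws h)
    (S.hT e₁ he₁ he₁₁ 1 (one_mem _) (map_one σ)) ?_ (hratT _ he₁ he₁₁) ?_
    (S.hT e₂ he₂ he₂₂ 1 (one_mem _) (map_one σ)) (hratT _ he₂ he₂₂) ?_ ?_ hg
  · obtain ⟨z, hz, hzz, hzn, hzo⟩ := S.orth φ hφ (l := 0) ![] (fun i => i.elim0) (.inr ⟨by have := S.card; omega, fun i => i.elim0⟩)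
    exact ⟨z, hz, fun e => hzn (e ▸ Submodule.zero_mem _), hzz, hzo⟩
  · intro v
    rw [hf.ut_mulVec he₁₁, add_sub_cancel_left]
    exact Submodule.smul_mem _ _ (Submodule.mem_span_singleton_self e₁)
  · intro h
    obtain ⟨⟨v, hv⟩, -⟩ := hf.nondegenerate e₁ he₁0
    have := congrArg (fun z : GL ι F => (z : Matrix ι ι F) *ᵥ v) h
    simp only [hf.ut_mulVec he₁₁, one_mul, Units.val_one, one_mulVec, add_eq_left, smul_eq_zero] at this
    exact this.elim hv he₁0
  · intro v
    rw [hf.ut_mulVec he₂₂, add_sub_cancel_left]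
    exact Submodule.smul_mem _ _ (Submodule.subset_span (by simp))
  · intro k h
    have hfix : ∀ k : ℕ, ((tv e₁ ((1 : F) • formVec f e₁) ^ k : GL ι F) : Matrix ι ι F) *ᵥ x = x := by
      intro k
      induction k with
      | zero => simp
      | succ k ih =>
        rw [pow_succ', gl_mul_mulVec, ih, hf.ut_mulVec he₁₁, hf.swap_eq_zero hx1, mul_zero, zero_smul, add_zero]
    have := congrArg (fun z : GL ι F => (z : Matrix ι ι F) *ᵥ x) h
    simp only [hfix, hf.ut_mulVec he₂₂, one_mul] at this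
    rw [hf.swap_eq_one hx2] at this
    simpa [he₂0] using this

/-- Spreading a pure element along rational directions. -/
theorem pure_all [Finite F] {w u : ι → F} {k : F} (hw : Rat F₀ w) (hu : Rat F₀ u) (hww : f w w = 0)
    (huu : f u u = 0) (hwu : f u w = 0) (hw0 : w ≠ 0) (hun : u ∉ Submodule.span F (Set.range ![w]))
    (h : Pure f M (k • u) w) :
    ∀ w' u', Rat F₀ w' → Rat F₀ u' → f w' w' = 0 → f u' u' = 0 → f u' w' = 0 → w' ≠ 0 →
      u' ∉ Submodule.span F (Set.range ![w']) → Pure f M (k • u') w' := by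
  have hf := S.form
  have hswap : ∀ {a b : ι → F} {k : F}, Pure f M (k • a) b → Pure f M (σ k • b) a :=
    fun ⟨g, hg, hgS⟩ => ⟨g, hg, IsS.symm hf hgS⟩
  -- move the first vector
  have hA : ∀ (k : F) w u, Rat F₀ w → Rat F₀ u → f w w = 0 → f u u = 0 → f u w = 0 →
      u ∉ Submodule.span F (Set.range ![w]) → Pure f M (k • u) w → ∀ u', Rat F₀ u' → f u' u' = 0 →
      f u' w = 0 → u' ∉ Submodule.span F (Set.range ![w]) → Pure f M (k • u') w := by
    intro k w u hw hu hww huu hwu hun h u' hu' hu'u' hwu' hu'n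
    have hone : ∀ y t, Rat F₀ y → Rat F₀ t → f y y = 0 → f t t = 0 → f y w = 0 → f t w = 0 → f y t = 0 →
        y ∉ Submodule.span F (Set.range ![w, t]) → Pure f M (k • y) w → Pure f M (k • t) w := by
      intro y t hy ht hyy htt hyw htw hyt hyn hp
      obtain ⟨y', hy', hy'y', hy'o, hyy'⟩ := S.sep_iso ![w, t] (fun i => by fin_cases i; exacts [hw, ht]) hy hyn
        hyy (fun i => by fin_cases i; exacts [hyw, hyt])
      obtain ⟨g, hg, hgS⟩ := hp
      have e0 : f w y' = 0 := hy'o 0
      have e1 : f t y' = 0 := hy'o 1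
      have h2 := S.step hww hyy hyw (hf.swap_eq_zero e0) htw hyy' hyt hg hgS
        (S.pure_rat hy' ht hy'y' htt (hf.swap_eq_zero e1) (one_mem F₀))
      rwa [map_one, mul_one] at h2
    by_cases huu'0 : f u u' = 0 ∧ u ∉ Submodule.span F (Set.range ![w, u'])
    · exact hone u u' hu hu' huu hu'u' hwu hwu' huu'0.1 huu'0.2 h
    obtain ⟨z, hz, hzz, hzw, hzu, hzu', hzn, hznw⟩ : ∃ z, Rat F₀ z ∧ f z z = 0 ∧ f z w = 0 ∧
        f z u = 0 ∧ f z u' = 0 ∧ z ∉ Submodule.span F (Set.range ![w, u]) ∧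
        z ∉ Submodule.span F (Set.range ![w, u']) := by
      by_cases hmem : u ∈ Submodule.span F (Set.range ![w, u'])
      · obtain ⟨z, hz, hzz, hzn, hzo⟩ := S.orth ![w, u] (fun i => by fin_cases i; exacts [hw, hu])
          ![w, u] (fun i => by fin_cases i; exacts [hw, hu]) (.inr ⟨by have := S.card; omega,
            fun i => Submodule.subset_span ⟨i, rfl⟩⟩)
        rw [Matrix.range_cons_cons_empty] at hmem
        obtain ⟨a, b, hab⟩ := Submodule.mem_span_pair.1 hmem
        have hb : b ≠ 0 := fun hb => hun (by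
          rw [Matrix.range_cons, Matrix.range_empty, Set.union_empty]
          exact Submodule.mem_span_singleton.2 ⟨a, by rw [← hab, hb, zero_smul, add_zero]⟩)
        have e : u' = b⁻¹ • (u - a • w) := by rw [← hab, add_sub_cancel_left, inv_smul_smul₀ hb]
        have hu'm : u' ∈ Submodule.span F (Set.range ![w, u]) := by
          rw [e]
          exact Submodule.smul_mem _ _ (Submodule.sub_mem _ (Submodule.subset_span ⟨1, rfl⟩)
            (Submodule.smul_mem _ _ (Submodule.subset_span ⟨0, rfl⟩)))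
        have ew : f w z = 0 := hf.swap_eq_zero (hzo 0)
        have eu : f u z = 0 := hf.swap_eq_zero (hzo 1)
        refine ⟨z, hz, hzz, hzo 0, hzo 1, hf.swap_eq_zero ?_, hzn, fun hm => hzn
          (Submodule.span_le.2 (Set.range_subset_iff.2 fun i => ?_) hm)⟩
        · rw [e, hf.smul_left, sub_eq_add_neg, hf.add_left, hf.neg_left, hf.smul_left, ew, eu]
          ring
        · fin_cases i
          exacts [Submodule.subset_span ⟨0, rfl⟩, hu'm]
      · have hne : f u u' ≠ 0 := fun e => huu'0 ⟨e, hmem⟩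
        obtain ⟨z, hz, hzz, hzn, hzo⟩ := S.orth ![w, u, u']
          (fun i => by fin_cases i; exacts [hw, hu, hu']) ![w] (fun i => by fin_cases i; exact hw)
          (.inr ⟨by have := S.card; omega, fun i => Submodule.subset_span ⟨0, by fin_cases i; rfl⟩⟩)
        have hout : ∀ t s : ι → F, f z s = 0 → f t s ≠ 0 → f w s = 0 →
            z ∉ Submodule.span F (Set.range ![w, t]) := by
          intro t s h1 h2 h3 hm
          rw [Matrix.range_cons_cons_empty] at hm
          obtain ⟨a, b, hab⟩ := Submodule.mem_span_pair.1 hm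
          rw [← hab, hf.add_left, hf.smul_left, hf.smul_left, h3, mul_zero, zero_add, mul_eq_zero] at h1
          apply hzn
          rw [Matrix.range_cons, Matrix.range_empty, Set.union_empty]
          exact Submodule.mem_span_singleton.2
            ⟨a, by rw [← hab, h1.resolve_right h2, zero_smul, add_zero]⟩
        exact ⟨z, hz, hzz, hzo 0, hzo 1, hzo 2, hout u u' (hzo 2) hne (hf.swap_eq_zero hwu'),
          hout u' u (hzo 1) (fun e => hne (hf.swap_eq_zero e)) (hf.swap_eq_zero hwu)⟩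
    have hun' : u ∉ Submodule.span F (Set.range ![w, z]) := by
      intro hmem
      rw [Matrix.range_cons_cons_empty] at hmem
      obtain ⟨a, b, hab⟩ := Submodule.mem_span_pair.1 hmem
      by_cases hb : b = 0
      · rw [hb, zero_smul, add_zero] at hab
        exact hun (by rw [Matrix.range_cons, Matrix.range_empty, Set.union_empty]
                      exact Submodule.mem_span_singleton.2 ⟨a, hab⟩)
      · apply hzn
        have : z = b⁻¹ • (u - a • w) := by rw [← hab, add_sub_cancel_left, inv_smul_smul₀ hb]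
        rw [this]
        exact Submodule.smul_mem _ _ (Submodule.sub_mem _ (Submodule.subset_span ⟨1, rfl⟩)
          (Submodule.smul_mem _ _ (Submodule.subset_span ⟨0, rfl⟩)))
    exact hone z u' hz hu' hzz hu'u' hzw hwu' hzu' hznw
      (hone u z hu hz huu hzz hwu hzw (hf.swap_eq_zero hzu) hun' h)
  intro w' u' hw' hu' hw'w' hu'u' hwu' hw'0 hu'n
  obtain ⟨z, hz, hzz, hzn, hzo⟩ := S.orth ![w, w'] (fun i => by fin_cases i; exacts [hw, hw'])
    ![w, w'] (fun i => by fin_cases i; exacts [hw, hw']) (.inr ⟨by have := S.card; omega,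
      fun i => Submodule.subset_span ⟨i, rfl⟩⟩)
  have hsym : ∀ v, v ≠ 0 → z ∉ Submodule.span F (Set.range ![v]) → v ∉ Submodule.span F (Set.range ![z]) := by
    intro v hv0 h hmem
    rw [Matrix.range_cons, Matrix.range_empty, Set.union_empty] at h hmem
    obtain ⟨a, ha⟩ := Submodule.mem_span_singleton.1 hmem
    have ha0 : a ≠ 0 := fun e => hv0 (by rw [← ha, e, zero_smul])
    exact h (Submodule.mem_span_singleton.2 ⟨a⁻¹, by rw [← ha, inv_smul_smul₀ ha0]⟩)
  have hzw : z ∉ Submodule.span F (Set.range ![w]) := fun hmem => hzn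
    (Submodule.span_mono (by simp [Matrix.range_cons, Set.insert_subset_iff]) hmem)
  have hzw' : z ∉ Submodule.span F (Set.range ![w']) := fun hmem => hzn
    (Submodule.span_mono (by simp [Matrix.range_cons, Set.insert_subset_iff]) hmem)
  have h1 := hswap (hA k w u hw hu hww huu hwu hun h z hz hzz (hzo 0) hzw)
  have h2 := hswap (hA (σ k) z w hz hw hzz hww (hf.swap_eq_zero (hzo 0 : f z w = 0)) (hsym w hw0 hzw) h1 w'
    hw' hw'w' (hf.swap_eq_zero (hzo 1 : f z w' = 0)) (hsym w' hw'0 hzw'))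
  rw [hf.invol] at h2
  exact hA k w' z hw' hz hw'w' hzz (hzo 1) hzw' h2 u' hu' hu'u' hwu' hu'n

theorem isS_zero {w : ι → F} (hw : f w w = 0) {b : F} {g : GL ι F} (hg : IsS f 0 w b g) :
    g = tv w (b • formVec f w) := by
  refine gl_ext fun u => ?_
  rw [S.form.ut_mulVec hw, hg u, S.form.zero_right, zero_smul, smul_zero, add_zero, add_zero]

/-- A good pure element forces all transvections. -/
theorem all_of_good [Finite F] {r : ℕ} (hr : r.Prime) (hcard : Nat.card F = Nat.card F₀ ^ r)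
    (hG : GoodS F₀ f M) :
    ∀ v, f v v = 0 → ∀ c, σ c = c → tv v (c • formVec f v) ∈ M := by
  classical
  have hf := S.form
  obtain ⟨w, u, k, hw, hu, hww, huu, hwu, hw0, hun, hk, hp⟩ := hG
  have hconj : ∀ {l : F}, (∀ w' u', Rat F₀ w' → Rat F₀ u' → f w' w' = 0 → f u' u' = 0 → f u' w' = 0 →
        w' ≠ 0 → u' ∉ Submodule.span F (Set.range ![w']) → Pure f M (l • u') w') →
      ∀ w' u', Rat F₀ w' → Rat F₀ u' → f w' w' = 0 → f u' u' = 0 → f u' w' = 0 →
        w' ≠ 0 → u' ∉ Submodule.span F (Set.range ![w']) → Pure f M (σ l • u') w' := by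
    intro l hl w' u' hw' hu' hww' huu' h h0 hn
    have hu0 : u' ≠ 0 := fun e => hn (e ▸ Submodule.zero_mem _)
    obtain ⟨g, hg, hgS⟩ := hl u' w' hu' hw' huu' hww' (hf.swap_eq_zero h) hu0 (fun hm => hn (by
      rw [Matrix.range_cons, Matrix.range_empty, Set.union_empty] at hm ⊢
      obtain ⟨a, ha⟩ := Submodule.mem_span_singleton.1 hm
      have ha0 : a ≠ 0 := fun e => h0 (by rw [← ha, e, zero_smul])
      exact Submodule.mem_span_singleton.2 ⟨a⁻¹, by rw [← ha, inv_smul_smul₀ ha0]⟩))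
    exact ⟨g, hg, IsS.symm hf hgS⟩
  let D : Subalgebra F₀ F :=
    { carrier := {l | ∀ w' u', Rat F₀ w' → Rat F₀ u' → f w' w' = 0 → f u' u' = 0 → f u' w' = 0 →
        w' ≠ 0 → u' ∉ Submodule.span F (Set.range ![w']) → Pure f M (l • u') w'}
      add_mem' := fun {a b} ha hb w' u' hw' hu' hww' huu' h h0 hn => by
        obtain ⟨g, hg, hgS⟩ := ha w' u' hw' hu' hww' huu' h h0 hn
        obtain ⟨g', hg', hgS'⟩ := hb w' u' hw' hu' hww' huu' h h0 hn
        refine ⟨g * g', M.mul_mem hg hg', ?_⟩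
        have := IsS.mul hf hgS hgS' hww' (by rw [hf.smul_left, h, mul_zero]) (by rw [hf.smul_left, h, mul_zero])
        rwa [hf.smul_left, hf.smul_right, huu', mul_zero, mul_zero, add_zero, add_zero,
          ← add_smul] at this
      mul_mem' := fun {a b} ha hb w' u' hw' hu' hww' huu' h h0 hn => by
        obtain ⟨y, hy, hyy, hyn, hyo⟩ := S.orth ![w', u'] (fun i => by fin_cases i; exacts [hw', hu'])
          ![w', u'] (fun i => by fin_cases i; exacts [hw', hu']) (.inr ⟨by have := S.card; omega,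
            fun i => Submodule.subset_span ⟨i, rfl⟩⟩)
        obtain ⟨y', hy', hy'y', hy'o, hyy'⟩ := S.sep_iso ![w', u'] (fun i => by fin_cases i; exacts [hw', hu'])
          hy hyn hyy hyo
        have hyw : y ∉ Submodule.span F (Set.range ![w']) := fun hm => hyn
          (Submodule.span_mono (by simp [Matrix.range_cons, Set.insert_subset_iff]) hm)
        obtain ⟨g, hg, hgS⟩ := ha w' y hw' hy hww' hyy (hyo 0) h0 hyw
        have hu'0 : u' ≠ 0 := fun e => hn (e ▸ Submodule.zero_mem _)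
        have hy'u : y' ∉ Submodule.span F (Set.range ![u']) := fun hm => by
          rw [Matrix.range_cons, Matrix.range_empty, Set.union_empty] at hm
          obtain ⟨d, rfl⟩ := Submodule.mem_span_singleton.1 hm
          rw [hf.smul_right, show f y u' = 0 from hyo 1, mul_zero] at hyy'
          exact zero_ne_one hyy'
        have := S.step hww' hyy (hyo 0) (hf.swap_eq_zero (hy'o 0 : f w' y' = 0)) h hyy' (hyo 1) hg hgS
          (hconj hb u' y' hu' hy' huu' hy'y' (hf.swap_eq_zero (hy'o 1 : f u' y' = 0)) hu'0 hy'u)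
        rwa [hf.invol] at this
      algebraMap_mem' := fun l w' u' hw' hu' hww' huu' h _ _ => S.pure_rat hu' hw' huu' hww' h l.2 }
  have hrank : Module.finrank F₀ F = r := by
    have h1 := Module.natCard_eq_pow_finrank (K := F₀) (V := F)
    rw [hcard] at h1
    exact (Nat.pow_right_injective (Finite.one_lt_card (α := F₀)) h1).symm
  haveI := Subalgebra.isSimpleOrder_of_finrank_prime F₀ F (hrank ▸ hr)
  have hD : D = ⊤ := by
    refine (eq_bot_or_eq_top D).resolve_left fun hb => hk ?_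
    have hkD : k ∈ D := S.pure_all hw hu hww huu hwu hw0 hun hp
    rw [hb, Algebra.mem_bot] at hkD
    obtain ⟨x, rfl⟩ := hkD
    exact x.2
  have hDall : ∀ (l : F), l ∈ D := fun l => hD ▸ Algebra.mem_top
  -- rational centres, norm parameters
  have hnorm : ∀ v, Rat F₀ v → f v v = 0 → v ≠ 0 → ∀ a : F, tv v ((a * σ a) • formVec f v) ∈ M := by
    intro v hv hvv hv0 a
    obtain ⟨u, hu, huu, hun, huo⟩ := S.orth ![v] (fun i => by fin_cases i; exact hv)
      ![v] (fun i => by fin_cases i; exact hv) (by have := S.card; omega)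
    have huv : f u v = 0 := huo 0
    obtain ⟨z, hz, hzz, hzo, huz⟩ := S.sep ![v] (fun i => by fin_cases i; exact hv) hu hun (by omega)
    have hvz : f v z = 0 := hzo 0
    have hzn : z ∉ Submodule.span F (Set.range ![v]) := fun hm => by
      rw [Matrix.range_cons, Matrix.range_empty, Set.union_empty] at hm
      obtain ⟨d, rfl⟩ := Submodule.mem_span_singleton.1 hm
      rw [hf.smul_right, huv, mul_zero] at huz
      exact zero_ne_one huz
    obtain ⟨g, hg, hgS⟩ := hDall (-σ a) v u hv hu hvv huu huv hv0 hun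
    have hgz : (g : Matrix ι ι F) *ᵥ z = z + a • v := by
      rw [hgS]
      simp [hf.neg_right, hf.smul_right, hf.invol, hf.swap_eq_zero hvz, hf.swap_eq_one huz]
    have h1 : tv (z + a • v) ((1 : F) • formVec f (z + a • v)) ∈ M := by
      rw [← hgz, ← hf.ut_conj (S.iso g hg) hzz]
      exact M.mul_mem (M.mul_mem hg (S.hT z hz hzz 1 (one_mem _) (map_one σ))) (M.inv_mem hg)
    have h2 : IsS f (σ a • z) v (a * σ a)
        (tv (z + a • v) ((1 : F) • formVec f (z + a • v)) * (tv z ((1 : F) • formVec f z))⁻¹) := by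
      intro x
      rw [tv_pair hf hzz (by rw [hf.smul_left, hf.smul_right, hvv, mul_zero, mul_zero])
        (show f z (a • v) = 0 by rw [hf.smul_right, hf.swap_eq_zero hvz, mul_zero]) (map_one σ) x]
      simp only [hf.smul_right, one_smul, hf.invol]
      module
    obtain ⟨g', hg', hgS'⟩ := hDall (-σ a) v z hv hz hvv hzz (hf.swap_eq_zero hvz) hv0 hzn
    have h3 := IsS.mul hf hgS' h2 hvv (by rw [hf.smul_left, hf.swap_eq_zero hvz, mul_zero])
      (by rw [hf.smul_left, hf.swap_eq_zero hvz, mul_zero])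
    rw [hf.smul_left, hf.smul_right, hzz, mul_zero, mul_zero, add_zero, zero_add, neg_smul,
      neg_add_cancel] at h3
    rw [← S.isS_zero hvv h3]
    exact M.mul_mem hg' (M.mul_mem h1 (M.inv_mem (S.hT z hz hzz 1 (one_mem _) (map_one σ))))
  -- rational centres, fixed parameters
  have hrat0 : ∀ v, Rat F₀ v → f v v = 0 → ∀ c, σ c = c → tv v (c • formVec f v) ∈ M := by
    intro v hv hvv c hc
    rcases eq_or_ne v 0 with rfl | hv0
    · rw [tv_zero_left]; exact M.one_mem
    by_cases h2 : (2 : F) = 0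
    · have hchar : ringChar F = 2 := ringChar.eq_iff.2 ((CharP.charP_iff_prime_eq_zero Nat.prime_two).2 h2)
      obtain ⟨d, rfl⟩ := FiniteField.isSquare_of_char_two hchar c
      have hd : σ d = d := by
        have h3 : (σ d - d) ^ 2 = 0 := by
          rw [map_mul] at hc
          linear_combination hc + (d * d - σ d * d) * h2
        exact sub_eq_zero.1 ((pow_eq_zero_iff (by norm_num)).1 h3)
      have := hnorm v hv hvv hv0 d
      rwa [hd] at this
    · have hadd : ∀ x y : F, tv v ((x + y) • formVec f v) = tv v (x • formVec f v) * tv v (y • formVec f v) := by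
        intro x y
        refine gl_ext fun z => ?_
        rw [gl_mul_mulVec, hf.ut_mulVec hvv, hf.ut_mulVec hvv, hf.ut_mulVec hvv, hf.add_left, hf.smul_left, hvv]
        module
      have h4 : σ (c / 2) = c / 2 := by rw [map_div₀, hc, map_ofNat]
      have h5 := M.mul_mem (hnorm v hv hvv hv0 (c / 2 + 1))
        (M.inv_mem (M.mul_mem (hnorm v hv hvv hv0 (c / 2)) (hnorm v hv hvv hv0 1)))
      rw [← hadd, tv_inv (hf.ut_dot hvv _), ← neg_smul, ← hadd] at h5
      convert h5 using 3
      rw [map_add, h4, map_one]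
      field_simp
      ring
  have hstep : ∀ v, (∀ c, σ c = c → tv v (c • formVec f v) ∈ M) → f v v = 0 → ∀ g ∈ M,
      ∀ c, σ c = c → tv ((g : Matrix ι ι F) *ᵥ v) (c • formVec f ((g : Matrix ι ι F) *ᵥ v)) ∈ M := by
    intro v hv hvv g hg c hc
    rw [← hf.ut_conj (S.iso g hg) hvv]
    exact M.mul_mem (M.mul_mem hg (hv c hc)) (M.inv_mem hg)
  -- elements at a rational centre in every orthogonal direction
  have hQ : ∀ w, Rat F₀ w → f w w = 0 → w ≠ 0 → ∀ x, f x w = 0 → ∃ b, ∃ g ∈ M, IsS f x w b g := by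
    intro w hw hww hw0
    let P : (ι → F) → Prop := fun y => f y w = 0 ∧ ∀ t : F, ∃ b, ∃ g ∈ M, IsS f (t • y) w b g
    have hadd : ∀ a c, P a → P c → P (a + c) := by
      rintro a c ⟨ha0, ha⟩ ⟨hc0, hc⟩
      refine ⟨by rw [hf.add_left, ha0, hc0, add_zero], fun t => ?_⟩
      obtain ⟨b, g, hg, hgS⟩ := ha t
      obtain ⟨b', g', hg', hgS'⟩ := hc t
      rw [smul_add]
      exact ⟨_, _, M.mul_mem hg hg', IsS.mul hf hgS hgS' hww (by rw [hf.smul_left, ha0, mul_zero])
        (by rw [hf.smul_left, hc0, mul_zero])⟩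
    have hiso : ∀ y, Rat F₀ y → f y y = 0 → f y w = 0 → P y := by
      intro y hy hyy hyw
      refine ⟨hyw, fun t => ?_⟩
      by_cases hyn : y ∈ Submodule.span F (Set.range ![w])
      · rw [Matrix.range_cons, Matrix.range_empty, Set.union_empty] at hyn
        obtain ⟨d, rfl⟩ := Submodule.mem_span_singleton.1 hyn
        refine ⟨-(t * d + σ (t * d)), 1, M.one_mem, fun x => ?_⟩
        simp only [Units.val_one, one_mulVec, hf.smul_right, map_mul]
        module
      · exact ⟨0, hDall t w y hw hy hww hyy hyw hw0 hyn⟩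
    obtain ⟨i, hi⟩ := Function.ne_iff.1 (formVec_ne_zero hf.hl hf.nondegenerate hw0)
    simp only [Pi.zero_apply] at hi
    intro x hx
    have hgen := fun j => S.ker_mem hw hww (P := P) hadd hiso i j
    have hall : ∀ s : Finset ι, f (∑ j ∈ s, (x j / formVec f w i) •
          (formVec f w i • Pi.single j 1 - formVec f w j • Pi.single i 1)) w = 0 ∧
        ∃ b, ∃ g ∈ M, IsS f (∑ j ∈ s, (x j / formVec f w i) •
          (formVec f w i • Pi.single j 1 - formVec f w j • Pi.single i 1)) w b g := by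
      intro s
      induction s using Finset.induction_on with
      | empty =>
        rw [Finset.sum_empty]
        exact ⟨hf.zero_left w, 0, 1, M.one_mem, fun z => by simp [hf.zero_right]⟩
      | insert j s hj ih =>
        rw [Finset.sum_insert hj]
        obtain ⟨h0, b, g, hg, hgS⟩ := ih
        obtain ⟨b', g', hg', hgS'⟩ := (hgen j).2 (x j / formVec f w i)
        have h1 : f ((x j / formVec f w i) •
            (formVec f w i • Pi.single j 1 - formVec f w j • Pi.single i 1)) w = 0 := by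
          rw [hf.smul_left, (hgen j).1, mul_zero]
        exact ⟨by rw [hf.add_left, h1, h0, add_zero], _, _, M.mul_mem hg' hg, IsS.mul hf hgS' hgS hww h1 h0⟩
    have hxe : x = ∑ j, (x j / formVec f w i) •
        (formVec f w i • Pi.single j 1 - formVec f w j • Pi.single i 1) := by
      funext l
      simp only [Finset.sum_apply, Pi.smul_apply, Pi.sub_apply, smul_eq_mul, mul_sub, Finset.sum_sub_distrib]
      have hs : ∑ j, x j * formVec f w j = 0 := by
        rw [← hx, ← hf.fv_dot]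
        exact Finset.sum_congr rfl fun j _ => mul_comm _ _
      rw [Finset.sum_eq_single l (fun j _ hj => by simp [hj.symm]) (by simp)]
      rw [show ∑ j, x j / formVec f w i * (formVec f w j * (Pi.single i 1 : ι → F) l) =
        (∑ j, x j * formVec f w j) * ((Pi.single i 1 : ι → F) l / formVec f w i) by
          rw [Finset.sum_mul]; exact Finset.sum_congr rfl fun j _ => by ring]
      rw [hs, zero_mul, sub_zero, Pi.single_eq_same]
      field_simp
    have := (hall Finset.univ).2
    rwa [← hxe] at this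
  intro v hvv c hc
  rcases eq_or_ne v 0 with rfl | hv0
  · rw [tv_zero_left]; exact M.one_mem
  -- a rational isotropic vector not orthogonal to `v`
  obtain ⟨w, hw, hww, hvw⟩ : ∃ w, Rat F₀ w ∧ f w w = 0 ∧ f v w ≠ 0 := by
    by_contra h
    push Not at h
    refine (hf.nondegenerate v hv0).2.elim fun x hx => hx ?_
    have hb : ∀ j, f v (Pi.single j 1) = 0 := fun j => by
      obtain ⟨a, b, ha, hb, haa, hbb, -, -, he⟩ := S.decompose (w := 0) (fun _ => zero_mem _) (hf.zero_left 0)
        (Rat.single j (one_mem _) : Rat F₀ (Pi.single j (1 : F))) (hf.zero_right _)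
      rw [he, hf.add_right, h a ha haa, h b hb hbb, add_zero]
    have hzero : formVec f v = 0 := funext fun j => hf.swap_eq_zero (hb j)
    exact hf.swap_eq_zero (by rw [← hf.fv_dot, hzero, zero_dotProduct])
  have hw0 : w ≠ 0 := fun e => hvw (by rw [e, hf.zero_right])
  obtain ⟨z, hz, hzz, -, hwz⟩ := S.sep (k := 0) ![] (fun i => i.elim0) hw (by simpa using hw0) (by omega)
  have hzw := hf.swap_eq_one hwz
  set d := -(f v w)⁻¹
  set v' := d • v
  have hd : d ≠ 0 := neg_ne_zero.2 (inv_ne_zero hvw)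
  have hv'w : f v' w = -1 := by rw [hf.smul_left]; simp [d, hvw]
  have hv'v' : f v' v' = 0 := by rw [hf.smul_left, hf.smul_right, hvv, mul_zero, mul_zero]
  obtain ⟨b, g, hg, hgS⟩ := hQ w hw hww hw0 (z + -v') (by rw [hf.add_left, hf.neg_left, hzw, hv'w]; ring)
  set s := f z (z + -v') - b
  have hgz : (g : Matrix ι ι F) *ᵥ z = v' + s • w := by
    rw [hgS, hzw]
    simp only [s]
    module
  have hs : σ s = s := by
    have h1 := S.iso g hg z z
    rw [hgz, hzz] at h1
    simp only [hf.add_left, hf.add_right, hf.smul_left, hf.smul_right, hww, hv'v', hv'w,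
      hf.skew w v', map_neg, map_one] at h1
    linear_combination -h1
  have hz' : ∀ c, σ c = c → tv v' (c • formVec f v') ∈ M := by
    have h2 := hstep _ (hstep z (hrat0 z hz hzz) hzz g hg) (by rw [S.iso g hg, hzz]) _
      (hrat0 w hw hww s hs)
    have e : ((tv w (s • formVec f w) : GL ι F) : Matrix ι ι F) *ᵥ ((g : Matrix ι ι F) *ᵥ z) = v' := by
      rw [hgz, hf.ut_mulVec hww, hf.add_left, hv'w, hf.smul_left, hww]
      module
    rw [e] at h2
    exact h2
  have hdσ : σ d ≠ 0 := fun h => hd (σ.injective (by rw [h, map_zero]))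
  have h3 := hz' (c / (d * σ d)) (by rw [map_div₀, map_mul, hf.invol, hc, mul_comm])
  convert h3 using 1
  refine gl_ext fun x => ?_
  rw [hf.ut_mulVec hvv, hf.ut_mulVec hv'v', hf.smul_right, smul_smul]
  congr 2
  field_simp

end Setting

end Cfsg.Agent.Lib.SubfieldMax.SkewHerm
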