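import Cfsg.Agent.Lib.SubfieldMax.OrthBasic
import Cfsg.Agent.Lib.SubfieldMax.Form

/-!
Rigidity for groups of isometries of a quadratic form containing the rational Siegel elements: without a
root element on a rational line with irrational parameter every element is rational up to a scalar.
-/

set_option autoImplicit false

namespace Cfsg.Agent.Lib.SubfieldMax.Orth

open Matrix Cfsg.Agent.Lib.Subspaces.Transvection Cfsg.Agent.Lib.Subspaces.FormVec
  Cfsg.Agent.Lib.Subspaces.OrthForm Cfsg.Agent.Lib.Subspaces.OrthLines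
  Cfsg.Agent.Lib.SubfieldMax.Linear Cfsg.Agent.Lib.SubfieldMax.RatLin
  Cfsg.Agent.Lib.SubfieldMax.OrthBasic
open Cfsg.Agent.Lib.SubfieldMax.Form (RatUpTo)

variable {ι : Type} [Fintype ι] [DecidableEq ι] {F : Type*} [Field F] {F₀ : Subfield F}
  {Q : (ι → F) → F} {M : Subgroup (GL ι F)}

local notation "B" => QuadraticMap.polar Q
local notation "Vec" => ι → F
local notation "Mat" => Matrix ι ι F

/-- The group of isometries contains the rational Siegel elements. -/
structure Setting (F₀ : Subfield F) (Q : (ι → F) → F) (M : Subgroup (GL ι F)) : Prop where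
  base : Base F₀ Q
  iso : ∀ g ∈ M, ∀ x, Q ((g : Matrix ι ι F) *ᵥ x) = Q x
  hT : ∀ u w, Rat F₀ u → Rat F₀ w → Q u = 0 → QuadraticMap.polar Q w u = 0 → sieg Q u w ∈ M

/-- A root element on a rational line has an irrational parameter. -/
def Good (F₀ : Subfield F) (Q : (ι → F) → F) (M : Subgroup (GL ι F)) : Prop :=
  ∃ (a b : ι → F) (k : F), Rat F₀ a ∧ Rat F₀ b ∧ Q a = 0 ∧ Q b = 0 ∧ QuadraticMap.polar Q a b = 0 ∧
    a ≠ 0 ∧ b ∉ Submodule.span F {a} ∧ k ∉ F₀ ∧ sieg Q (k • a) b ∈ M

/-- A root element of the subgroup. -/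
structure Root (Q : (ι → F) → F) (M : Subgroup (GL ι F)) (a b : ι → F) : Prop where
  sing_a : Q a = 0
  sing_b : Q b = 0
  orth : QuadraticMap.polar Q a b = 0
  ne : a ≠ 0
  indep : b ∉ Submodule.span F {a}
  mem : sieg Q a b ∈ M

/-- The span of the two vectors is spanned by rational vectors. -/
def RatLine (F₀ : Subfield F) (a b : ι → F) : Prop :=
  ∃ p q : ι → F, Rat F₀ p ∧ Rat F₀ q ∧ Submodule.span F {a, b} = Submodule.span F {p, q}

omit [Fintype ι] [DecidableEq ι] in
theorem finrank_pair {a b : Vec} (ha : a ≠ 0) (hb : b ∉ Submodule.span F {a}) :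
    Module.finrank F (Submodule.span F {a, b}) = 2 := by
  have hli : LinearIndependent F ![a, b] := by
    rw [LinearIndependent.pair_iff' ha]
    exact fun d hd => hb (Submodule.mem_span_singleton.2 ⟨d, hd⟩)
  have := finrank_span_eq_card hli
  rwa [Matrix.range_cons_cons_empty, Fintype.card_fin] at this

omit [Fintype ι] [DecidableEq ι] in
theorem finrank_pair_le (a b : Vec) : Module.finrank F (Submodule.span F {a, b}) ≤ 2 := by
  have := finrank_range_le_card (R := F) ![a, b]
  rwa [Set.finrank, Matrix.range_cons_cons_empty, Fintype.card_fin] at this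

omit [Fintype ι] [DecidableEq ι] in
theorem range3 (a b c : Vec) : Set.range ![a, b, c] = {a, b, c} := by
  rw [Matrix.range_cons, Matrix.range_cons_cons_empty, Set.singleton_union]

theorem perp2 (hQ : Cfsg.Geo.IsNondegenerateQuadraticForm Q) {v a b x : Vec} (h1 : B v a = 0)
    (h2 : B v b = 0) (hx : x ∈ Submodule.span F {a, b}) : B v x = 0 := by
  obtain ⟨s, t, rfl⟩ := Submodule.mem_span_pair.1 hx
  rw [hQ.polar_bilinear.add_right, hQ.polar_bilinear.smul_right, hQ.polar_bilinear.smul_right, h1, h2,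
    mul_zero, mul_zero, add_zero]

/-- A vector common to two different rational lines is rational up to a scalar. -/
theorem exists_rat_inter [Finite F] {p q u u' w : Vec} (hp : Rat F₀ p) (hq : Rat F₀ q) (hu : Rat F₀ u)
    (hu' : Rat F₀ u') (hw0 : w ≠ 0) (hw1 : w ∈ Submodule.span F {p, q})
    (hw2 : w ∈ Submodule.span F {u, u'})
    (hne : ¬ Submodule.span F {p, q} ≤ Submodule.span F {u, u'}) : ∃ c : F, c ≠ 0 ∧ Rat F₀ (c • w) := by
  wlog hpn : p ∉ Submodule.span F {u, u'} generalizing p q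
  · refine this hq hp (by rwa [Set.pair_comm]) (by rwa [Set.pair_comm]) fun hqm => hne ?_
    rw [Submodule.span_le, Set.insert_subset_iff, Set.singleton_subset_iff]
    exact ⟨not_not.1 hpn, hqm⟩
  obtain ⟨χ, hχ, hχu, hχp⟩ := exists_sep ![u, u'] (fun i => by fin_cases i; exacts [hu, hu']) hp
    (by rwa [Matrix.range_cons_cons_empty])
  have h1 : χ ⬝ᵥ w = 0 := by
    obtain ⟨s, t, rfl⟩ := Submodule.mem_span_pair.1 hw2
    rw [dotProduct_add, dotProduct_smul, dotProduct_smul, show χ ⬝ᵥ u = 0 from hχu 0,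
      show χ ⬝ᵥ u' = 0 from hχu 1, smul_zero, smul_zero, add_zero]
  obtain ⟨α, β, rfl⟩ := Submodule.mem_span_pair.1 hw1
  rw [dotProduct_add, dotProduct_smul, dotProduct_smul, hχp, smul_eq_mul, smul_eq_mul, mul_one] at h1
  have hβ : β ≠ 0 := by
    rintro rfl
    rw [zero_mul, add_zero] at h1
    rw [h1, zero_smul, zero_smul, add_zero] at hw0
    exact hw0 rfl
  refine ⟨β⁻¹, inv_ne_zero hβ, fun i => ?_⟩
  have h2 : (β⁻¹ • (α • p + β • q)) i = q i - (χ ⬝ᵥ q) * p i := by
    simp only [Pi.smul_apply, Pi.add_apply, smul_eq_mul]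
    field_simp
    linear_combination p i * h1
  rw [h2]
  exact sub_mem (hq i) (mul_mem (Rat.dot hχ hq) (hp i))

theorem rat_mulVec {g : GL ι F} {c : F} (hg : ∀ i j, c * (g : Mat) i j ∈ F₀) {v : Vec} (hv : Rat F₀ v) :
    Rat F₀ (c • ((g : Mat) *ᵥ v)) := fun i => by
  rw [Pi.smul_apply, smul_eq_mul, mulVec, dotProduct, Finset.mul_sum]
  exact sum_mem fun j _ => by rw [← mul_assoc]; exact mul_mem (hg i j) (hv j)

theorem Root.change (hQ : Cfsg.Geo.IsNondegenerateQuadraticForm Q) {a b z : Vec} (h : Root Q M a b)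
    (hz : z ∈ Submodule.span F {a, b}) (hz0 : z ≠ 0) :
    ∃ a', Root Q M z a' ∧ Submodule.span F {z, a'} = Submodule.span F {a, b} := by
  have hb := hQ.polar_bilinear
  have haa : B a a = 0 := by rw [B_self hQ, h.sing_a, mul_zero]
  have hbb : B b b = 0 := by rw [B_self hQ, h.sing_b, mul_zero]
  obtain ⟨α, β, rfl⟩ := Submodule.mem_span_pair.1 hz
  have hle : ∀ a', a' ∈ Submodule.span F {a, b} → a' ∉ Submodule.span F {α • a + β • b} →
      Submodule.span F {α • a + β • b, a'} = Submodule.span F {a, b} := by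
    intro a' ha' hn
    refine Submodule.eq_of_le_of_finrank_le ?_ (by rw [finrank_pair hz0 hn]; exact finrank_pair_le a b)
    rw [Submodule.span_le, Set.insert_subset_iff, Set.singleton_subset_iff]
    exact ⟨hz, ha'⟩
  have hzQ : Q (α • a + β • b) = 0 := by
    rw [Q_add (Q := Q), hQ.smul, hQ.smul, hb.smul_left, hb.smul_right, h.sing_a, h.sing_b, h.orth]
    ring
  by_cases hα : α = 0
  · subst hα
    have hβ : β ≠ 0 := fun e => hz0 (by rw [e, zero_smul, zero_smul, add_zero])
    have hn : β⁻¹ • ((-1 : F) • a) ∉ Submodule.span F {(0 : F) • a + β • b} := by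
      intro hm
      rw [Submodule.smul_mem_iff _ (inv_ne_zero hβ), Submodule.smul_mem_iff _ (neg_ne_zero.2 one_ne_zero),
        zero_smul, zero_add, Submodule.mem_span_singleton] at hm
      obtain ⟨d, hd⟩ := hm
      have hd0 : d * β ≠ 0 := fun e => h.ne (by rw [← hd, smul_smul, e, zero_smul])
      exact h.indep (Submodule.mem_span_singleton.2 ⟨(d * β)⁻¹, by
        rw [← hd, smul_smul, smul_smul, mul_assoc, inv_mul_cancel₀ hd0, one_smul]⟩)
    have ha' : β⁻¹ • ((-1 : F) • a) ∈ Submodule.span F {a, b} :=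
      Submodule.smul_mem _ _ (Submodule.smul_mem _ _ (Submodule.subset_span (by simp)))
    refine ⟨_, ⟨hzQ, ?_, ?_, hz0, hn, ?_⟩, hle _ ha' hn⟩
    · rw [hQ.smul, hQ.smul, h.sing_a, mul_zero, mul_zero]
    · simp only [hb.add_left, hb.smul_left, hb.smul_right, B_comm b a, h.orth, haa]
      ring
    · have e1 : sieg Q a b = sieg Q ((0 : F) • a + β • b) (β⁻¹ • ((-1 : F) • a)) := by
        rw [zero_smul, zero_add, ← lsieg_smul hQ (by rw [hQ.smul, h.sing_b, mul_zero])
          (by rw [hQ.smul, h.sing_a, mul_zero])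
          (by rw [hb.smul_left, hb.smul_right, B_comm, h.orth, mul_zero, mul_zero]), inv_smul_smul₀ hβ,
          ← lsieg_swap hQ h.sing_a h.sing_b h.orth, one_smul]
      rw [← e1]
      exact h.mem
  · have hn : α⁻¹ • b ∉ Submodule.span F {α • a + β • b} := by
      intro hm
      rw [Submodule.smul_mem_iff _ (inv_ne_zero hα), Submodule.mem_span_singleton] at hm
      obtain ⟨d, hd⟩ := hm
      by_cases hd0 : d = 0
      · rw [hd0, zero_smul] at hd
        exact h.indep (hd ▸ Submodule.zero_mem _)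
      · have h1 : (1 - d * β) • b = (d * α) • a := by linear_combination (norm := module) (-1 : F) • hd
        by_cases hc : 1 - d * β = 0
        · rw [hc, zero_smul] at h1
          exact (smul_eq_zero.1 h1.symm).elim (mul_ne_zero hd0 hα) h.ne
        · exact h.indep (Submodule.mem_span_singleton.2 ⟨(1 - d * β)⁻¹ * (d * α), by
            rw [← smul_smul, ← h1, smul_smul, inv_mul_cancel₀ hc, one_smul]⟩)
    have ha' : α⁻¹ • b ∈ Submodule.span F {a, b} :=
      Submodule.smul_mem _ _ (Submodule.subset_span (by simp))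
    refine ⟨_, ⟨hzQ, ?_, ?_, hz0, hn, ?_⟩, hle _ ha' hn⟩
    · rw [hQ.smul, h.sing_b, mul_zero]
    · simp [hb.add_left, hb.smul_left, hb.smul_right, h.orth, hbb]
    · have h0 : B (α • a + β • b) b = 0 := by simp [hb.add_left, hb.smul_left, h.orth, hbb]
      have e1 : sieg Q (α⁻¹ • (α • a + β • b)) b = sieg Q a b := by
        refine gl_ext fun x => ?_
        rw [lsieg_mulVec hQ (by rw [hQ.smul, hzQ, mul_zero]) h.sing_b (by rw [hb.smul_left, h0, mul_zero]),
          lsieg_mulVec hQ h.sing_a h.sing_b h.orth, smul_add, smul_smul, smul_smul, inv_mul_cancel₀ hα,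
          one_smul, hb.add_right, hb.smul_right]
        module
      rw [← lsieg_smul hQ hzQ h.sing_b h0, e1]
      exact h.mem

namespace Setting

variable (S : Setting F₀ Q M)
include S

/-- A rational centre has rational axes modulo the centre. -/
theorem rat_mod (hG : ¬ Good F₀ Q M) [Finite F] {u w : Vec} (hu : Rat F₀ u) (hu0 : Q u = 0) (hun : u ≠ 0)
    (hwu : B w u = 0) (hm : sieg Q u w ∈ M) : ∃ t : F, Rat F₀ (w - t • u) := by
  have hQ := S.base.quad
  have hb := hQ.polar_bilinear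
  have huu : B u u = 0 := by rw [B_self hQ, hu0, mul_zero]
  have hkey : ∀ a, Rat F₀ a → Q a = 0 → B a u = 0 → B w a ∈ F₀ := by
    intro a ha ha0 hau
    by_cases han : a ∈ Submodule.span F {u}
    · obtain ⟨d, rfl⟩ := Submodule.mem_span_singleton.1 han
      rw [hb.smul_right, hwu, mul_zero]
      exact zero_mem _
    have haa : B a a = 0 := by rw [B_self hQ, ha0, mul_zero]
    obtain ⟨b, hbr, hb0, hbo, hbn⟩ := S.base.sing ![u, a] (fun i => by fin_cases i; exacts [hu, ha])
      ![u, a] (fun i => by fin_cases i; exacts [hu, ha]) (by norm_num)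
    have hbu : B b u = 0 := hbo 0
    have hba : B b a = 0 := hbo 1
    obtain ⟨c', hc', hc'0, hc'o, hc'b⟩ := S.base.sing_one ![u, a]
      (fun i => by fin_cases i; exacts [hu, ha]) hbr hbn (by norm_num)
    have hc'u : B c' u = 0 := hc'o 0
    have hc'a : B c' a = 0 := hc'o 1
    obtain ⟨d, hd, hd0, hdo, hdn⟩ := S.base.sing ![u, a, b, c']
      (fun i => by fin_cases i; exacts [hu, ha, hbr, hc']) ![u] (fun i => by fin_cases i; exact hu)
      (by norm_num)
    have hdu : B d u = 0 := hdo 0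
    have hda : B d a = 0 := hdo 1
    have hdb : B d b = 0 := hdo 2
    have hdc : B d c' = 0 := hdo 3
    have hdd : B d d = 0 := by rw [B_self hQ, hd0, mul_zero]
    have hab : B a b = 0 := by rw [B_comm]; exact hba
    -- first shift
    have h1 := S.hT a b ha hbr ha0 hba
    have hfix1 : (sieg Q a b : Mat) *ᵥ u = u := by
      rw [lsieg_mulVec hQ ha0 hb0 hab, B_comm u a, hau, B_comm u b, hbu]
      simp
    have s1 := sieg_shift_mem hQ h1 (S.iso _ h1) hu0 hwu hfix1 hm
    rw [lsieg_mulVec hQ ha0 hb0 hab, add_assoc, add_sub_cancel_left] at s1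
    -- second shift
    have h2 := S.hT c' d hc' hd hc'0 hdc
    have hc'd : B c' d = 0 := by rw [B_comm]; exact hdc
    have hfix2 : (sieg Q c' d : Mat) *ᵥ u = u := by
      rw [lsieg_mulVec hQ hc'0 hd0 hc'd, B_comm u c', hc'u, B_comm u d, hdu]
      simp
    have s2 := sieg_shift_mem hQ h2 (S.iso _ h2) hu0
      (by rw [hb.add_left, hb.smul_left, hb.smul_left, hbu, hau]; ring) hfix2 s1
    rw [lsieg_mulVec hQ hc'0 hd0 hc'd] at s2
    have e : B w a • b + (-B w b) • a + B (B w a • b + (-B w b) • a) c' • d +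
        (-B (B w a • b + (-B w b) • a) d) • c' - (B w a • b + (-B w b) • a) = B w a • d := by
      simp only [hb.add_left, hb.smul_left, B_comm b c', hc'b, B_comm a c', hc'a, B_comm b d, hdb,
        B_comm a d, hda]
      module
    rw [e, ← lsieg_smul hQ hu0 hd0 (by rw [B_comm]; exact hdu)] at s2
    by_contra hcon
    exact hG ⟨u, d, B w a, hu, hd, hu0, hd0, by rw [B_comm]; exact hdu, hun,
      by simpa [Matrix.range_cons] using hdn, hcon, s2⟩
  -- spread over the rational part of the orthogonal space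
  have hperp : ∀ z, Rat F₀ z → B z u = 0 → B w z ∈ F₀ := by
    intro z hz hzu
    by_cases hzn : z ∈ Submodule.span F {u}
    · obtain ⟨d, rfl⟩ := Submodule.mem_span_singleton.1 hzn
      rw [hb.smul_right, hwu, mul_zero]
      exact zero_mem _
    obtain ⟨s, hs, hs0, hso, hsz⟩ := S.base.sing_one ![u] (fun i => by fin_cases i; exact hu) hz
      (by simpa [Matrix.range_cons] using hzn) (by norm_num)
    have hsu : B s u = 0 := hso 0
    have hr : Rat F₀ (z + (-Q z) • s) := fun i =>
      add_mem (hz i) (mul_mem (neg_mem (S.base.rat z hz)) (hs i))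
    have h1 := hkey _ hr (by rw [Q_add_smul hQ, hs0, B_comm, hsz]; ring)
      (by rw [hb.add_left, hb.smul_left, hzu, hsu, mul_zero, add_zero])
    have h2 := hkey s hs hs0 hsu
    have h3 := add_mem h1 (mul_mem (S.base.rat z hz) h2)
    rwa [hb.add_right, hb.smul_right, neg_mul, neg_add_cancel_right] at h3
  obtain ⟨u', hu', -, -, hu'u⟩ := S.base.sing_one (k := 0) ![] (fun i => i.elim0) hu
    (by simpa using hun) (by norm_num)
  refine ⟨B w u', S.base.rat_of_ratB fun z hz => ?_⟩
  have hzu' : Rat F₀ (z + (-B z u) • u') := fun i =>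
    add_mem (hz i) (mul_mem (neg_mem (S.base.ratB hz hu)) (hu' i))
  have h1 := hperp _ hzu' (by rw [hb.add_left, hb.smul_left, hu'u]; ring)
  rw [hb.add_right, hb.smul_right, B_comm w z] at h1
  rw [sub_right hQ, hb.smul_right]
  convert h1 using 1
  ring

theorem mem_span_rat [Finite F] {u : Vec} (hu : Rat F₀ u) (hun : u ≠ 0) {v : Vec} (hv : B v u = 0) :
    v ∈ Submodule.span F {z : Vec | Rat F₀ z ∧ B z u = 0} := by
  have hb := S.base.quad.polar_bilinear
  obtain ⟨u', hu', -, -, hu'u⟩ := S.base.sing_one (k := 0) ![] (fun i => i.elim0) hu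
    (by simpa using hun) (by norm_num)
  have hsum : v = ∑ i, v i • ((Pi.single i 1 : Vec) + (-formVec B u i) • u') := by
    simp only [smul_add, Finset.sum_add_distrib, smul_smul, ← Finset.sum_smul]
    have h1 : ∑ i, v i • (Pi.single i 1 : Vec) = v := by
      conv_rhs => rw [← Finset.univ_sum_single v]
      exact Finset.sum_congr rfl fun i _ => by rw [← Pi.single_smul, smul_eq_mul, mul_one]
    have h2 : ∑ i, v i * -formVec B u i = 0 := by
      have := formVec_dot (bil S.base.quad) u v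
      rw [dotProduct, hv] at this
      rw [← neg_eq_zero, ← Finset.sum_neg_distrib, ← this]
      exact Finset.sum_congr rfl fun i _ => by ring
    rw [h1, h2, zero_smul, add_zero]
  rw [hsum]
  refine Submodule.sum_mem _ fun i _ => Submodule.smul_mem _ _ (Submodule.subset_span ⟨fun j => ?_, ?_⟩)
  · exact add_mem (Rat.single i (one_mem _) j) (mul_mem (neg_mem (S.base.rat_formVec hu i)) (hu' j))
  · rw [hb.add_left, hb.smul_left, hu'u, formVec]
    ring

theorem exists_rat_ne [Finite F] {u z : Vec} (hu : Rat F₀ u) (hun : u ≠ 0) (hz : z ∉ Submodule.span F {u}) :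
    ∃ v, Rat F₀ v ∧ B v u = 0 ∧ B v z ≠ 0 := by
  obtain ⟨t, ht, htz⟩ := dual S.base.quad hz
  by_contra hc
  push Not at hc
  have hle : Submodule.span F {v : Vec | Rat F₀ v ∧ B v u = 0} ≤
      LinearMap.ker (Matrix.mulVecLin (Matrix.of fun _ : Unit => formVec B z)) := by
    rw [Submodule.span_le]
    rintro v ⟨hv, hvu⟩
    rw [SetLike.mem_coe, LinearMap.mem_ker]
    funext i
    simpa [Matrix.mulVec, formVec_dot (bil S.base.quad)] using hc v hv hvu
  have h1 := congrFun (LinearMap.mem_ker.1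
    (hle (S.mem_span_rat hu hun (ht u (Submodule.mem_span_singleton_self u))))) ()
  simp [Matrix.mulVec, formVec_dot (bil S.base.quad), htz] at h1

/-- A root element fixing a rational singular vector: first step. -/
theorem fix_step (hG : ¬ Good F₀ Q M) [Finite F] {a b u : Vec} (h : Root Q M a b) (hu : Rat F₀ u)
    (hu0 : Q u = 0) (hun : u ≠ 0) (hau : B a u = 0) (hbu : B b u = 0) :
    RatLine F₀ a b ∨ u ∉ Submodule.span F {a, b} ∧ ∃ r₁ r₂, Rat F₀ r₁ ∧ Rat F₀ r₂ ∧
      B r₁ u = 0 ∧ B r₂ u = 0 ∧ a ∈ Submodule.span F {u, r₁, r₂} ∧ b ∈ Submodule.span F {u, r₁, r₂} := by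
  have hQ := S.base.quad
  have hb := hQ.polar_bilinear
  by_cases hmem : u ∈ Submodule.span F {a, b}
  · left
    obtain ⟨a', ha', hspan⟩ := h.change hQ hmem hun
    obtain ⟨t, ht⟩ := S.rat_mod hG hu hu0 hun (by rw [B_comm]; exact ha'.orth) ha'.mem
    refine ⟨u, a' - t • u, hu, ht, ?_⟩
    rw [← hspan]
    refine le_antisymm ?_ ?_ <;> rw [Submodule.span_le, Set.insert_subset_iff, Set.singleton_subset_iff]
    · refine ⟨Submodule.subset_span (by simp), ?_⟩
      have := Submodule.add_mem (Submodule.span F {u, a' - t • u})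
        (Submodule.subset_span (show a' - t • u ∈ ({u, a' - t • u} : Set Vec) by simp))
        (Submodule.smul_mem _ t (Submodule.subset_span (show u ∈ ({u, a' - t • u} : Set Vec) by simp)))
      rwa [sub_add_cancel] at this
    · exact ⟨Submodule.subset_span (by simp), Submodule.sub_mem _ (Submodule.subset_span (by simp))
        (Submodule.smul_mem _ t (Submodule.subset_span (by simp)))⟩
  right
  refine ⟨hmem, ?_⟩
  have hai : a ∉ Submodule.span F {u} := fun hm => by
    obtain ⟨d, hd⟩ := Submodule.mem_span_singleton.1 hm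
    have hd0 : d ≠ 0 := fun e => h.ne (by rw [← hd, e, zero_smul])
    exact hmem (Submodule.mem_span_pair.2 ⟨d⁻¹, 0, by rw [← hd, inv_smul_smul₀ hd0, zero_smul, add_zero]⟩)
  let dev : Vec → Vec := fun v => B v a • b + (-B v b) • a
  have hfix : (sieg Q a b : Mat) *ᵥ u = u := by
    rw [lsieg_mulVec hQ h.sing_a h.sing_b h.orth, B_comm u a, hau, B_comm u b, hbu]
    simp
  have hdev : ∀ v, Rat F₀ v → B v u = 0 → ∃ t : F, Rat F₀ (dev v - t • u) := by
    intro v hv hvu
    have hm := sieg_shift_mem hQ h.mem (S.iso _ h.mem) hu0 hvu hfix (S.hT u v hu hv hu0 hvu)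
    rw [lsieg_mulVec hQ h.sing_a h.sing_b h.orth, add_assoc, add_sub_cancel_left] at hm
    exact S.rat_mod hG hu hu0 hun (by rw [hb.add_left, hb.smul_left, hb.smul_left, hau, hbu]; ring) hm
  obtain ⟨v1, hv1, hv1u, hv1a⟩ := S.exists_rat_ne hu hun hai
  have hd1 : dev v1 ∉ Submodule.span F {u} := fun hm => by
    obtain ⟨d, hd⟩ := Submodule.mem_span_singleton.1 hm
    rcases eq_or_ne d 0 with rfl | hd0
    · rw [zero_smul] at hd
      exact h.indep (Submodule.mem_span_singleton.2 ⟨B v1 b / B v1 a, by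
        have h2 : B v1 a • b = B v1 b • a := by linear_combination (norm := module) (-1 : F) • hd
        rw [div_eq_inv_mul, ← smul_smul, ← h2, inv_smul_smul₀ hv1a]⟩)
    · exact hmem (Submodule.mem_span_pair.2 ⟨d⁻¹ * (-B v1 b), d⁻¹ * B v1 a, by
        rw [← inv_smul_smul₀ hd0 u, hd]; simp only [dev]; module⟩)
  obtain ⟨v2, hv2, hv2u, hv2d⟩ := S.exists_rat_ne hu hun hd1
  set D := B v2 (dev v1) with hD
  have hD' : D = B v1 a * B v2 b - B v1 b * B v2 a := by
    simp only [hD, dev, hb.add_right, hb.smul_right]; ring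
  obtain ⟨t1, hr1⟩ := hdev v1 hv1 hv1u
  obtain ⟨t2, hr2⟩ := hdev v2 hv2 hv2u
  have hdevu : ∀ v, B (dev v) u = 0 := fun v => by
    simp only [dev, hb.add_left, hb.smul_left, hau, hbu]; ring
  have huu : B u u = 0 := by rw [B_self hQ, hu0, mul_zero]
  set r₁ := dev v1 - t1 • u
  set r₂ := dev v2 - t2 • u
  have hm1 : dev v1 ∈ Submodule.span F {u, r₁, r₂} := by
    rw [show dev v1 = r₁ + t1 • u by simp [r₁]]
    exact Submodule.add_mem _ (Submodule.subset_span (by simp))
      (Submodule.smul_mem _ _ (Submodule.subset_span (by simp)))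
  have hm2 : dev v2 ∈ Submodule.span F {u, r₁, r₂} := by
    rw [show dev v2 = r₂ + t2 • u by simp [r₂]]
    exact Submodule.add_mem _ (Submodule.subset_span (by simp))
      (Submodule.smul_mem _ _ (Submodule.subset_span (by simp)))
  refine ⟨r₁, r₂, hr1, hr2, ?_, ?_, ?_, ?_⟩
  · rw [form_sub_left (bil hQ), hdevu, hb.smul_left, huu, mul_zero, sub_zero]
  · rw [form_sub_left (bil hQ), hdevu, hb.smul_left, huu, mul_zero, sub_zero]
  · have : a = (-D⁻¹) • (B v1 a • dev v2 - B v2 a • dev v1) := by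
      rw [show B v1 a • dev v2 - B v2 a • dev v1 = (-D) • a by rw [hD']; simp only [dev]; module,
        smul_smul, neg_mul_neg, inv_mul_cancel₀ hv2d, one_smul]
    rw [this]
    exact Submodule.smul_mem _ _ (Submodule.sub_mem _ (Submodule.smul_mem _ _ hm2)
      (Submodule.smul_mem _ _ hm1))
  · have : b = (-D⁻¹) • (B v1 b • dev v2 - B v2 b • dev v1) := by
      rw [show B v1 b • dev v2 - B v2 b • dev v1 = (-D) • b by rw [hD']; simp only [dev]; module,
        smul_smul, neg_mul_neg, inv_mul_cancel₀ hv2d, one_smul]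
    rw [this]
    exact Submodule.smul_mem _ _ (Submodule.sub_mem _ (Submodule.smul_mem _ _ hm2)
      (Submodule.smul_mem _ _ hm1))

/-- A root element fixing a rational singular vector has a rational line. -/
theorem line_of_fix (hG : ¬ Good F₀ Q M) [Finite F] {a b u : Vec} (h : Root Q M a b) (hu : Rat F₀ u)
    (hu0 : Q u = 0) (hun : u ≠ 0) (hau : B a u = 0) (hbu : B b u = 0) : RatLine F₀ a b := by
  have hQ := S.base.quad
  rcases S.fix_step hG h hu hu0 hun hau hbu with h' | ⟨hmem, r₁, r₂, hr₁, hr₂, -, -, ha, hb⟩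
  · exact h'
  obtain ⟨w, hw, hw0, hwo, hwn⟩ := S.base.sing ![u, r₁, r₂]
    (fun i => by fin_cases i; exacts [hu, hr₁, hr₂])
    ![u, r₁, r₂] (fun i => by fin_cases i; exacts [hu, hr₁, hr₂]) (by norm_num)
  have hwperp : ∀ x ∈ Submodule.span F {u, r₁, r₂}, B x w = 0 := fun x hx => by
    rw [B_comm]
    exact perp_span hQ hwo x (by rwa [range3])
  rw [range3] at hwn
  rcases S.fix_step hG h hw hw0 (fun e => hwn (e ▸ Submodule.zero_mem _)) (hwperp a ha) (hwperp b hb) with
    h' | ⟨-, s₁, s₂, hs₁, hs₂, -, -, ha', hb'⟩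
  · exact h'
  have hle3 : ∀ x y z : Vec, Module.finrank F (Submodule.span F {x, y, z}) ≤ 3 := fun x y z => by
    have := finrank_range_le_card (R := F) ![x, y, z]
    rwa [Set.finrank, range3, Fintype.card_fin] at this
  have hge : Submodule.span F {a, b} < Submodule.span F {u, a, b} :=
    lt_of_le_of_ne (Submodule.span_mono (Set.subset_insert _ _))
      fun e => hmem (by rw [e]; exact Submodule.subset_span (by simp))
  have hge' := Submodule.finrank_lt_finrank_of_lt hge
  rw [finrank_pair h.ne h.indep] at hge'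
  have hun' : u ∉ Submodule.span F {w, s₁, s₂} := by
    intro hu'
    apply hwn
    have h1 : Submodule.span F {u, a, b} = Submodule.span F {u, r₁, r₂} := by
      refine Submodule.eq_of_le_of_finrank_le ?_ (by have := hle3 u r₁ r₂; omega)
      rw [Submodule.span_le, Set.insert_subset_iff, Set.insert_subset_iff, Set.singleton_subset_iff]
      exact ⟨Submodule.subset_span (by simp), ha, hb⟩
    have h2 : Submodule.span F {u, a, b} = Submodule.span F {w, s₁, s₂} := by
      refine Submodule.eq_of_le_of_finrank_le ?_ (by have := hle3 w s₁ s₂; omega)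
      rw [Submodule.span_le, Set.insert_subset_iff, Set.insert_subset_iff, Set.singleton_subset_iff]
      exact ⟨hu', ha', hb'⟩
    rw [← h1, h2]
    exact Submodule.subset_span (by simp)
  rw [← range3] at hun'
  obtain ⟨χ, hχ, hχ0, hχu⟩ := exists_sep _ (fun i => by fin_cases i; exacts [hw, hs₁, hs₂]) hu hun'
  have hχker : ∀ x ∈ Submodule.span F {w, s₁, s₂}, χ ⬝ᵥ x = 0 := fun x hx => by
    rw [← range3, Submodule.mem_span_range_iff_exists_fun] at hx
    obtain ⟨c, rfl⟩ := hx
    rw [dotProduct_sum]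
    exact Finset.sum_eq_zero fun i _ => by rw [dotProduct_smul, hχ0 i, smul_zero]
  set p := r₁ - (χ ⬝ᵥ r₁) • u
  set q := r₂ - (χ ⬝ᵥ r₂) • u
  have hin : ∀ x ∈ Submodule.span F {u, r₁, r₂}, x ∈ Submodule.span F {w, s₁, s₂} →
      x ∈ Submodule.span F {p, q} := by
    intro x hx hx'
    obtain ⟨α, y, hy, rfl⟩ := Submodule.mem_span_insert.1 hx
    obtain ⟨β, γ, rfl⟩ := Submodule.mem_span_pair.1 hy
    have h0 := hχker _ hx'
    rw [dotProduct_add, dotProduct_add, dotProduct_smul, dotProduct_smul, dotProduct_smul, hχu,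
      smul_eq_mul, smul_eq_mul, smul_eq_mul, mul_one] at h0
    refine Submodule.mem_span_pair.2 ⟨β, γ, ?_⟩
    rw [show α = -(β * (χ ⬝ᵥ r₁) + γ * (χ ⬝ᵥ r₂)) by linear_combination h0]
    simp only [p, q]
    module
  refine ⟨p, q, hr₁.sub (hu.smul (Rat.dot hχ hr₁)), hr₂.sub (hu.smul (Rat.dot hχ hr₂)),
    Submodule.eq_of_le_of_finrank_le ?_ (by rw [finrank_pair h.ne h.indep]; exact finrank_pair_le p q)⟩
  rw [Submodule.span_le, Set.insert_subset_iff, Set.singleton_subset_iff]
  exact ⟨hin a ha ha', hin b hb hb'⟩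

/-- The main step: a point of the line orthogonal to a rational totally singular pair. -/
theorem line_aux (hG : ¬ Good F₀ Q M) [Finite F] {z a u u' : Vec} (h : Root Q M z a) (hu : Rat F₀ u)
    (hu' : Rat F₀ u') (hu0 : Q u = 0) (hu'0 : Q u' = 0) (hun : u ≠ 0) (hu'n : u' ∉ Submodule.span F {u})
    (huu : B u' u = 0) (huz : B u z = 0) (hu'z : B u' z = 0) (hz : z ∉ Submodule.span F {u, u'}) {w : Vec}
    (hw : Rat F₀ w) (hw0 : Q w = 0) (hwn : w ≠ 0) (hwz : B w z = 0) (hwu : B w u = 0) (hwu' : B w u' = 0) :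
    RatLine F₀ z a := by
  have hQ := S.base.quad
  have hb := hQ.polar_bilinear
  have hu'ne : u' ≠ 0 := fun e => hu'n (e ▸ Submodule.zero_mem _)
  set l := B u a with hl
  set l' := B u' a with hl'
  by_cases h1 : l = 0
  · exact S.line_of_fix hG h hu hu0 hun (by rw [B_comm]; exact huz) (by rw [B_comm]; exact h1)
  by_cases h2 : l' = 0
  · exact S.line_of_fix hG h hu' hu'0 hu'ne (by rw [B_comm]; exact hu'z) (by rw [B_comm]; exact h2)
  have huu' : B u u' = 0 := by rw [B_comm]; exact huu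
  have hBuu : B u u = 0 := by rw [B_self hQ, hu0, mul_zero]
  have hBu'u' : B u' u' = 0 := by rw [B_self hQ, hu'0, mul_zero]
  set v : Vec := l' • u + (-l) • u' with hv
  have hvQ : Q v = 0 := by
    rw [hv, Q_add_smul hQ, hQ.smul, hb.smul_left, huu', hu0, hu'0]; ring
  have hvz : B v z = 0 := by rw [hv, hb.add_left, hb.smul_left, hb.smul_left, huz, hu'z]; ring
  have hvu : B v u = 0 := by rw [hv, hb.add_left, hb.smul_left, hb.smul_left, hBuu, huu]; ring
  have hvu' : B v u' = 0 := by rw [hv, hb.add_left, hb.smul_left, hb.smul_left, hBu'u', huu']; ring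
  have hzv : B z v = 0 := by rw [B_comm]; exact hvz
  have hconj : sieg Q z a * sieg Q u u' * (sieg Q z a)⁻¹ * (sieg Q u u')⁻¹ = sieg Q z v := by
    rw [conj_sieg hQ (S.iso _ h.mem) hu0 huu, mul_inv_eq_iff_eq_mul]
    have hiu : (sieg Q z a : Mat) *ᵥ u = u + (-l) • z := by
      rw [lsieg_mulVec hQ h.sing_a h.sing_b h.orth, huz, zero_smul, add_zero, hl]
    have hiu' : (sieg Q z a : Mat) *ᵥ u' = u' + (-l') • z := by
      rw [lsieg_mulVec hQ h.sing_a h.sing_b h.orth, hu'z, zero_smul, add_zero, hl']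
    have hzz : B z z = 0 := by rw [B_self hQ, h.sing_a, mul_zero]
    rw [hiu, hiu']
    refine gl_ext fun x => ?_
    rw [gl_mul_mulVec, lsieg_mulVec hQ hu0 hu'0 huu', lsieg_mulVec hQ h.sing_a hvQ hzv,
      lsieg_mulVec hQ (by rw [Q_add_smul hQ, hu0, h.sing_a, huz]; ring)
        (by rw [Q_add_smul hQ, hu'0, h.sing_a, hu'z]; ring)
        (by simp only [hb.add_left, hb.add_right, hb.smul_left, hb.smul_right, huu', huz, B_comm z u', hu'z, hzz]
            ring)]
    simp only [hv, hb.add_left, hb.add_right, hb.smul_left, hb.smul_right, huz, hu'z, hBuu, hBu'u', huu, huu']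
    module
  have hR : Root Q M z v := by
    refine ⟨h.sing_a, hvQ, hzv, h.ne, ?_, ?_⟩
    · intro hm
      obtain ⟨d, hd⟩ := Submodule.mem_span_singleton.1 hm
      rcases eq_or_ne d 0 with rfl | hd0
      · rw [zero_smul] at hd
        refine hu'n (Submodule.mem_span_singleton.2 ⟨l' / l, ?_⟩)
        have : l • u' = l' • u := by linear_combination (norm := module) hd.trans hv
        rw [div_eq_inv_mul, ← smul_smul, ← this, inv_smul_smul₀ h1]
      · refine hz (Submodule.mem_span_pair.2 ⟨d⁻¹ * l', d⁻¹ * (-l), ?_⟩)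
        rw [← inv_smul_smul₀ hd0 z, hd, hv]
        module
    · rw [← hconj]
      have := S.hT u u' hu hu' hu0 huu
      exact M.mul_mem (M.mul_mem (M.mul_mem h.mem this) (M.inv_mem h.mem)) (M.inv_mem this)
  have hwv : B w v = 0 := by rw [hv, hb.add_right, hb.smul_right, hb.smul_right, hwu, hwu']; ring
  obtain ⟨p, q, hp, hq, hpq⟩ := S.line_of_fix hG hR hw hw0 hwn (by rw [B_comm]; exact hwz)
    (by rw [B_comm]; exact hwv)
  have hvne : v ≠ 0 := fun e => hR.indep (e ▸ Submodule.zero_mem _)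
  have hvmem : v ∈ Submodule.span F {u, u'} := Submodule.mem_span_pair.2 ⟨l', -l, rfl⟩
  obtain ⟨c, hc, hcv⟩ := exists_rat_inter hp hq hu hu' hvne
    (by rw [← hpq]; exact Submodule.subset_span (by simp)) hvmem
    (fun hle => hz (hle (by rw [← hpq]; exact Submodule.subset_span (by simp))))
  refine S.line_of_fix hG h hcv (by rw [hQ.smul, hvQ, mul_zero]) (smul_ne_zero hc hvne)
    (by rw [hb.smul_right, hzv, mul_zero]) ?_
  rw [hb.smul_right, hv, hb.add_right, hb.smul_right, hb.smul_right, B_comm a u, B_comm a u', ← hl, ← hl']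
  ring

/-- A point of the line in a small rational span. -/
theorem line_of_point (hG : ¬ Good F₀ Q M) [Finite F] {k : ℕ} (hk : k ≤ 6) {a b z : Vec} (h : Root Q M a b)
    (s : Fin k → Vec) (hs : ∀ i, Rat F₀ (s i)) (hz : z ∈ Submodule.span F {a, b}) (hz0 : z ≠ 0)
    (hzs : z ∈ Submodule.span F (Set.range s)) : RatLine F₀ a b := by
  have hQ := S.base.quad
  obtain ⟨a', ha', hspan⟩ := h.change hQ hz hz0
  suffices RatLine F₀ z a' by
    obtain ⟨p, q, hp, hq, hpq⟩ := this
    exact ⟨p, q, hp, hq, hspan.symm.trans hpq⟩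
  -- two vectors: choose the pair outside
  have two : ∀ t : Fin 2 → Vec, (∀ i, Rat F₀ (t i)) → z ∈ Submodule.span F (Set.range t) →
      RatLine F₀ z a' := by
    intro t ht hzt
    obtain ⟨u, hu, hu0, huo, hun⟩ := S.base.sing t ht t ht (by norm_num)
    obtain ⟨u', hu', hu'0, hu'o, hu'n⟩ := S.base.sing (Fin.cons u t)
      (fun i => Fin.cases hu (fun j => ht j) i) (Fin.cons u t) (fun i => Fin.cases hu (fun j => ht j) i)
      (by norm_num)
    obtain ⟨w, hw, hw0, hwo, hwn⟩ := S.base.sing (Fin.cons u' (Fin.cons u t))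
      (fun i => Fin.cases hu' (fun j => Fin.cases hu (fun l => ht l) j) i)
      (l := 0) ![] (fun i => i.elim0) (by norm_num)
    rw [Fin.range_cons] at hu'n
    refine S.line_aux hG ha' hu hu' hu0 hu'0 (fun e => hun (e ▸ Submodule.zero_mem _))
      (fun hm => hu'n (Submodule.span_mono (by simp) hm)) (by simpa using hu'o 0)
      (perp_span hQ huo z hzt) (perp_span hQ (fun i => by simpa using hu'o i.succ) z hzt) ?_ hw hw0
      (by simpa using hwn) (perp_span hQ (fun i => by simpa using hwo i.succ.succ) z hzt)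
      (by simpa using hwo (Fin.succ 0)) (by simpa using hwo 0)
    intro hm
    obtain ⟨α, β, hab⟩ := Submodule.mem_span_pair.1 hm
    by_cases hβ : β = 0
    · rw [hβ, zero_smul, add_zero] at hab
      have hα : α ≠ 0 := fun e => hz0 (by rw [← hab, e, zero_smul])
      exact hun ((Submodule.smul_mem_iff _ hα).1 (hab ▸ hzt))
    · refine hu'n ((Submodule.smul_mem_iff _ hβ).1 ?_)
      rw [show β • u' = z - α • u by rw [← hab, add_sub_cancel_left]]
      exact Submodule.sub_mem _ (Submodule.span_mono (by simp) hzt)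
        (Submodule.smul_mem _ _ (Submodule.subset_span (by simp)))
  obtain ⟨u, hu, hu0, huo, hun⟩ := S.base.sing s hs (l := 0) ![] (fun i => i.elim0) (by omega)
  obtain ⟨u', hu', hu'0, hu'o, hu'n⟩ := S.base.sing (Fin.cons u s)
    (fun i => Fin.cases hu (fun j => hs j) i) ![u] (fun i => by fin_cases i; exact hu) (by omega)
  by_cases hzu : z ∈ Submodule.span F {u, u'}
  · exact two ![u, u'] (fun i => by fin_cases i; exacts [hu, hu']) (by rwa [Matrix.range_cons_cons_empty])
  obtain ⟨w, hw, hw0, hwo, hwn⟩ := S.base.sing (Fin.cons u' (Fin.cons u s))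
    (fun i => Fin.cases hu' (fun j => Fin.cases hu (fun l => hs l) j) i)
    (l := 0) ![] (fun i => i.elim0) (by omega)
  exact S.line_aux hG ha' hu hu' hu0 hu'0 (by simpa using hun) (by simpa [Matrix.range_cons] using hu'n)
    (by simpa using hu'o 0) (perp_span hQ huo z hzs)
    (perp_span hQ (fun i => by simpa using hu'o i.succ) z hzs) hzu hw hw0
    (by simpa using hwn) (perp_span hQ (fun i => by simpa using hwo i.succ.succ) z hzs)
    (by simpa using hwo (Fin.succ 0)) (by simpa using hwo 0)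

theorem root_image {g : GL ι F} (hg : g ∈ M) {x y : Vec} (hx : Rat F₀ x) (hy : Rat F₀ y) (hx0 : Q x = 0)
    (hy0 : Q y = 0) (hxy : B x y = 0) (hxn : x ≠ 0) (hyn : y ∉ Submodule.span F {x}) :
    Root Q M ((g : Mat) *ᵥ x) ((g : Mat) *ᵥ y) := by
  refine ⟨by rw [S.iso g hg, hx0], by rw [S.iso g hg, hy0], by rw [B_map (S.iso g hg), hxy],
    fun e => hxn (gl_mulVec_injective g (by simpa using e)), fun hm => ?_, ?_⟩
  · obtain ⟨d, hd⟩ := Submodule.mem_span_singleton.1 hm
    refine hyn (Submodule.mem_span_singleton.2 ⟨d, gl_mulVec_injective g ?_⟩)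
    show (g : Mat) *ᵥ (d • x) = (g : Mat) *ᵥ y
    rw [mulVec_smul, hd]
  · rw [← conj_sieg S.base.quad (S.iso g hg) hx0 (by rw [B_comm]; exact hxy)]
    exact M.mul_mem (M.mul_mem hg (S.hT x y hx hy hx0 (by rw [B_comm]; exact hxy))) (M.inv_mem hg)

theorem point_of_line (hG : ¬ Good F₀ Q M) [Finite F] {g : GL ι F} (hg : g ∈ M) {x y : Vec}
    (hx : Rat F₀ x) (hy : Rat F₀ y) (hx0 : Q x = 0) (hy0 : Q y = 0) (hxy : B x y = 0) (hxn : x ≠ 0)
    (hyn : y ∉ Submodule.span F {x}) (hL : RatLine F₀ ((g : Mat) *ᵥ x) ((g : Mat) *ᵥ y)) :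
    ∃ c : F, c ≠ 0 ∧ Rat F₀ (c • ((g : Mat) *ᵥ x)) := by
  have hQ := S.base.quad
  obtain ⟨p, q, hp, hq, hpq⟩ := hL
  obtain ⟨y', hy', hy'0, hy'o, hy'n⟩ := S.base.sing ![x, y] (fun i => by fin_cases i; exacts [hx, hy])
    ![x, y] (fun i => by fin_cases i; exacts [hx, hy]) (by norm_num)
  have hy'x : B y' x = 0 := hy'o 0
  have hy'y : B y' y = 0 := hy'o 1
  have hy'n' : y' ∉ Submodule.span F {x} := fun hm => hy'n
    (Submodule.span_mono (by simp [Matrix.range_cons]) hm)
  have hR := S.root_image hg hx hy' hx0 hy'0 (by rw [B_comm]; exact hy'x) hxn hy'n'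
  have hR0 := S.root_image hg hx hy hx0 hy0 hxy hxn hyn
  obtain ⟨r, hr, hrmem, hrn⟩ : ∃ r, Rat F₀ r ∧ r ∈ Submodule.span F {(g : Mat) *ᵥ x, (g : Mat) *ᵥ y} ∧ r ≠ 0 := by
    by_cases hp0 : p = 0
    · by_cases hq0 : q = 0
      · exfalso
        have h2 := finrank_pair hR0.ne hR0.indep
        rw [hpq, hp0, hq0, Set.pair_eq_singleton, Submodule.span_zero_singleton, finrank_bot] at h2
        omega
      · exact ⟨q, hq, by rw [hpq]; exact Submodule.subset_span (by simp), hq0⟩
    · exact ⟨p, hp, by rw [hpq]; exact Submodule.subset_span (by simp), hp0⟩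
  have hrQ : Q r = 0 := by
    obtain ⟨α, β, rfl⟩ := Submodule.mem_span_pair.1 hrmem
    rw [Q_add_smul hQ, hQ.smul, hQ.polar_bilinear.smul_left, B_map (S.iso g hg), S.iso g hg, S.iso g hg,
      hx0, hy0, hxy]
    ring
  have hperp : ∀ v, B v x = 0 → B v y = 0 → B ((g : Mat) *ᵥ v) r = 0 := fun v h1 h2 =>
    perp2 hQ (by rw [B_map (S.iso g hg), h1]) (by rw [B_map (S.iso g hg), h2]) hrmem
  obtain ⟨p', q', hp', hq', hpq'⟩ := S.line_of_fix hG hR hr hrQ hrn
    (hperp x (by rw [B_self hQ, hx0, mul_zero]) hxy) (hperp y' hy'x hy'y)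
  refine exists_rat_inter hp hq hp' hq' hR.ne (by rw [← hpq]; exact Submodule.subset_span (by simp))
    (by rw [← hpq']; exact Submodule.subset_span (by simp)) fun hle => ?_
  rw [← hpq, ← hpq'] at hle
  obtain ⟨α, β, hab⟩ := Submodule.mem_span_pair.1
    (hle (Submodule.subset_span (show (g : Mat) *ᵥ y ∈ _ by simp)))
  have hyeq : α • x + β • y' = y := by
    refine gl_mulVec_injective g ?_
    show (g : Mat) *ᵥ (α • x + β • y') = (g : Mat) *ᵥ y
    rw [mulVec_add, mulVec_smul, mulVec_smul, hab]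
  by_cases hβ : β = 0
  · exact hyn (Submodule.mem_span_singleton.2 ⟨α, by rw [← hyeq, hβ, zero_smul, add_zero]⟩)
  · refine hy'n ?_
    rw [Matrix.range_cons_cons_empty]
    exact Submodule.mem_span_pair.2 ⟨-(β⁻¹ * α), β⁻¹, by
      rw [← hyeq, smul_add, smul_smul, smul_smul, inv_mul_cancel₀ hβ, one_smul]
      module⟩

/-- Rationality from one rational point image. -/
theorem rat_of_point (hG : ¬ Good F₀ Q M) [Finite F] {g : GL ι F} (hg : g ∈ M) {x : Vec} (hx : Rat F₀ x)
    (hx0 : Q x = 0) (hxn : x ≠ 0) {c : F} (hc : c ≠ 0) (hcx : Rat F₀ (c • ((g : Mat) *ᵥ x))) :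
    RatUpTo F₀ g := by
  have hQ := S.base.quad
  have hb := hQ.polar_bilinear
  have hne : ∀ {v : Vec}, v ≠ 0 → (g : Mat) *ᵥ v ≠ 0 := fun hv e =>
    hv (gl_mulVec_injective g (by simpa using e))
  have hprop : ∀ v y : Vec, Rat F₀ v → Q v = 0 → v ≠ 0 → Rat F₀ y → Q y = 0 → B v y = 0 →
      y ∉ Submodule.span F {v} → (∃ d : F, d ≠ 0 ∧ Rat F₀ (d • ((g : Mat) *ᵥ y))) →
      ∃ d : F, d ≠ 0 ∧ Rat F₀ (d • ((g : Mat) *ᵥ v)) := by
    intro v y hv hv0 hvn hy hy0 hvy hyn ⟨d, hd, hdy⟩
    have hyne : y ≠ 0 := fun e => hyn (e ▸ Submodule.zero_mem _)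
    refine S.point_of_line hG hg hv hy hv0 hy0 hvy hvn hyn ?_
    exact S.line_of_point hG (k := 1) (by norm_num) (S.root_image hg hv hy hv0 hy0 hvy hvn hyn)
      ![d • ((g : Mat) *ᵥ y)] (fun i => by fin_cases i; exact hdy)
      (Submodule.smul_mem _ d (Submodule.subset_span (by simp))) (smul_ne_zero hd (hne hyne))
      (Submodule.subset_span ⟨0, rfl⟩)
  have hall : ∀ v, Rat F₀ v → Q v = 0 → v ≠ 0 → ∃ d : F, d ≠ 0 ∧ Rat F₀ (d • ((g : Mat) *ᵥ v)) := by
    intro v hv hv0 hvn
    obtain ⟨y, hy, hy0, hyo, hyn⟩ := S.base.sing ![x, v] (fun i => by fin_cases i; exacts [hx, hv])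
      ![x, v] (fun i => by fin_cases i; exacts [hx, hv]) (by norm_num)
    rw [Matrix.range_cons_cons_empty] at hyn
    have hyne : y ≠ 0 := fun e => hyn (e ▸ Submodule.zero_mem _)
    have hxny : x ∉ Submodule.span F {y} := fun hm => by
      obtain ⟨d, hd⟩ := Submodule.mem_span_singleton.1 hm
      have hd0 : d ≠ 0 := fun e => hxn (by rw [← hd, e, zero_smul])
      exact hyn (Submodule.mem_span_pair.2 ⟨d⁻¹, 0, by
        rw [← hd, inv_smul_smul₀ hd0, zero_smul, add_zero]⟩)
    refine hprop v y hv hv0 hvn hy hy0 (by rw [B_comm]; exact hyo 1)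
      (fun hm => hyn (Submodule.span_mono (by simp) hm)) (hprop y x hy hy0 hyne hx hx0 (hyo 0) hxny ⟨c, hc, hcx⟩)
  have hprod : ∀ u v : Vec, ∀ α β : F, Rat F₀ (α • ((g : Mat) *ᵥ u)) → Rat F₀ (β • ((g : Mat) *ᵥ v)) →
      Rat F₀ u → Rat F₀ v → B u v ≠ 0 → α * β ∈ F₀ := by
    intro u v α β hu hv hur hvr huv
    have h1 := S.base.ratB hu hv
    rw [hb.smul_left, hb.smul_right, B_map (S.iso g hg), ← mul_assoc] at h1
    have := mul_mem h1 (inv_mem (S.base.ratB hur hvr))
    rwa [mul_assoc, mul_inv_cancel₀ huv, mul_one] at this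
  have hsing : ∀ v, Rat F₀ v → Q v = 0 → Rat F₀ (c • ((g : Mat) *ᵥ v)) := by
    intro v hv hv0
    rcases eq_or_ne v 0 with rfl | hvn
    · rw [mulVec_zero, smul_zero]; exact fun _ => zero_mem _
    obtain ⟨d, hd, hdv⟩ := hall v hv hv0 hvn
    obtain ⟨z, hz, hz0, hzx, hzv⟩ : ∃ z, Rat F₀ z ∧ Q z = 0 ∧ B z x ≠ 0 ∧ B z v ≠ 0 := by
      by_cases hvx : v ∈ Submodule.span F {x}
      · obtain ⟨e, rfl⟩ := Submodule.mem_span_singleton.1 hvx
        obtain ⟨z, hz, hz0, -, hzx⟩ := S.base.sing_one (k := 0) ![] (fun i => i.elim0) hx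
          (by simpa using hxn) (by norm_num)
        refine ⟨z, hz, hz0, by rw [hzx]; exact one_ne_zero, ?_⟩
        rw [hb.smul_right, hzx, mul_one]
        exact fun e0 => hvn (by rw [e0, zero_smul])
      · have hxm : x ∉ Submodule.span F (Set.range ![v - x]) := fun hm => by
          simp only [Matrix.range_cons, Matrix.range_empty, Set.union_empty, Submodule.mem_span_singleton] at hm
          obtain ⟨t, ht⟩ := hm
          have ht0 : t ≠ 0 := fun e => hxn (by rw [← ht, e, zero_smul])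
          refine hvx (Submodule.mem_span_singleton.2 ⟨t⁻¹ + 1, ?_⟩)
          have : v = t⁻¹ • x + x := by rw [← ht, inv_smul_smul₀ ht0]; rw [ht, sub_add_cancel]
          rw [add_smul, one_smul, ← this]
        obtain ⟨z, hz, hz0, hzo, hzx⟩ := S.base.sing_one ![v - x]
          (fun i => by fin_cases i; exact hv.sub hx) hx hxm (by norm_num)
        refine ⟨z, hz, hz0, by rw [hzx]; exact one_ne_zero, ?_⟩
        have h1 : B z (v - x) = 0 := hzo 0
        rw [sub_right hQ, hzx, sub_eq_zero] at h1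
        rw [h1]
        exact one_ne_zero
    have hzn : z ≠ 0 := fun e => hzx (by rw [e, form_zero_left (bil hQ)])
    obtain ⟨e, he, hez⟩ := hall z hz hz0 hzn
    have e1 := hprod z x e c hez hcx hz hx hzx
    have e2 := hprod z v e d hez hdv hz hv hzv
    have h3 : c / d ∈ F₀ := by
      have := div_mem e1 e2
      rwa [mul_div_mul_left _ _ he] at this
    have := hdv.smul h3
    rwa [smul_smul, div_mul_cancel₀ _ hd] at this
  refine ⟨c, hc, fun i j => ?_⟩
  set e : Vec := Pi.single j 1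
  have he : Rat F₀ e := Rat.single j (one_mem _)
  obtain ⟨s, hs, hs0, -, hse⟩ := S.base.sing_one (k := 0) ![] (fun i => i.elim0) he (by simp [e])
    (by norm_num)
  have h1 := hsing (e + (-Q e) • s) (fun l => add_mem (he l) (mul_mem (neg_mem (S.base.rat e he)) (hs l)))
    (show Q (e + (-Q e) • s) = 0 by rw [Q_add_smul hQ, hs0, B_comm, hse]; ring)
  have h2 := (hsing s hs hs0).smul (S.base.rat e he)
  have h3 := add_mem (h1 i) (h2 i)
  rw [mulVec_add, mulVec_smul] at h3
  simp only [Pi.smul_apply, Pi.add_apply, smul_eq_mul, e, mulVec_single_one] at h3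
  convert h3 using 1
  simp only [Matrix.col_apply]
  ring

/-- A point of the image of a rational line in a small rational span forces rationality. -/
theorem rat_of_small (hG : ¬ Good F₀ Q M) [Finite F] {g : GL ι F} (hg : g ∈ M) {x y : Vec} (hx : Rat F₀ x)
    (hy : Rat F₀ y) (hx0 : Q x = 0) (hy0 : Q y = 0) (hxy : B x y = 0) (hxn : x ≠ 0)
    (hyn : y ∉ Submodule.span F {x}) {k : ℕ} (hk : k ≤ 6) (s : Fin k → Vec) (hs : ∀ i, Rat F₀ (s i))
    {z : Vec} (hz : z ∈ Submodule.span F {(g : Mat) *ᵥ x, (g : Mat) *ᵥ y}) (hz0 : z ≠ 0)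
    (hzs : z ∈ Submodule.span F (Set.range s)) : RatUpTo F₀ g := by
  obtain ⟨c, hc, hcx⟩ := S.point_of_line hG hg hx hy hx0 hy0 hxy hxn hyn
    (S.line_of_point hG hk (S.root_image hg hx hy hx0 hy0 hxy hxn hyn) s hs hz hz0 hzs)
  exact S.rat_of_point hG hg hx hx0 hxn hc hcx

end Setting

end Cfsg.Agent.Lib.SubfieldMax.Orth
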