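import Cfsg.Agent.Lib.Subspaces.UnitaryGen
import Cfsg.Agent.Lib.SubfieldMax.SkewHerm
import Cfsg.Agent.Lib.SubfieldMax.Mem

/-!
Maximality of subfield subgroups of special unitary groups.
-/

set_option autoImplicit false

namespace Cfsg.Agent.Lib.SubfieldMax.SkewMax

open Matrix Cfsg.Agent.Lib.Subspaces.Transvection Cfsg.Agent.Lib.Subspaces.FormVec
  Cfsg.Agent.Lib.Subspaces.UnitaryForm Cfsg.Agent.Lib.Subspaces.UnitaryGen
  Cfsg.Agent.Lib.SubfieldMax.Linear Cfsg.Agent.Lib.SubfieldMax.RatLin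
  Cfsg.Agent.Lib.SubfieldMax.Form Cfsg.Agent.Lib.SubfieldMax.SkewBasic
  Cfsg.Agent.Lib.SubfieldMax.SkewHerm

variable {F : Type*} [Field F] [Fintype F]

/-- A subfield subgroup on which a purely imaginary multiple of the Hermitian form is rational is
maximal. -/
theorem maximal {n q : ℕ} (hF : Fintype.card F = q ^ 2) (hn : 6 ≤ n) (F₀ : Subfield F) {r : ℕ}
    (hr : r.Prime) (hcard : Fintype.card F = Nat.card F₀ ^ r) (hstable : ∀ a ∈ F₀, powAut hF a ∈ F₀)
    {ζ : F} (hζ0 : ζ ≠ 0) (hζ : powAut hF ζ = -ζ) (P : GL (Fin n) F)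
    (hP : Cfsg.Geo.IsFormRationalStructure (Cfsg.hermForm n F q) F₀ ζ P)
    (halt : (2 : F) = 0 → (∀ a ∈ F₀, powAut hF a = a) → ∀ u : Fin n → F, Rat F₀ u →
      Cfsg.hermForm n F q ((P : Matrix (Fin n) (Fin n) F) *ᵥ u) ((P : Matrix (Fin n) (Fin n) F) *ᵥ u) = 0) :
    Cfsg.Geo.IsMaximalIn (Cfsg.GU n F q ⊓ Cfsg.Geo.specialLinear (Fin n) F)
      (Cfsg.Geo.subfieldSubgroup F₀ P ⊓ (Cfsg.GU n F q ⊓ Cfsg.Geo.specialLinear (Fin n) F)) := by
  classical
  set σ := powAut hF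
  set h := Cfsg.hermForm n F q
  have hh : Cfsg.Geo.IsUnitaryForm σ h := hermForm_isUnitary hF
  let f : (Fin n → F) → (Fin n → F) → F := fun u v =>
    ζ * h ((P : Matrix (Fin n) (Fin n) F) *ᵥ u) ((P : Matrix (Fin n) (Fin n) F) *ᵥ v)
  have hf : IsSkew σ f := by
    refine ⟨hh.involutive, fun x y v => ?_, fun c x v => ?_, fun v w => ?_, fun v hv => ?_⟩
    · simp only [f, mulVec_add, hh.add_left, mul_add]
    · simp only [f, mulVec_smul, hh.smul_left]; ring
    · simp only [f, map_mul, hζ, ← hh.herm]; ring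
    · have hv' : (P : Matrix (Fin n) (Fin n) F) *ᵥ v ≠ 0 := fun e => hv (gl_mulVec_injective P (by simpa using e))
      obtain ⟨⟨x, hx⟩, ⟨y, hy⟩⟩ := hh.nondegenerate _ hv'
      refine ⟨⟨((P⁻¹ : GL (Fin n) F) : Matrix (Fin n) (Fin n) F) *ᵥ x, ?_⟩,
        ⟨((P⁻¹ : GL (Fin n) F) : Matrix (Fin n) (Fin n) F) *ᵥ y, ?_⟩⟩
      · simp only [f, gl_mulVec_inv]; exact mul_ne_zero hζ0 hx
      · simp only [f, gl_mulVec_inv]; exact mul_ne_zero hζ0 hy
  have R : RatForm F₀ σ f := by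
    refine ⟨hf, hstable, fun u v hu hv => hP u v hu hv, fun h2 hfix v hv => ?_, by rw [Fintype.card_fin]; exact hn⟩
    simp only [f, halt h2 hfix v hv, mul_zero]
  let c := (MulAut.conj P).toMonoidHom
  have hconj : ∀ (g : GL (Fin n) F) (u : Fin n → F),
      ((c g : GL (Fin n) F) : Matrix (Fin n) (Fin n) F) *ᵥ ((P : Matrix (Fin n) (Fin n) F) *ᵥ u) =
      (P : Matrix (Fin n) (Fin n) F) *ᵥ ((g : Matrix (Fin n) (Fin n) F) *ᵥ u) := by
    intro g u
    show ((P * g * P⁻¹ : GL (Fin n) F) : Matrix (Fin n) (Fin n) F) *ᵥ _ = _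
    rw [gl_mul_mulVec, gl_mul_mulVec, gl_inv_mulVec]
  have hgu : ∀ g : GL (Fin n) F, c g ∈ Cfsg.GU n F q ↔
      ∀ u v, f ((g : Matrix (Fin n) (Fin n) F) *ᵥ u) ((g : Matrix (Fin n) (Fin n) F) *ᵥ v) = f u v := by
    intro g
    rw [mem_GU_iff']
    constructor
    · intro h1 u v
      simp only [f, ← hconj g]
      exact congrArg (ζ * ·) (h1 _ _)
    · intro h1 u v
      have := h1 (((P⁻¹ : GL (Fin n) F) : Matrix (Fin n) (Fin n) F) *ᵥ u)
        (((P⁻¹ : GL (Fin n) F) : Matrix (Fin n) (Fin n) F) *ᵥ v)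
      simp only [f, ← hconj g, gl_mulVec_inv] at this
      exact mul_left_cancel₀ hζ0 this
  have hTsu : ∀ v a, f v v = 0 → σ a = a →
      c (tv v (a • formVec f v)) ∈ Cfsg.GU n F q ⊓ Cfsg.Geo.specialLinear (Fin n) F := fun v a hv ha =>
    ⟨(hgu _).2 fun u w => hf.ut_isometry hv ha u w, (mem_specialLinear_iff _).2 (by
      show ((P * tv v (a • formVec f v) * P⁻¹ : GL (Fin n) F) : Matrix (Fin n) (Fin n) F).det = 1
      rw [Units.val_mul, Units.val_mul, det_mul_right_comm, Units.mul_inv, one_mul]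
      exact (mem_specialLinear_iff _).1 (tv_mem_specialLinear _ _))⟩
  have hsub : ∀ g : GL (Fin n) F, c g ∈ Cfsg.Geo.subfieldSubgroup F₀ P ↔ RatUpTo F₀ g := by
    intro g
    rw [Cfsg.Agent.Lib.SubfieldMax.Mem.mem_sub_iff]
    rw [show P⁻¹ * c g * P = g by show P⁻¹ * (P * g * P⁻¹) * P = g; group]
  have hcard' : Nat.card F = Nat.card F₀ ^ r := by rw [Nat.card_eq_fintype_card, hcard]
  obtain ⟨l, hl⟩ : ∃ l : F, l ∉ F₀ := by
    by_contra hall
    push Not at hall
    have : Nat.card F₀ = Nat.card F := Nat.card_congr (Equiv.subtypeUnivEquiv hall)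
    rw [← this] at hcard'
    exact hr.ne_one (Nat.pow_right_injective (Finite.one_lt_card (α := F₀)) (hcard'.symm.trans (pow_one _).symm))
  refine ⟨lt_of_le_not_ge inf_le_right ?_, fun M hHM hMK => ?_⟩
  · -- a transvection with an irrational centre
    obtain ⟨e₁, he₁, he₁₁, he₁n, -⟩ := R.orth (k := 0) ![] (fun i => i.elim0) (l := 0) ![] (fun i => i.elim0)
      (by rw [Fintype.card_fin]; omega)
    obtain ⟨e₂, he₂, he₂₂, he₂n, he₂o⟩ := R.orth ![e₁] (fun i => by fin_cases i; exact he₁)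
      ![e₁] (fun i => by fin_cases i; exact he₁) (by rw [Fintype.card_fin]; omega)
    obtain ⟨y, hy, -, hyo, hy2⟩ := R.sep ![e₁] (fun i => by fin_cases i; exact he₁) he₂ he₂n (by omega)
    have h21 : f e₂ e₁ = 0 := he₂o 0
    have h1y : f e₁ y = 0 := hyo 0
    set v := e₁ + l • e₂ with hv
    have hvv : f v v = 0 := by
      simp only [v, hf.add_left, hf.add_right, hf.smul_left, hf.smul_right, he₁₁, he₂₂, h21,
        hf.swap_eq_zero h21, mul_zero, add_zero]
    intro hle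
    obtain ⟨d, hd, hent⟩ := (hsub _).1 (hle (hTsu v 1 hvv (map_one σ))).1
    have hvec : ∀ x, Rat F₀ x →
        Rat F₀ (d • (((tv v ((1 : F) • formVec f v) : GL (Fin n) F) : Matrix (Fin n) (Fin n) F) *ᵥ x)) :=
      fun x hx i => by
        rw [Pi.smul_apply, smul_eq_mul, mulVec, dotProduct, Finset.mul_sum]
        exact sum_mem fun j _ => by rw [← mul_assoc]; exact mul_mem (hent i j) (hx j)
    have he₂e₁ : e₁ ∉ Submodule.span F (Set.range ![e₂]) := by
      intro hm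
      rw [Matrix.range_cons, Matrix.range_empty, Set.union_empty] at hm he₂n
      obtain ⟨a, ha⟩ := Submodule.mem_span_singleton.1 hm
      have ha0 : a ≠ 0 := fun e => he₁n (by rw [← ha, e, zero_smul]; exact Submodule.zero_mem _)
      exact he₂n (Submodule.mem_span_singleton.2 ⟨a⁻¹, by rw [← ha, inv_smul_smul₀ ha0]⟩)
    obtain ⟨χ, hχ, hχ2, hχ1⟩ := exists_sep ![e₂] (fun i => by fin_cases i; exact he₂) he₁ he₂e₁
    have hχ2' : χ ⬝ᵥ e₂ = 0 := hχ2 0
    have hdF : d ∈ F₀ := by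
      have h1 := hχ.dot (hvec e₁ he₁)
      rw [hf.ut_mulVec hvv, hv, hf.add_right, hf.smul_right, he₁₁, hf.swap_eq_zero h21] at h1
      simpa [dotProduct_smul, dotProduct_add, hχ1] using h1
    have h2 := hχ.dot (hvec y hy)
    rw [hf.ut_mulVec hvv, hv, hf.add_right, hf.smul_right, hf.swap_eq_zero h1y, hf.swap_eq_one hy2] at h2
    simp only [dotProduct_smul, dotProduct_add, hχ1, hχ2', smul_eq_mul] at h2
    have h3 : σ l ∈ F₀ := by
      have := sub_mem (hχ.dot hy) (mul_mem (inv_mem hdF) h2)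
      rw [inv_mul_cancel_left₀ hd] at this
      convert this using 1
      ring
    exact hl (hf.invol l ▸ hstable _ h3)
  · by_cases hM : M ≤ Cfsg.Geo.subfieldSubgroup F₀ P
    · exact Or.inl (le_antisymm (le_inf hM hMK) hHM)
    refine Or.inr (le_antisymm hMK ?_)
    have S : Setting F₀ σ f (M.comap c) := by
      refine ⟨R, fun x hx => (hgu x).1 (hMK hx).1, fun v hv hvv a ha hσa => hHM ⟨(hsub _).2 ⟨1, one_ne_zero,
        fun i j => ?_⟩, hTsu v a hvv hσa⟩⟩
      rw [one_mul, coe_tv (hf.ut_dot hvv a), Matrix.add_apply, vecMulVec_apply]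
      refine add_mem ?_ (mul_mem (hv i) (mul_mem ha (R.rat_formVec hv j)))
      by_cases hij : i = j
      · subst hij; rw [Matrix.one_apply_eq]; exact one_mem _
      · rw [Matrix.one_apply_ne hij]; exact zero_mem _
    by_cases hG : GoodS F₀ f (M.comap c)
    · refine su_le hF (by omega) fun v hv => ⟨hv, fun a ha => ?_⟩
      set u := ((P⁻¹ : GL (Fin n) F) : Matrix (Fin n) (Fin n) F) *ᵥ v
      have hu : (P : Matrix (Fin n) (Fin n) F) *ᵥ u = v := gl_mulVec_inv P v
      have huu : f u u = 0 := by simp only [f, hu]; rw [show h v v = 0 from hv, mul_zero]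
      have hfix : σ (a / ζ) = a / ζ := by
        rw [map_div₀, hζ, eq_neg_of_add_eq_zero_right ha, neg_div_neg_eq]
      have hmem := S.all_of_good hr hcard' hG u huu (a / ζ) hfix
      rw [Subgroup.mem_comap] at hmem
      have e : c (tv u ((a / ζ) • formVec f u)) = tv v (a • formVec h v) := by
        refine gl_ext fun x => ?_
        obtain ⟨z, rfl⟩ : ∃ z, (P : Matrix (Fin n) (Fin n) F) *ᵥ z = x := ⟨_, gl_mulVec_inv P x⟩
        rw [hconj, hf.ut_mulVec huu, mulVec_add, mulVec_smul, hu, utv_mulVec hh hv]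
        simp only [f, hu]
        congr 2
        field_simp
      rwa [e] at hmem
    · exfalso
      obtain ⟨g, hgM, hgH⟩ := SetLike.not_le_iff_exists.1 hM
      obtain ⟨y, rfl⟩ : ∃ y, c y = g := (MulAut.conj P).surjective g
      exact hgH ((hsub y).2 (S.rational_of_not_good hG hgM))

end Cfsg.Agent.Lib.SubfieldMax.SkewMax
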