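import Mathlib.Algebra.Algebra.Subalgebra.IsSimpleOrder
import Mathlib.FieldTheory.Finite.Basic
import Cfsg.Agent.Lib.Subspaces.SympGen
import Cfsg.Agent.Lib.SubfieldMax.RatLin
import Cfsg.Agent.Lib.SubfieldMax.Form

/-!
Subgroups of a symplectic group containing the rational transvections of a subfield structure.
-/

set_option autoImplicit false

namespace Cfsg.Agent.Lib.SubfieldMax.Symplectic

open Matrix Cfsg.Agent.Lib.Subspaces.Transvection Cfsg.Agent.Lib.Subspaces.FormVec
  Cfsg.Agent.Lib.Subspaces.SympGen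
  Cfsg.Agent.Lib.SubfieldMax.Linear Cfsg.Agent.Lib.SubfieldMax.RatLin Cfsg.Agent.Lib.SubfieldMax.Form

variable {ι : Type} [Fintype ι] [DecidableEq ι] {F : Type*} [Field F]

/-- Standing data: a symplectic form rational on rational vectors, a group of isometries containing
the rational transvections. -/
structure Setting (F₀ : Subfield F) (f : (ι → F) → (ι → F) → F) (M : Subgroup (GL ι F)) : Prop where
  symp : Cfsg.Geo.IsSymplecticForm f
  rat : ∀ u v, Rat F₀ u → Rat F₀ v → f u v ∈ F₀
  iso : ∀ g ∈ M, ∀ u v, f ((g : Matrix ι ι F) *ᵥ u) ((g : Matrix ι ι F) *ᵥ v) = f u v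
  hT : ∀ v, Rat F₀ v → ∀ a ∈ F₀, tv v (a • formVec f v) ∈ M
  card : 6 ≤ Fintype.card ι

/-- `g` acts as the element attached to `x ⊥ w` and the scalar `b`. -/
def IsS (f : (ι → F) → (ι → F) → F) (x w : ι → F) (b : F) (g : GL ι F) : Prop :=
  ∀ u, (g : Matrix ι ι F) *ᵥ u = u + f u x • w + f u w • x + (b * f u w) • w

/-- The subgroup contains the pure element attached to `x` and `w`. -/
def Pure (f : (ι → F) → (ι → F) → F) (M : Subgroup (GL ι F)) (x w : ι → F) : Prop :=
  ∃ g ∈ M, IsS f x w 0 g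

/-- Some pure element with rational directions has an irrational parameter. -/
def GoodS (F₀ : Subfield F) (f : (ι → F) → (ι → F) → F) (M : Subgroup (GL ι F)) : Prop :=
  ∃ (w u : ι → F) (k : F), Rat F₀ w ∧ Rat F₀ u ∧ f u w = 0 ∧ w ≠ 0 ∧ u ∉ Submodule.span F {w} ∧
    k ∉ F₀ ∧ Pure f M (k • u) w

variable {F₀ : Subfield F} {f : (ι → F) → (ι → F) → F} {M : Subgroup (GL ι F)}

section

variable (hf : Cfsg.Geo.IsSymplecticForm f)
include hf

theorem f_add_left (x y v : ι → F) : f (x + y) v = f x v + f y v := hf.bilinear.add_left x y v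
theorem f_smul_left (c : F) (x v : ι → F) : f (c • x) v = c * f x v := hf.bilinear.smul_left c x v
theorem f_smul_right (c : F) (v x : ι → F) : f v (c • x) = c * f v x := hf.bilinear.smul_right c v x
theorem f_add_right (v x y : ι → F) : f v (x + y) = f v x + f v y := hf.bilinear.add_right v x y

theorem f_neg_right (v x : ι → F) : f v (-x) = -f v x := by
  rw [← neg_one_smul F x, f_smul_right hf]; ring

theorem f_neg_left (v x : ι → F) : f (-x) v = -f x v := by
  rw [← neg_one_smul F x, f_smul_left hf]; ring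

/-- Composition. -/
theorem IsS.mul {x x' w : ι → F} {b b' : F} {g g' : GL ι F} (hg : IsS f x w b g) (hg' : IsS f x' w b' g')
    (hxw : f x w = 0) (hxw' : f x' w = 0) : IsS f (x + x') w (b + b' + f x' x) (g * g') := by
  intro u
  rw [gl_mul_mulVec, hg' u, hg]
  simp only [f_add_left hf, f_smul_left hf, f_add_right hf, hf.alternating, hxw', swap_eq_zero hf hxw,
    mul_zero, add_zero, add_smul, mul_smul, smul_add, mul_add]
  module

/-- Inverse. -/
theorem IsS.inv {x w : ι → F} {b : F} {g : GL ι F} (hg : IsS f x w b g) (hxw : f x w = 0) :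
    IsS f (-x) w (-b) g⁻¹ := by
  intro u
  apply gl_mulVec_injective g
  show (g : Matrix ι ι F) *ᵥ _ = (g : Matrix ι ι F) *ᵥ _
  rw [gl_mulVec_inv, hg]
  simp only [f_add_left hf, f_smul_left hf, f_neg_right hf, f_neg_left hf, hf.alternating, hxw,
    swap_eq_zero hf hxw, mul_zero, neg_zero, add_zero, add_smul, mul_smul, smul_add, mul_add, neg_smul,
    smul_neg, neg_mul, mul_neg]
  module

theorem IsS.symm {k : F} {x w : ι → F} {g : GL ι F} (hg : IsS f (k • x) w 0 g) : IsS f (k • w) x 0 g := by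
  intro u
  rw [hg u]
  simp only [f_smul_right hf, zero_mul, zero_smul, add_zero, mul_smul]
  module

/-- A commutator of pure elements is pure. -/
theorem pure_diff (hiso : ∀ g ∈ M, ∀ u v, f ((g : Matrix ι ι F) *ᵥ u) ((g : Matrix ι ι F) *ᵥ v) = f u v)
    {x w : ι → F} {b : F} {g h : GL ι F} (hg : g ∈ M) (hgS : IsS f x w b g) (hh : h ∈ M)
    (hhw : (h : Matrix ι ι F) *ᵥ w = w) (hxw : f x w = 0) (hx : f ((h : Matrix ι ι F) *ᵥ x) x = 0) :
    Pure f M (((h : Matrix ι ι F) *ᵥ x) - x) w := by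
  have hconj : IsS f ((h : Matrix ι ι F) *ᵥ x) w b (h * g * h⁻¹) := by
    intro u
    rw [gl_mul_mulVec, gl_mul_mulVec, hgS]
    simp only [mulVec_add, mulVec_smul, hhw, gl_mulVec_inv]
    have e1 := hiso h hh (((h⁻¹ : GL ι F) : Matrix ι ι F) *ᵥ u) x
    have e2 := hiso h hh (((h⁻¹ : GL ι F) : Matrix ι ι F) *ᵥ u) w
    rw [gl_mulVec_inv] at e1 e2
    rw [hhw] at e2
    rw [e1, e2]
  have hhxw : f ((h : Matrix ι ι F) *ᵥ x) w = 0 := by rw [← hxw, ← hiso h hh x w, hhw]
  refine ⟨g⁻¹ * (h * g * h⁻¹), M.mul_mem (M.inv_mem hg) (M.mul_mem (M.mul_mem hh hg) (M.inv_mem hh)), ?_⟩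
  have h1 := IsS.mul hf (IsS.inv hf hgS hxw) hconj (by rw [f_neg_left hf, hxw, neg_zero]) hhxw
  rw [f_neg_right hf, hx, neg_zero, add_zero, neg_add_cancel, neg_add_eq_sub] at h1
  exact h1

theorem fv_dot (v x : ι → F) : formVec f v ⬝ᵥ x = f x v :=
  formVec_dot (isLinearLeft_of_bilinear hf.bilinear) v x

theorem tv_conj_center {g : GL ι F} (hiso : ∀ u v, f ((g : Matrix ι ι F) *ᵥ u) ((g : Matrix ι ι F) *ᵥ v) = f u v)
    (v : ι → F) (a : F) :
    g * tv v (a • formVec f v) * g⁻¹ =
      tv ((g : Matrix ι ι F) *ᵥ v) (a • formVec f ((g : Matrix ι ι F) *ᵥ v)) := by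
  refine gl_ext fun u => ?_
  rw [gl_mul_mulVec, gl_mul_mulVec, stv_mulVec hf, stv_mulVec hf, mulVec_add, mulVec_smul, gl_mulVec_inv]
  have := hiso (((g⁻¹ : GL ι F) : Matrix ι ι F) *ᵥ u) v
  rw [gl_mulVec_inv] at this
  rw [this]

/-- Products of two transvections with centres differing by an orthogonal vector. -/
theorem tv_pair {v w : ι → F} (hvw : f v w = 0) (c : F) :
    IsS f (c • v) w c (tv (v + w) (c • formVec f (v + w)) * (tv v (c • formVec f v))⁻¹) := by
  intro u
  rw [tv_inv (stv_dot hf v c), ← neg_smul, gl_mul_mulVec, stv_mulVec hf, stv_mulVec hf]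
  simp only [f_add_left hf, f_smul_left hf, f_add_right hf, f_smul_right hf, hvw,
    f_neg_left hf, hf.alternating, mul_zero, neg_zero, add_zero, smul_add, add_smul, mul_smul, neg_mul, mul_add,
    neg_smul]
  module

end

namespace Setting

variable (S : Setting F₀ f M)
include S

theorem hl : IsLinearLeft f := isLinearLeft_of_bilinear S.symp.bilinear

theorem rat_formVec {v : ι → F} (hv : Rat F₀ v) : Rat F₀ (formVec f v) := fun i =>
  S.rat _ _ (Rat.single i (one_mem _)) hv

theorem sep {k : ℕ} (u : Fin k → ι → F) (hu : ∀ i, Rat F₀ (u i)) {s : ι → F} (hs : Rat F₀ s)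
    (hns : s ∉ Submodule.span F (Set.range u)) [Finite F] :
    ∃ y : ι → F, Rat F₀ y ∧ (∀ i, f (u i) y = 0) ∧ f s y = 1 := by
  obtain ⟨χ, hχ, hχu, hχs⟩ := exists_sep u hu hs hns
  obtain ⟨y, hy, rfl⟩ := exists_rat_formVec S.hl S.symp.bilinear.add_right S.symp.nondegenerate S.rat hχ
  exact ⟨y, hy, fun i => by rw [← fv_dot S.symp]; exact hχu i, by rw [← fv_dot S.symp]; exact hχs⟩

theorem orth {k l : ℕ} (φ : Fin k → ι → F) (hφ : ∀ i, Rat F₀ (φ i)) (u : Fin l → ι → F)
    (hu : ∀ i, Rat F₀ (u i)) (h : k + l < Fintype.card ι) [Finite F] :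
    ∃ z : ι → F, Rat F₀ z ∧ z ∉ Submodule.span F (Set.range u) ∧ ∀ i, f z (φ i) = 0 := by
  obtain ⟨z, hz, hzn, hzφ⟩ := exists_orth_not_mem (fun i => formVec f (φ i))
    (fun i => S.rat_formVec (hφ i)) u hu h
  exact ⟨z, hz, hzn, fun i => by rw [← fv_dot S.symp]; exact hzφ i⟩

theorem pure_rat {y u : ι → F} (hy : Rat F₀ y) (hu : Rat F₀ u) (hyu : f y u = 0) {a : F} (ha : a ∈ F₀) :
    Pure f M (a • y) u := by
  have h1 := tv_pair S.symp hyu a
  have h2 : IsS f 0 u (-a) (tv u ((-a) • formVec f u)) := fun z => by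
    rw [stv_mulVec S.symp, zero_right S.symp]
    simp
  refine ⟨_, M.mul_mem (M.mul_mem (S.hT _ (fun i => add_mem (hy i) (hu i)) a ha)
    (M.inv_mem (S.hT y hy a ha))) (S.hT u hu _ (neg_mem ha)), ?_⟩
  have h3 := IsS.mul S.symp h1 h2 (by rw [f_smul_left S.symp, hyu, mul_zero])
    (by rw [form_zero_left S.hl])
  rwa [add_zero, form_zero_left S.hl, add_zero, add_neg_cancel] at h3

/-- The commutator step: `k y` moved by a pure element with parameter `l`. -/
theorem step {w y y' u : ι → F} {k l b : F} (hwy : f y w = 0) (hwy' : f y' w = 0) (hwu : f u w = 0)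
    (hyy' : f y y' = 1) (hyu : f y u = 0) {g : GL ι F} (hg : g ∈ M) (hgS : IsS f (k • y) w b g)
    (hh : Pure f M (l • y') u) : Pure f M ((k * l) • u) w := by
  have hf := S.symp
  obtain ⟨h, hhM, hhS⟩ := hh
  have h1 : (h : Matrix ι ι F) *ᵥ w = w := by
    rw [hhS]
    simp [f_smul_right hf, swap_eq_zero hf hwy', swap_eq_zero hf hwu]
  have h2 : (h : Matrix ι ι F) *ᵥ (k • y) = k • y + (k * l) • u := by
    rw [hhS]
    simp [f_smul_right hf, f_smul_left hf, hyy', hyu, mul_comm]
  have h3 := pure_diff hf S.iso hg hgS hhM h1 (by rw [f_smul_left hf, hwy, mul_zero])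
    (by rw [h2]; simp [f_add_left hf, f_smul_right hf, f_smul_left hf, hf.alternating, swap_eq_zero hf hyu])
  rwa [h2, add_sub_cancel_left] at h3

theorem coeff_mem (hG : ¬ GoodS F₀ f M) [Finite F] {w y : ι → F} {k b : F} (hw : Rat F₀ w) (hw0 : w ≠ 0)
    (hy : Rat F₀ y) (hwy : f y w = 0) (hyn : y ∉ Submodule.span F {w}) {g : GL ι F} (hg : g ∈ M)
    (hgS : IsS f (k • y) w b g) : k ∈ F₀ := by
  by_contra hk
  obtain ⟨y', hy', hy'o, hyy'⟩ := S.sep ![w] (fun i => by fin_cases i; exact hw) hy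
    (by simpa [Matrix.range_cons] using hyn)
  have h1 : f w y' = 0 := hy'o 0
  obtain ⟨u, hu, hun, huo⟩ := S.orth ![w, y, y'] (fun i => by fin_cases i; exacts [hw, hy, hy'])
    ![w] (fun i => by fin_cases i; exact hw) (by have := S.card; omega)
  have o1 : f u w = 0 := huo 0
  have o2 : f u y = 0 := huo 1
  have o3 : f u y' = 0 := huo 2
  have h2 := S.step hwy (swap_eq_zero S.symp h1) o1 hyy' (swap_eq_zero S.symp o2) hg hgS
    (S.pure_rat hy' hu (swap_eq_zero S.symp o3) (one_mem F₀))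
  rw [mul_one] at h2
  exact hG ⟨w, u, k, hw, hu, o1, hw0, by simpa [Matrix.range_cons] using hun, hk, h2⟩

theorem form_mem (hG : ¬ GoodS F₀ f M) [Finite F] {w x : ι → F} {b : F} (hw : Rat F₀ w) (hw0 : w ≠ 0)
    {g : GL ι F} (hg : g ∈ M) (hgS : IsS f x w b g) (hxw : f x w = 0) {y : ι → F} (hy : Rat F₀ y)
    (hwy : f y w = 0) : f x y ∈ F₀ := by
  have hf := S.symp
  by_cases hyn : y ∈ Submodule.span F {w}
  · obtain ⟨c, rfl⟩ := Submodule.mem_span_singleton.1 hyn
    rw [f_smul_right hf, hxw, mul_zero]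
    exact zero_mem F₀
  set t := tv y ((1 : F) • formVec f y)
  have htM : t ∈ M := S.hT y hy 1 (one_mem _)
  have h1 : (t : Matrix ι ι F) *ᵥ w = w := by
    rw [stv_mulVec hf, swap_eq_zero hf hwy, mul_zero, zero_smul, add_zero]
  have htx : (t : Matrix ι ι F) *ᵥ x = x + f x y • y := by rw [stv_mulVec hf, one_mul]
  have hconj : IsS f ((t : Matrix ι ι F) *ᵥ x) w b (t * g * t⁻¹) := by
    intro u
    rw [gl_mul_mulVec, gl_mul_mulVec, hgS]
    simp only [mulVec_add, mulVec_smul, h1, gl_mulVec_inv]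
    have e1 := S.iso t htM (((t⁻¹ : GL ι F) : Matrix ι ι F) *ᵥ u) x
    have e2 := S.iso t htM (((t⁻¹ : GL ι F) : Matrix ι ι F) *ᵥ u) w
    rw [gl_mulVec_inv] at e1 e2
    rw [h1] at e2
    rw [e1, e2]
  have h2 := IsS.mul hf (IsS.inv hf hgS hxw) hconj (by rw [f_neg_left hf, hxw, neg_zero])
    (by rw [htx, f_add_left hf, f_smul_left hf, hxw, hwy, mul_zero, add_zero])
  rw [htx, neg_add_cancel_left] at h2
  exact S.coeff_mem hG hw hw0 hy hwy hyn
    (M.mul_mem (M.inv_mem hg) (M.mul_mem (M.mul_mem htM hg) (M.inv_mem htM))) h2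

/-- A rational centre carries only rational parameters. -/
theorem param_mem (hG : ¬ GoodS F₀ f M) [Finite F] {w : ι → F} {c : F} (hw : Rat F₀ w) (hw0 : w ≠ 0)
    (h : tv w (c • formVec f w) ∈ M) : c ∈ F₀ := by
  have hf := S.symp
  obtain ⟨z, hz, -, hwz⟩ := S.sep (k := 0) ![] (fun i => i.elim0) hw (by simpa using hw0)
  obtain ⟨u, hu, hun, huo⟩ := S.orth ![w, z] (fun i => by fin_cases i; exacts [hw, hz])
    ![w] (fun i => by fin_cases i; exact hw) (by have := S.card; omega)
  have o1 : f u w = 0 := huo 0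
  have o2 : f u z = 0 := huo 1
  have hu0 : u ≠ 0 := fun e => hun (e ▸ Submodule.zero_mem _)
  obtain ⟨h', hhM, hhS⟩ := S.pure_rat hz hu (swap_eq_zero hf o2) (one_mem F₀)
  have hhw : (h' : Matrix ι ι F) *ᵥ w = w + u := by
    rw [hhS]
    simp [hwz, swap_eq_zero hf o1]
  have h1 : tv (w + u) (c • formVec f (w + u)) ∈ M := by
    rw [← hhw, ← tv_conj_center hf (S.iso h' hhM)]
    exact M.mul_mem (M.mul_mem hhM h) (M.inv_mem hhM)
  have h2 := tv_pair hf (swap_eq_zero hf o1) c
  have h3 := S.form_mem hG hu hu0 (M.mul_mem h1 (M.inv_mem h)) h2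
    (by rw [f_smul_left hf, swap_eq_zero hf o1, mul_zero]) hz (swap_eq_zero hf o2)
  rwa [f_smul_left hf, hwz, mul_one] at h3

/-- Rational directions in the kernel plane. -/
theorem mem_plane_span [Finite F] {x r w : ι → F} {μ : F} (hw : Rat F₀ w) (hr : Rat F₀ r)
    (hx : x = μ • w + r) (hμ : μ ∉ F₀) {u₁ u₂ : ι → F} (hu₁ : Rat F₀ u₁) (hu₂ : Rat F₀ u₂)
    (hx' : x ∈ Submodule.span F {u₁, u₂}) :
    w ∈ Submodule.span F {u₁, u₂} ∧ r ∈ Submodule.span F {u₁, u₂} := by
  have hf := S.symp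
  have key : ∀ y, Rat F₀ y → f u₁ y = 0 → f u₂ y = 0 → f w y = 0 ∧ f r y = 0 := by
    intro y hy h1 h2
    obtain ⟨s, t, hst⟩ := Submodule.mem_span_pair.1 hx'
    have h3 := congrArg (fun z => f z y) hst
    simp only [hx, f_add_left hf, f_smul_left hf, h1, h2, mul_zero, add_zero] at h3
    have ha := S.rat w y hw hy
    have hb := S.rat r y hr hy
    by_cases hwy : f w y = 0
    · rw [hwy, mul_zero, zero_add] at h3; exact ⟨hwy, h3.symm⟩
    · exfalso
      apply hμ
      have : μ = -f r y / f w y := by rw [eq_div_iff hwy]; linear_combination h3.symm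
      rw [this]
      exact div_mem (neg_mem hb) ha
  constructor
  · by_contra hn
    obtain ⟨y, hy, hyo, hy1⟩ := S.sep ![u₁, u₂] (fun i => by fin_cases i; exacts [hu₁, hu₂]) hw
      (by simpa [Matrix.range_cons, Set.pair_comm] using hn)
    exact one_ne_zero (hy1.symm.trans (key y hy (hyo 0) (hyo 1)).1)
  · by_contra hn
    obtain ⟨y, hy, hyo, hy1⟩ := S.sep ![u₁, u₂] (fun i => by fin_cases i; exacts [hu₁, hu₂]) hr
      (by simpa [Matrix.range_cons, Set.pair_comm] using hn)
    exact one_ne_zero (hy1.symm.trans (key y hy (hyo 0) (hyo 1)).2)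

/-- A vector orthogonal to a rational centre direction lies in a rational plane, rationally. -/
theorem exists_plane (hG : ¬ GoodS F₀ f M) [Finite F] {a w : ι → F} {c : F} (hc : c ≠ 0) (ha0 : a ≠ 0)
    (hM : tv a (c • formVec f a) ∈ M) (hw : Rat F₀ w) (hw0 : w ≠ 0) (haw : f a w = 0) :
    ∃ (l μ : F) (r : ι → F), l ≠ 0 ∧ Rat F₀ r ∧ f r w = 0 ∧ l • a = μ • w + r := by
  have hf := S.symp
  have hl := S.hl
  obtain ⟨i, hi⟩ := Function.ne_iff.1 (formVec_ne_zero hl hf.nondegenerate hw0)
  simp only [Pi.zero_apply] at hi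
  have hφ : Rat F₀ (formVec f w) := S.rat_formVec hw
  set φ := formVec f w
  set ψ := formVec f a
  by_cases hex : ∃ z, Rat F₀ z ∧ f z w = 0 ∧ f a z ≠ 0
  · obtain ⟨z, hz, hzw, haz⟩ := hex
    set β := f a z
    set t := (c * β)
    have ht : t ≠ 0 := mul_ne_zero hc haz
    have hkey : ∀ y, Rat F₀ y → f y w = 0 → t * f a y ∈ F₀ := by
      intro y hy hyw
      obtain ⟨h', hhM, hhS⟩ := S.pure_rat hz hw hzw (one_mem F₀)
      have hha : (h' : Matrix ι ι F) *ᵥ a = a + β • w := by
        rw [hhS]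
        simp [haw, β]
      have h1 : tv (a + β • w) (c • formVec f (a + β • w)) ∈ M := by
        rw [← hha, ← tv_conj_center hf (S.iso h' hhM)]
        exact M.mul_mem (M.mul_mem hhM hM) (M.inv_mem hhM)
      have h2 : IsS f (t • a) w (c * β * β) (tv (a + β • w) (c • formVec f (a + β • w)) * (tv a (c • formVec f a))⁻¹) := by
        intro u
        rw [tv_pair hf (show f a (β • w) = 0 by rw [f_smul_right hf, haw, mul_zero]) c u]
        simp only [f_smul_right hf, t]
        module
      have h3 := S.form_mem hG hw hw0 (M.mul_mem h1 (M.inv_mem hM)) h2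
        (by rw [f_smul_left hf, haw, mul_zero]) hy hyw
      rwa [f_smul_left hf] at h3
    -- the functional of `t • a` is rational modulo that of `w`
    set μ := t * ψ i / φ i
    have hr : Rat F₀ ((t • ψ) - μ • φ) := fun j => by
      have hy := hkey (φ i • Pi.single j 1 - φ j • Pi.single i 1)
        (((Rat.single j (one_mem _)).smul (hφ i)).sub ((Rat.single i (one_mem _)).smul (hφ j)))
        (by rw [← fv_dot hf]; simp [dotProduct_sub, φ]; ring)
      rw [hf.skew, ← fv_dot hf] at hy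
      simp [dotProduct_sub] at hy
      have h4 := neg_mem (div_mem hy (hφ i))
      have e : ((t • ψ) - μ • φ) j = -(t * (φ j * ψ i - φ i * ψ j) / φ i) := by
        simp only [Pi.sub_apply, Pi.smul_apply, smul_eq_mul, μ]
        field_simp
        ring
      rw [e]
      convert h4 using 1
    obtain ⟨r, hrr, hr'⟩ := exists_rat_formVec hl hf.bilinear.add_right hf.nondegenerate S.rat hr
    have heq : t • a = μ • w + r := by
      by_contra hne
      obtain ⟨⟨x, hx⟩, -⟩ := hf.nondegenerate _ (sub_ne_zero.2 hne)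
      apply hx
      have h1 := hf.bilinear.add_right x (t • a - (μ • w + r)) (μ • w + r)
      rw [sub_add_cancel, f_add_right hf, f_smul_right hf, f_smul_right hf, ← fv_dot hf a, ← fv_dot hf w,
        ← fv_dot hf r, hr', sub_dotProduct, smul_dotProduct, smul_dotProduct] at h1
      simp only [smul_eq_mul, φ, ψ] at h1
      linear_combination -h1
    refine ⟨t, μ, r, ht, hrr, ?_, heq⟩
    have := congrArg (fun z => f z w) heq
    simpa [f_add_left hf, f_smul_left hf, haw, hf.alternating] using this.symm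
  · push Not at hex
    refine ⟨1, ψ i / φ i, 0, one_ne_zero, fun _ => zero_mem _, form_zero_left hl w, ?_⟩
    rw [one_smul, add_zero]
    by_contra hne
    obtain ⟨⟨x, hx⟩, -⟩ := hf.nondegenerate _ (sub_ne_zero.2 hne)
    apply hx
    have h1 := hf.bilinear.add_right x (a - (ψ i / φ i) • w) ((ψ i / φ i) • w)
    rw [sub_add_cancel, f_smul_right hf, ← fv_dot hf a, ← fv_dot hf w] at h1
    have hprop : ψ = (ψ i / φ i) • φ := by
      funext j
      have hy := hex (φ i • Pi.single j 1 - φ j • Pi.single i 1)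
        (((Rat.single j (one_mem _)).smul (hφ i)).sub ((Rat.single i (one_mem _)).smul (hφ j)))
        (by rw [← fv_dot hf]; simp [dotProduct_sub, φ]; ring)
      rw [hf.skew, ← fv_dot hf] at hy
      simp [dotProduct_sub] at hy
      rw [Pi.smul_apply, smul_eq_mul, div_mul_eq_mul_div, eq_div_iff hi]
      linear_combination -hy
    rw [show formVec f a = (ψ i / φ i) • φ from hprop, smul_dotProduct, smul_eq_mul] at h1
    linear_combination -h1

/-- A centre orthogonal to a rational vector is rational. -/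
theorem rat_of_orth (hG : ¬ GoodS F₀ f M) [Finite F] {a w : ι → F} {c : F} (hc : c ≠ 0) (ha0 : a ≠ 0)
    (hM : tv a (c • formVec f a) ∈ M) (hw : Rat F₀ w) (hw0 : w ≠ 0) (haw : f a w = 0) :
    ∃ l : F, l ≠ 0 ∧ Rat F₀ (l • a) := by
  have hf := S.symp
  obtain ⟨l, μ, r, hl, hr, hrw, heq⟩ := S.exists_plane hG hc ha0 hM hw hw0 haw
  by_cases hμ : μ ∈ F₀
  · exact ⟨l, hl, heq ▸ fun i => add_mem (mul_mem hμ (hw i)) (hr i)⟩
  by_cases hrn : r ∈ Submodule.span F {w}
  · obtain ⟨d, rfl⟩ := Submodule.mem_span_singleton.1 hrn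
    rw [← add_smul] at heq
    have hμd : μ + d ≠ 0 := fun h0 => by
      rw [h0, zero_smul, smul_eq_zero] at heq
      exact heq.elim hl ha0
    exact ⟨(μ + d)⁻¹ * l, mul_ne_zero (inv_ne_zero hμd) hl, by
      rw [mul_smul, heq, inv_smul_smul₀ hμd]; exact hw⟩
  obtain ⟨w₂, hw₂, hw₂n, hw₂o⟩ := S.orth ![w, r] (fun i => by fin_cases i; exacts [hw, hr])
    ![w, r] (fun i => by fin_cases i; exacts [hw, hr]) (by have := S.card; omega)
  have hw₂0 : w₂ ≠ 0 := fun e => hw₂n (e ▸ Submodule.zero_mem _)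
  have haw₂ : f a w₂ = 0 := by
    have h1 : f (l • a) w₂ = 0 := by
      have e1 : f w₂ w = 0 := hw₂o 0
      have e2 : f w₂ r = 0 := hw₂o 1
      rw [heq, f_add_left hf, f_smul_left hf, swap_eq_zero hf e1, swap_eq_zero hf e2, mul_zero, add_zero]
    rw [f_smul_left hf] at h1
    exact (mul_eq_zero.1 h1).resolve_left hl
  obtain ⟨l₂, μ₂, r₂, hl₂, hr₂, -, heq₂⟩ := S.exists_plane hG hc ha0 hM hw₂ hw₂0 haw₂
  have hmem : l • a ∈ Submodule.span F {w₂, r₂} := by
    have : l • a = (l * l₂⁻¹) • (μ₂ • w₂ + r₂) := by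
      rw [← heq₂, smul_smul, inv_mul_cancel_right₀ hl₂]
    rw [this]
    exact Submodule.smul_mem _ _ (Submodule.add_mem _ (Submodule.smul_mem _ _ (Submodule.subset_span (by simp)))
      (Submodule.subset_span (by simp)))
  obtain ⟨hwm, hrm⟩ := S.mem_plane_span hw hr heq hμ hw₂ hr₂ hmem
  exfalso
  apply hw₂n
  have hle : Submodule.span F {w, r} ≤ Submodule.span F {w₂, r₂} := by
    rw [Submodule.span_le]
    rintro z (rfl | rfl)
    · exact hwm
    · exact hrm
  have hli : LinearIndependent F ![w, r] := by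
    rw [LinearIndependent.pair_iff' hw0]
    exact fun d hd => hrn (Submodule.mem_span_singleton.2 ⟨d, hd⟩)
  have h2 : Module.finrank F (Submodule.span F {w, r}) = 2 := by
    have := finrank_span_eq_card hli
    rwa [Matrix.range_cons_cons_empty, Fintype.card_fin] at this
  have h3 : Module.finrank F (Submodule.span F {w₂, r₂}) ≤ 2 := by
    have := finrank_range_le_card (R := F) ![w₂, r₂]
    rwa [Set.finrank, Matrix.range_cons_cons_empty, Fintype.card_fin] at this
  have heq' := Submodule.eq_of_le_of_finrank_le hle (by rw [h2]; exact h3)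
  have : w₂ ∈ Submodule.span F {w, r} := heq' ▸ Submodule.subset_span (by simp)
  simpa [Matrix.range_cons, Set.pair_comm] using this

/-- Rigidity. -/
theorem rational_of_not_good (hG : ¬ GoodS F₀ f M) [Finite F] {g : GL ι F} (hg : g ∈ M) :
    RatUpTo F₀ g := by
  have hf := S.symp
  -- a rational point mapped to a rational point forces rationality
  have hL : ∀ g ∈ M, ∀ x w : ι → F, Rat F₀ x → x ≠ 0 → Rat F₀ w → w ≠ 0 →
      f w ((g : Matrix ι ι F) *ᵥ x) = 0 → RatUpTo F₀ g := by
    intro g hg x w hx hx0 hw hw0 hwx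
    have horthrat : ∀ v, Rat F₀ v → ∀ w, Rat F₀ w → v ≠ 0 → w ≠ 0 →
        f ((g : Matrix ι ι F) *ᵥ v) w = 0 → ∃ l : F, l ≠ 0 ∧ Rat F₀ (l • ((g : Matrix ι ι F) *ᵥ v)) := by
      intro v hv w hw hv0 hw0 h
      refine S.rat_of_orth hG (c := 1) one_ne_zero
        (fun e => hv0 (gl_mulVec_injective g (by simpa using e))) ?_ hw hw0 h
      rw [← tv_conj_center hf (S.iso g hg)]
      exact M.mul_mem (M.mul_mem hg (S.hT v hv 1 (one_mem _))) (M.inv_mem hg)
    obtain ⟨lx, hlx, hxr⟩ := horthrat x hx w hw hx0 hw0 (swap_eq_zero hf hwx)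
    have hperp : ∀ v, Rat F₀ v → v ≠ 0 → ∀ (l : F) (y : ι → F), Rat F₀ y → y ≠ 0 → l ≠ 0 →
        Rat F₀ (l • ((g : Matrix ι ι F) *ᵥ y)) → f v y = 0 →
        ∃ l : F, l ≠ 0 ∧ Rat F₀ (l • ((g : Matrix ι ι F) *ᵥ v)) := by
      intro v hv hv0 l y hy hy0 hl hyr hvy
      refine horthrat v hv _ hyr hv0 ?_ ?_
      · exact smul_ne_zero hl fun e => hy0 (gl_mulVec_injective g (by simpa using e))
      · rw [f_smul_right hf, S.iso g hg, hvy, mul_zero]
    have hall : ∀ v, Rat F₀ v → v ≠ 0 → ∃ l : F, l ≠ 0 ∧ Rat F₀ (l • ((g : Matrix ι ι F) *ᵥ v)) := by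
      intro v hv hv0
      obtain ⟨v', hv', hv'n, hv'o⟩ := S.orth ![v, x] (fun i => by fin_cases i; exacts [hv, hx])
        ![x] (fun i => by fin_cases i; exact hx) (by have := S.card; omega)
      have hv'0 : v' ≠ 0 := fun e => hv'n (e ▸ Submodule.zero_mem _)
      obtain ⟨l', hl', hv'r⟩ := hperp v' hv' hv'0 lx x hx hx0 hlx hxr (hv'o 1)
      exact hperp v hv hv0 l' v' hv' hv'0 hl' hv'r (swap_eq_zero hf (hv'o 0))
    have hprod : ∀ u v : ι → F, ∀ a b : F, Rat F₀ (a • ((g : Matrix ι ι F) *ᵥ u)) →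
        Rat F₀ (b • ((g : Matrix ι ι F) *ᵥ v)) → Rat F₀ u → Rat F₀ v → f u v ≠ 0 → a * b ∈ F₀ := by
      intro u v a b hu hv hur hvr huv
      have h1 := S.rat _ _ hu hv
      rw [f_smul_left hf, f_smul_right hf, S.iso g hg, ← mul_assoc] at h1
      have := mul_mem h1 (inv_mem (S.rat u v hur hvr))
      rwa [mul_assoc, mul_inv_cancel₀ huv, mul_one] at this
    refine ⟨lx, hlx, fun i j => ?_⟩
    have hej : (Pi.single j (1 : F) : ι → F) ≠ 0 := by simp
    obtain ⟨l, hl, hjr⟩ := hall _ (Rat.single j (one_mem _)) hej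
    obtain ⟨z, hz, hz1, hz2⟩ := exists_dot_both (S.rat_formVec hx) (S.rat_formVec (Rat.single j (one_mem F₀)))
      (formVec_ne_zero S.hl hf.nondegenerate hx0) (formVec_ne_zero S.hl hf.nondegenerate hej)
    rw [fv_dot hf] at hz1 hz2
    have hz0 : z ≠ 0 := fun e => hz1 (by rw [e, form_zero_left S.hl])
    obtain ⟨lz, hlz, hzr⟩ := hall z hz hz0
    have e1 := hprod z x lz lx hzr hxr hz hx hz1
    have e2 := hprod z _ lz l hzr hjr hz (Rat.single j (one_mem _)) hz2
    have h3 : lx / l ∈ F₀ := by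
      have := div_mem e1 e2
      rwa [mul_div_mul_left _ _ hlz] at this
    have h4 := mul_mem h3 (hjr i)
    rw [Pi.smul_apply, smul_eq_mul, mulVec_single_one, ← mul_assoc, div_mul_cancel₀ _ hl] at h4
    exact h4
  -- a rational totally isotropic plane
  obtain ⟨e₁, he₁, he₁n, -⟩ := S.orth (k := 0) ![] (fun i => i.elim0) (l := 0) ![] (fun i => i.elim0)
    (by have := S.card; omega)
  have he₁0 : e₁ ≠ 0 := fun e => he₁n (e ▸ Submodule.zero_mem _)
  obtain ⟨e₂, he₂, he₂n, he₂o⟩ := S.orth ![e₁] (fun i => by fin_cases i; exact he₁)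
    ![e₁] (fun i => by fin_cases i; exact he₁) (by have := S.card; omega)
  have h21 : f e₂ e₁ = 0 := he₂o 0
  have he₂0 : e₂ ≠ 0 := fun e => he₂n (e ▸ Submodule.zero_mem _)
  obtain ⟨x, hx, hxo, hx2⟩ := S.sep ![e₁] (fun i => by fin_cases i; exact he₁) he₂ he₂n
  have hx1 : f e₁ x = 0 := hxo 0
  have hratT : ∀ e, Rat F₀ e → ∀ i j,
      ((tv e ((1 : F) • formVec f e) : GL ι F) : Matrix ι ι F) i j ∈ F₀ := by
    intro e he i j
    rw [coe_tv (stv_dot hf e 1), Matrix.add_apply, vecMulVec_apply, one_smul]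
    refine add_mem ?_ (mul_mem (he i) (S.rat_formVec he j))
    by_cases hij : i = j
    · subst hij; rw [Matrix.one_apply_eq]; exact one_mem _
    · rw [Matrix.one_apply_ne hij]; exact zero_mem _
  refine rigid (f := f) (by have := S.card; omega) S.hl hf.bilinear.add_right
    (fun v hv => (hf.nondegenerate v hv).1) (fun _ _ => swap_eq_zero hf) S.rat S.iso he₁ he₂ ?_
    (fun g hg x w _ hx hx0 hw hw0 h => hL g hg x w hx hx0 hw hw0 h)
    (S.hT e₁ he₁ 1 (one_mem _)) ?_ (hratT _ he₁) ?_ (S.hT e₂ he₂ 1 (one_mem _)) (hratT _ he₂) ?_ ?_ hg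
  · intro u hu v hv
    obtain ⟨a, b, rfl⟩ := Submodule.mem_span_pair.1 hu
    obtain ⟨c, d, rfl⟩ := Submodule.mem_span_pair.1 hv
    simp [f_add_left hf, f_add_right hf, f_smul_left hf, f_smul_right hf, hf.alternating, h21,
      swap_eq_zero hf h21]
  · intro v
    rw [stv_mulVec hf, add_sub_cancel_left]
    exact Submodule.smul_mem _ _ (Submodule.mem_span_singleton_self e₁)
  · intro h
    obtain ⟨⟨v, hv⟩, -⟩ := hf.nondegenerate e₁ he₁0
    have := congrArg (fun z : GL ι F => (z : Matrix ι ι F) *ᵥ v) h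
    simp only [stv_mulVec hf, one_mul, Units.val_one, one_mulVec, add_eq_left, smul_eq_zero] at this
    exact this.elim hv he₁0
  · intro v
    rw [stv_mulVec hf, add_sub_cancel_left]
    exact Submodule.smul_mem _ _ (Submodule.subset_span (by simp))
  · intro k h
    have hfix : ∀ k : ℕ, ((tv e₁ ((1 : F) • formVec f e₁) ^ k : GL ι F) : Matrix ι ι F) *ᵥ x = x := by
      intro k
      induction k with
      | zero => simp
      | succ k ih =>
        rw [pow_succ', gl_mul_mulVec, ih, stv_mulVec hf, swap_eq_zero hf hx1, mul_zero, zero_smul, add_zero]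
    have := congrArg (fun z : GL ι F => (z : Matrix ι ι F) *ᵥ x) h
    simp only [hfix, stv_mulVec hf, one_mul] at this
    rw [hf.skew, hx2] at this
    simpa [he₂0] using this

/-- Spreading a pure element along rational directions. -/
theorem pure_all [Finite F] {w u : ι → F} {k : F} (hw : Rat F₀ w) (hu : Rat F₀ u)
    (hwu : f u w = 0) (hw0 : w ≠ 0) (hun : u ∉ Submodule.span F {w}) (h : Pure f M (k • u) w) :
    ∀ w' u', Rat F₀ w' → Rat F₀ u' → f u' w' = 0 → w' ≠ 0 → u' ∉ Submodule.span F {w'} →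
      Pure f M (k • u') w' := by
  have hf := S.symp
  have hswap : ∀ {a b : ι → F}, Pure f M (k • a) b → Pure f M (k • b) a := fun ⟨g, hg, hgS⟩ =>
    ⟨g, hg, IsS.symm hf hgS⟩
  -- move the first vector
  have hA : ∀ w u, Rat F₀ w → Rat F₀ u → f u w = 0 → w ≠ 0 → u ∉ Submodule.span F {w} →
      Pure f M (k • u) w → ∀ u', Rat F₀ u' → f u' w = 0 → u' ∉ Submodule.span F {w} →
      Pure f M (k • u') w := by
    intro w u hw hu hwu hw0 hun h u' hu' hwu' hu'n
    obtain ⟨z, hz, hznu, hznu', hzo⟩ : ∃ z, Rat F₀ z ∧ z ∉ Submodule.span F {w, u} ∧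
        z ∉ Submodule.span F {w, u'} ∧ ∀ i, f z (![w, u, u'] i) = 0 := by
      obtain ⟨z1, hz1, hz1n, hz1o⟩ := S.orth ![w, u, u'] (fun i => by fin_cases i; exacts [hw, hu, hu'])
        ![w, u] (fun i => by fin_cases i; exacts [hw, hu]) (by have := S.card; omega)
      obtain ⟨z2, hz2, hz2n, hz2o⟩ := S.orth ![w, u, u'] (fun i => by fin_cases i; exacts [hw, hu, hu'])
        ![w, u'] (fun i => by fin_cases i; exacts [hw, hu']) (by have := S.card; omega)
      rw [show Set.range ![w, u] = {w, u} by simp [Matrix.range_cons, Set.pair_comm]] at hz1n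
      rw [show Set.range ![w, u'] = {w, u'} by simp [Matrix.range_cons, Set.pair_comm]] at hz2n
      by_cases h1 : z1 ∈ Submodule.span F {w, u'}
      · by_cases h2 : z2 ∈ Submodule.span F {w, u}
        · refine ⟨z1 + z2, fun i => add_mem (hz1 i) (hz2 i),
            fun h => hz1n (by simpa using Submodule.sub_mem _ h h2),
            fun h => hz2n (by simpa using Submodule.sub_mem _ h h1), fun i => ?_⟩
          rw [f_add_left hf, hz1o i, hz2o i, add_zero]
        · exact ⟨z2, hz2, h2, hz2n, hz2o⟩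
      · exact ⟨z1, hz1, hz1n, h1, hz1o⟩
    have hone : ∀ y t, Rat F₀ y → Rat F₀ t → f y w = 0 → f t w = 0 → f y t = 0 →
        y ∉ Submodule.span F {w, t} → Pure f M (k • y) w → Pure f M (k • t) w := by
      intro y t hy ht hyw htw hyt hyn hp
      obtain ⟨y', hy', hy'o, hyy'⟩ := S.sep ![w, t] (fun i => by fin_cases i; exacts [hw, ht]) hy
        (by simpa [Matrix.range_cons, Set.pair_comm] using hyn)
      obtain ⟨g, hg, hgS⟩ := hp
      have h2 := S.step hyw (swap_eq_zero hf (hy'o 0 : f w y' = 0)) htw hyy' hyt hg hgS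
        (S.pure_rat hy' ht (swap_eq_zero hf (hy'o 1 : f t y' = 0)) (one_mem F₀))
      rwa [mul_one] at h2
    have hznw : z ∉ Submodule.span F {w, u'} := hznu'
    have hun' : u ∉ Submodule.span F {w, z} := by
      intro hmem
      obtain ⟨a, b, hab⟩ := Submodule.mem_span_pair.1 hmem
      by_cases hb : b = 0
      · rw [hb, zero_smul, add_zero] at hab
        exact hun (Submodule.mem_span_singleton.2 ⟨a, hab⟩)
      · apply hznu
        have : z = b⁻¹ • (u - a • w) := by rw [← hab, add_sub_cancel_left, inv_smul_smul₀ hb]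
        rw [this]
        exact Submodule.smul_mem _ _ (Submodule.sub_mem _ (Submodule.subset_span (by simp))
          (Submodule.smul_mem _ _ (Submodule.subset_span (by simp))))
    exact hone z u' hz hu' (hzo 0) hwu' (hzo 2) hznw
      (hone u z hu hz hwu (hzo 0) (swap_eq_zero hf (hzo 1 : f z u = 0)) hun' h)
  intro w' u' hw' hu' hwu' hw'0 hu'n
  obtain ⟨z, hz, hzn, hzo⟩ := S.orth ![w, w'] (fun i => by fin_cases i; exacts [hw, hw'])
    ![w, w'] (fun i => by fin_cases i; exacts [hw, hw']) (by have := S.card; omega)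
  have hz0 : z ≠ 0 := fun e => hzn (e ▸ Submodule.zero_mem _)
  have hsym : ∀ v, v ≠ 0 → z ∉ Submodule.span F {v} → v ∉ Submodule.span F {z} := fun v hv0 h hmem => by
    obtain ⟨a, ha⟩ := Submodule.mem_span_singleton.1 hmem
    have ha0 : a ≠ 0 := fun e => hv0 (by rw [← ha, e, zero_smul])
    exact h (Submodule.mem_span_singleton.2 ⟨a⁻¹, by rw [← ha, inv_smul_smul₀ ha0]⟩)
  have hzw : z ∉ Submodule.span F {w} := fun hmem => hzn
    (Submodule.span_mono (by simp [Matrix.range_cons, Set.insert_subset_iff]) hmem)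
  have hzw' : z ∉ Submodule.span F {w'} := fun hmem => hzn
    (Submodule.span_mono (by simp [Matrix.range_cons, Set.insert_subset_iff]) hmem)
  have h1 := hswap (hA w u hw hu hwu hw0 hun h z hz (hzo 0) hzw)
  have h2 := hswap (hA z w hz hw (swap_eq_zero hf (hzo 0 : f z w = 0)) hz0 (hsym w hw0 hzw) h1 w' hw'
    (swap_eq_zero hf (hzo 1 : f z w' = 0)) (hsym w' hw'0 hzw'))
  exact hA w' z hw' hz (hzo 1) hw'0 hzw' h2 u' hu' hwu' hu'n

/-- A good pure element forces all transvections. -/
theorem all_of_good [Finite F] {r : ℕ} (hr : r.Prime) (hcard : Nat.card F = Nat.card F₀ ^ r)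
    (hG : GoodS F₀ f M) : ∀ (v : ι → F) (a : F), tv v (a • formVec f v) ∈ M := by
  have hf := S.symp
  obtain ⟨w, u, k, hw, hu, hwu, hw0, hun, hk, hp⟩ := hG
  let D : Subalgebra F₀ F :=
    { carrier := {l | ∀ w' u', Rat F₀ w' → Rat F₀ u' → f u' w' = 0 → w' ≠ 0 →
        u' ∉ Submodule.span F {w'} → Pure f M (l • u') w'}
      add_mem' := fun {a b} ha hb w' u' hw' hu' h h0 hn => by
        obtain ⟨g, hg, hgS⟩ := ha w' u' hw' hu' h h0 hn
        obtain ⟨g', hg', hgS'⟩ := hb w' u' hw' hu' h h0 hn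
        refine ⟨g * g', M.mul_mem hg hg', ?_⟩
        have := IsS.mul hf hgS hgS' (by rw [f_smul_left hf, h, mul_zero]) (by rw [f_smul_left hf, h, mul_zero])
        rwa [f_smul_left hf, f_smul_right hf, hf.alternating, mul_zero, mul_zero, add_zero, add_zero,
          ← add_smul] at this
      mul_mem' := fun {a b} ha hb w' u' hw' hu' h h0 hn => by
        obtain ⟨y, hy, hyn, hyo⟩ := S.orth ![w', u'] (fun i => by fin_cases i; exacts [hw', hu'])
          ![w', u'] (fun i => by fin_cases i; exacts [hw', hu']) (by have := S.card; omega)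
        obtain ⟨y', hy', hy'o, hyy'⟩ := S.sep ![w', u'] (fun i => by fin_cases i; exacts [hw', hu']) hy hyn
        have hyw : y ∉ Submodule.span F {w'} := fun hm => hyn
          (Submodule.span_mono (by simp [Matrix.range_cons, Set.insert_subset_iff]) hm)
        obtain ⟨g, hg, hgS⟩ := ha w' y hw' hy (hyo 0) h0 hyw
        have hu'0 : u' ≠ 0 := fun e => hn (e ▸ Submodule.zero_mem _)
        have hy'u : y' ∉ Submodule.span F {u'} := fun hm => by
          obtain ⟨d, rfl⟩ := Submodule.mem_span_singleton.1 hm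
          rw [f_smul_right hf, show f y u' = 0 from hyo 1, mul_zero] at hyy'
          exact zero_ne_one hyy'
        exact S.step (hyo 0) (swap_eq_zero hf (hy'o 0 : f w' y' = 0)) h hyy' (hyo 1) hg hgS
          (hb u' y' hu' hy' (swap_eq_zero hf (hy'o 1 : f u' y' = 0)) hu'0 hy'u)
      algebraMap_mem' := fun l w' u' hw' hu' h _ _ => S.pure_rat hu' hw' h l.2 }
  have hrank : Module.finrank F₀ F = r := by
    have h1 := Module.natCard_eq_pow_finrank (K := F₀) (V := F)
    rw [hcard] at h1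
    exact (Nat.pow_right_injective (Finite.one_lt_card (α := F₀)) h1).symm
  haveI := Subalgebra.isSimpleOrder_of_finrank_prime F₀ F (hrank ▸ hr)
  have hD : D = ⊤ := by
    refine (eq_bot_or_eq_top D).resolve_left fun hb => hk ?_
    have hkD : k ∈ D := S.pure_all hw hu hwu hw0 hun hp
    rw [hb, Algebra.mem_bot] at hkD
    obtain ⟨x, rfl⟩ := hkD
    exact x.2
  have hDall : ∀ (l : F), l ∈ D := fun l => hD ▸ Algebra.mem_top
  -- rational centres
  have hsq : ∀ v, Rat F₀ v → v ≠ 0 → ∀ a : F, tv v ((a * a) • formVec f v) ∈ M := by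
    intro v hv hv0 a
    obtain ⟨u, hu, hun, huo⟩ := S.orth ![v] (fun i => by fin_cases i; exact hv)
      ![v] (fun i => by fin_cases i; exact hv) (by have := S.card; omega)
    have huv : f u v = 0 := huo 0
    obtain ⟨z, hz, hzo, huz⟩ := S.sep ![v] (fun i => by fin_cases i; exact hv) hu hun
    have hvz : f v z = 0 := hzo 0
    have hun' : u ∉ Submodule.span F {v} := by simpa [Matrix.range_cons] using hun
    have hzn : z ∉ Submodule.span F {v} := fun hm => by
      obtain ⟨d, rfl⟩ := Submodule.mem_span_singleton.1 hm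
      rw [f_smul_right hf, huv, mul_zero] at huz
      exact zero_ne_one huz
    obtain ⟨g, hg, hgS⟩ := hDall (-a) v u hv hu huv hv0 hun'
    have hgz : (g : Matrix ι ι F) *ᵥ z = z + a • v := by
      rw [hgS]
      simp [f_smul_right hf, f_neg_right hf, swap_eq_zero hf hvz, show f z u = -1 by rw [hf.skew, huz]]
    have h1 : tv (z + a • v) ((1 : F) • formVec f (z + a • v)) ∈ M := by
      rw [← hgz, ← tv_conj_center hf (S.iso g hg)]
      exact M.mul_mem (M.mul_mem hg (S.hT z hz 1 (one_mem _))) (M.inv_mem hg)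
    obtain ⟨g', hg', hgS'⟩ := hDall (-a) v z hv hz (swap_eq_zero hf hvz) hv0 hzn
    have hmem := M.mul_mem hg' (M.mul_mem h1 (M.inv_mem (S.hT z hz 1 (one_mem _))))
    convert hmem using 1
    refine gl_ext fun x => ?_
    rw [gl_mul_mulVec, tv_pair hf (show f z (a • v) = 0 by rw [f_smul_right hf, swap_eq_zero hf hvz, mul_zero]) 1,
      hgS', stv_mulVec hf]
    simp only [f_smul_right hf, f_smul_left hf, f_add_left hf, f_add_right hf, hvz,
      swap_eq_zero hf hvz, hf.alternating, mul_zero, add_zero, one_mul, zero_mul]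
    module
  let X : Set (ι → F) := {v | ∀ a : F, tv v (a • formVec f v) ∈ M}
  have hsmul : ∀ v ∈ X, ∀ c : F, c • v ∈ X := by
    intro v hv c a
    have : tv (c • v) (a • formVec f (c • v)) = tv v ((a * c * c) • formVec f v) := by
      refine gl_ext fun x => ?_
      rw [stv_mulVec hf, stv_mulVec hf, f_smul_right hf]
      module
    exact this ▸ hv _
  have hrat0 : ∀ v, Rat F₀ v → v ∈ X := by
    intro v hv a
    rcases eq_or_ne v 0 with rfl | hv0
    · rw [tv_zero_left]; exact M.one_mem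
    by_cases h2 : (2 : F) = 0
    · have hchar : ringChar F = 2 := ringChar.eq_iff.2 ((CharP.charP_iff_prime_eq_zero Nat.prime_two).2 h2)
      obtain ⟨b, rfl⟩ := FiniteField.isSquare_of_char_two hchar a
      exact hsq v hv hv0 b
    · have := M.mul_mem (hsq v hv hv0 ((a + 1) / 2)) (M.inv_mem (hsq v hv hv0 ((a - 1) / 2)))
      convert this using 1
      refine gl_ext fun x => ?_
      rw [tv_inv (stv_dot hf v _), ← neg_smul, gl_mul_mulVec, stv_mulVec hf, stv_mulVec hf, stv_mulVec hf,
        f_add_left hf, f_smul_left hf, hf.alternating]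
      rw [add_assoc, ← add_smul]
      congr 2
      field_simp
      ring
  have hstep : ∀ v ∈ X, ∀ g ∈ M, (g : Matrix ι ι F) *ᵥ v ∈ X := by
    intro v hv g hg a
    rw [← tv_conj_center hf (S.iso g hg)]
    exact M.mul_mem (M.mul_mem hg (hv a)) (M.inv_mem hg)
  have hadd : ∀ v ∈ X, ∀ z, Rat F₀ z → ∀ t : F, v + t • z ∈ X := by
    intro v hv z hz t
    rcases eq_or_ne v 0 with rfl | hv0
    · rw [zero_add]; exact hsmul z (hrat0 z hz) t
    rcases eq_or_ne z 0 with rfl | hz0
    · rw [smul_zero, add_zero]; exact hv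
    by_cases hvz : f v z = 0
    · by_cases hex : ∃ y, Rat F₀ y ∧ f y z = 0 ∧ f v y ≠ 0
      · obtain ⟨y, hy, hyz, hvy⟩ := hex
        have hyn : y ∉ Submodule.span F {z} := fun hm => by
          obtain ⟨d, rfl⟩ := Submodule.mem_span_singleton.1 hm
          exact hvy (by rw [f_smul_right hf, hvz, mul_zero])
        obtain ⟨g, hg, hgS⟩ := hDall (t / f v y) z y hz hy hyz hz0 hyn
        have : (g : Matrix ι ι F) *ᵥ v = v + t • z := by
          rw [hgS]
          simp [f_smul_right hf, hvz, hvy]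
        exact this ▸ hstep v hv g hg
      · push Not at hex
        -- `v` is a multiple of `z`
        have hφ : Rat F₀ (formVec f z) := S.rat_formVec hz
        obtain ⟨i, hi⟩ := Function.ne_iff.1 (formVec_ne_zero S.hl hf.nondegenerate hz0)
        simp only [Pi.zero_apply] at hi
        set d := formVec f v i / formVec f z i
        have hv' : v = d • z := by
          by_contra hne
          obtain ⟨⟨x, hx⟩, -⟩ := hf.nondegenerate _ (sub_ne_zero.2 hne)
          apply hx
          have hprop : formVec f v = d • formVec f z := by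
            funext j
            have hy := hex (formVec f z i • Pi.single j 1 - formVec f z j • Pi.single i 1)
              (((Rat.single j (one_mem _)).smul (hφ i)).sub ((Rat.single i (one_mem _)).smul (hφ j)))
              (by rw [← fv_dot hf]; simp [dotProduct_sub]; ring)
            rw [hf.skew, ← fv_dot hf] at hy
            simp [dotProduct_sub] at hy
            rw [Pi.smul_apply, smul_eq_mul, div_mul_eq_mul_div, eq_div_iff hi]
            linear_combination -hy
          have h1 := hf.bilinear.add_right x (v - d • z) (d • z)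
          rw [sub_add_cancel, f_smul_right hf, ← fv_dot hf v, ← fv_dot hf z, hprop, smul_dotProduct,
            smul_eq_mul] at h1
          linear_combination -h1
        rw [hv', ← add_smul]
        exact hsmul z (hrat0 z hz) _
    · have h1 := hrat0 z hz (t / f v z)
      have : ((tv z ((t / f v z) • formVec f z) : GL ι F) : Matrix ι ι F) *ᵥ v = v + t • z := by
        rw [stv_mulVec hf, div_mul_cancel₀ _ hvz]
      exact this ▸ hstep v hv _ h1
  intro v
  show v ∈ X
  have hall : ∀ s : Finset ι, ∑ i ∈ s, v i • (Pi.single i 1 : ι → F) ∈ X := by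
    intro s
    classical
    induction s using Finset.induction_on with
    | empty => rw [Finset.sum_empty]; exact hrat0 0 fun _ => zero_mem _
    | insert i s hi ih =>
      rw [Finset.sum_insert hi, add_comm]
      exact hadd _ ih _ (Rat.single i (one_mem _)) _
  have hv : v = ∑ i, v i • (Pi.single i 1 : ι → F) := by
    conv_lhs => rw [← Finset.univ_sum_single v]
    exact Finset.sum_congr rfl fun i _ => by rw [← Pi.single_smul, smul_eq_mul, mul_one]
  rw [hv]
  exact hall Finset.univ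

end Setting

end Cfsg.Agent.Lib.SubfieldMax.Symplectic
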